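import Mathlib

set_option autoImplicit false

/-! A general counting lemma (helper7, for the S1159 call): if a subgroup `N` stabilizes the set
`S` under conjugation, and `g s g⁻¹ ∈ S` for some `s ∈ S` forces `g ∈ N`, then the set of
elements conjugate into `S` has `|G| |S| / |N|` elements. -/

namespace Cfsg.Agent.Lib.Helper7.ReeSpTICount

universe u

/-- the pairs `(x, y)` with `x y x⁻¹ ∈ S` correspond to `G × S` -/
noncomputable def pairEquiv {G : Type u} [Group G] (S : Set G) :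
    {p : G × G // p.1 * p.2 * p.1⁻¹ ∈ S} ≃ G × S where
  toFun p := (p.1.1, ⟨p.1.1 * p.1.2 * p.1.1⁻¹, p.2⟩)
  invFun q := ⟨(q.1, q.1⁻¹ * q.2.1 * q.1), by
    have h := q.2.2
    have e : q.1 * (q.1⁻¹ * q.2.1 * q.1) * q.1⁻¹ = q.2.1 := by group
    show q.1 * (q.1⁻¹ * q.2.1 * q.1) * q.1⁻¹ ∈ S
    rw [e]; exact h⟩
  left_inv p := by
    apply Subtype.ext
    apply Prod.ext
    · rfl
    · show p.1.1⁻¹ * (p.1.1 * p.1.2 * p.1.1⁻¹) * p.1.1 = p.1.2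
      group
  right_inv q := by
    apply Prod.ext
    · rfl
    · apply Subtype.ext
      show q.1 * (q.1⁻¹ * q.2.1 * q.1) * q.1⁻¹ = q.2.1
      group

/-- the pairs `(x, y)` with `x y x⁻¹ ∈ S` correspond to `T × N` -/
noncomputable def fibEquiv {G : Type u} [Group G] (S : Set G) (N : Subgroup G)
    (hN : ∀ g ∈ N, ∀ s ∈ S, g * s * g⁻¹ ∈ S)
    (hTI : ∀ g : G, ∀ s ∈ S, g * s * g⁻¹ ∈ S → g ∈ N) :
    {p : G × G // p.1 * p.2 * p.1⁻¹ ∈ S} ≃ {y : G // ∃ x : G, x * y * x⁻¹ ∈ S} × N where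
  toFun p := (⟨p.1.2, ⟨p.1.1, p.2⟩⟩,
    ⟨p.1.1 * (Classical.choose (⟨p.1.1, p.2⟩ : ∃ x : G, x * p.1.2 * x⁻¹ ∈ S))⁻¹, by
      have h0 := Classical.choose_spec (⟨p.1.1, p.2⟩ : ∃ x : G, x * p.1.2 * x⁻¹ ∈ S)
      refine hTI _ _ h0 ?_
      have e : p.1.1 * (Classical.choose (⟨p.1.1, p.2⟩ : ∃ x : G, x * p.1.2 * x⁻¹ ∈ S))⁻¹ *
          ((Classical.choose (⟨p.1.1, p.2⟩ : ∃ x : G, x * p.1.2 * x⁻¹ ∈ S)) * p.1.2 *
            (Classical.choose (⟨p.1.1, p.2⟩ : ∃ x : G, x * p.1.2 * x⁻¹ ∈ S))⁻¹) *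
          (p.1.1 * (Classical.choose (⟨p.1.1, p.2⟩ : ∃ x : G, x * p.1.2 * x⁻¹ ∈ S))⁻¹)⁻¹ =
          p.1.1 * p.1.2 * p.1.1⁻¹ := by group
      rw [e]; exact p.2⟩)
  invFun q := ⟨(q.2.1 * Classical.choose q.1.2, q.1.1), by
    have h0 := Classical.choose_spec q.1.2
    have h1 := hN q.2.1 q.2.2 _ h0
    have e : q.2.1 * Classical.choose q.1.2 * q.1.1 * (q.2.1 * Classical.choose q.1.2)⁻¹ =
        q.2.1 * (Classical.choose q.1.2 * q.1.1 * (Classical.choose q.1.2)⁻¹) * q.2.1⁻¹ := by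
      group
    show q.2.1 * Classical.choose q.1.2 * q.1.1 * (q.2.1 * Classical.choose q.1.2)⁻¹ ∈ S
    rw [e]; exact h1⟩
  left_inv p := by
    apply Subtype.ext
    apply Prod.ext
    · show p.1.1 * (Classical.choose (⟨p.1.1, p.2⟩ : ∃ x : G, x * p.1.2 * x⁻¹ ∈ S))⁻¹ *
        Classical.choose (⟨p.1.1, p.2⟩ : ∃ x : G, x * p.1.2 * x⁻¹ ∈ S) = p.1.1
      group
    · rfl
  right_inv q := by
    apply Prod.ext
    · rfl
    · apply Subtype.ext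
      show q.2.1 * Classical.choose q.1.2 * (Classical.choose q.1.2)⁻¹ = q.2.1
      group

/-- **TI count**: `|{y | ∃ x, x y x⁻¹ ∈ S}| · |N| = |G| · |S|`. -/
theorem ti_count {G : Type u} [Group G] (S : Set G) (N : Subgroup G)
    (hN : ∀ g ∈ N, ∀ s ∈ S, g * s * g⁻¹ ∈ S)
    (hTI : ∀ g : G, ∀ s ∈ S, g * s * g⁻¹ ∈ S → g ∈ N) :
    Nat.card {y : G // ∃ x : G, x * y * x⁻¹ ∈ S} * Nat.card N = Nat.card G * Nat.card S := by
  rw [← Nat.card_prod, ← Nat.card_prod]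
  exact Nat.card_congr ((fibEquiv S N hN hTI).symm.trans (pairEquiv S))

end Cfsg.Agent.Lib.Helper7.ReeSpTICount
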