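import Mathlib
import Cfsg.Agent.Lib.Helper42.ReeSpStmt
import Cfsg.Agent.Lib.Helper7.ReeSpTICount

set_option autoImplicit false

/-! Piece ORB of S1159 (helper7): the orbit decomposition of the elements of the third kind. -/

namespace Cfsg.Agent.Lib.Helper7.ReeSpORB

open Cfsg.Agent.Lib.Helper42.ReeSpStmt
open Cfsg.Agent.Lib.Helper7.ReeSpTICount

universe u v

section generic

open scoped Pointwise

variable {G : Type u} [Group G]

theorem mem_cent_iff (a y : G) :
    y ∈ Subgroup.centralizer ({a} : Set G) ↔ y * a = a * y :=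
  Subgroup.mem_centralizer_singleton_iff

theorem self_mem_cent (a : G) : a ∈ Subgroup.centralizer ({a} : Set G) := by
  rw [mem_cent_iff]

theorem mem_cent_conj (x a y : G) :
    y ∈ Subgroup.centralizer ({x * a * x⁻¹} : Set G) ↔
      x⁻¹ * y * x ∈ Subgroup.centralizer ({a} : Set G) := by
  rw [mem_cent_iff, mem_cent_iff]
  constructor
  · intro h
    calc x⁻¹ * y * x * a = x⁻¹ * (y * (x * a * x⁻¹)) * x := by group
      _ = x⁻¹ * (x * a * x⁻¹ * y) * x := by rw [h]
      _ = a * (x⁻¹ * y * x) := by group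
  · intro h
    calc y * (x * a * x⁻¹) = x * (x⁻¹ * y * x * a) * x⁻¹ := by group
      _ = x * (a * (x⁻¹ * y * x)) * x⁻¹ := by rw [h]
      _ = x * a * x⁻¹ * y := by group

theorem cent_conj_congr {a b : G} (x : G)
    (h : Subgroup.centralizer ({a} : Set G) = Subgroup.centralizer ({b} : Set G)) :
    Subgroup.centralizer ({x * a * x⁻¹} : Set G) =
      Subgroup.centralizer ({x * b * x⁻¹} : Set G) := by
  ext y
  rw [mem_cent_conj, mem_cent_conj, h]

theorem cent_le_of_mem_zpowers {a b : G} (h : b ∈ Subgroup.zpowers a) :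
    Subgroup.centralizer ({a} : Set G) ≤ Subgroup.centralizer ({b} : Set G) := by
  obtain ⟨k, rfl⟩ := Subgroup.mem_zpowers_iff.mp h
  intro y hy
  rw [mem_cent_iff] at hy ⊢
  exact (Commute.zpow_right (show Commute y a from hy) k).eq

/-- conjugacy of the centralizers -/
def crel (g g' : G) : Prop :=
  ∃ x : G, Subgroup.centralizer ({x * g * x⁻¹} : Set G) = Subgroup.centralizer ({g'} : Set G)

theorem crel_refl (g : G) : crel g g := ⟨1, by simp⟩

theorem crel_symm {g g' : G} (h : crel g g') : crel g' g := by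
  obtain ⟨x, hx⟩ := h
  refine ⟨x⁻¹, ?_⟩
  have h1 := cent_conj_congr x⁻¹ hx.symm
  have e : x⁻¹ * (x * g * x⁻¹) * x⁻¹⁻¹ = g := by group
  rw [e] at h1
  exact h1

theorem crel_trans {g g' g'' : G} (h : crel g g') (h' : crel g' g'') : crel g g'' := by
  obtain ⟨x, hx⟩ := h
  obtain ⟨y, hy⟩ := h'
  refine ⟨y * x, ?_⟩
  have h1 := cent_conj_congr y hx
  have e : y * (x * g * x⁻¹) * y⁻¹ = y * x * g * (y * x)⁻¹ := by group
  rw [e] at h1
  exact h1.trans hy

theorem ord_conj (x g : G) : orderOf (x * g * x⁻¹) = orderOf g :=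
  (MulAut.conj x).orderOf_eq g

theorem card_nonone [Finite G] (C : Subgroup G) :
    Nat.card ↥({s : G | s ∈ C ∧ s ≠ 1} : Set G) = Nat.card ↥C - 1 := by
  have h1 : ({s : G | s ∈ C ∧ s ≠ 1} : Set G) = (C : Set G) \ {1} := by
    ext s; simp
  rw [Nat.card_coe_set_eq, h1, Set.ncard_sdiff_singleton_of_mem (C.one_mem)]
  rfl

/-- in a finite cyclic group, elements of the same order generate the same subgroup -/
theorem mem_zpowers_of_orderOf_eq {α : Type u} [Group α] [Finite α] [IsCyclic α] {a b : α}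
    (h : orderOf b = orderOf a) : b ∈ Subgroup.zpowers a := by
  classical
  have : Fintype α := Fintype.ofFinite α
  have hp : 0 < orderOf a := orderOf_pos a
  have hle := IsCyclic.card_pow_eq_one_le (α := α) hp
  have hsub : (Subgroup.zpowers a : Set α).toFinset ⊆
      Finset.univ.filter (fun z : α => z ^ orderOf a = 1) := by
    intro z hz
    rw [Set.mem_toFinset] at hz
    obtain ⟨k, rfl⟩ := Subgroup.mem_zpowers_iff.mp hz
    simp only [Finset.mem_filter, Finset.mem_univ, true_and]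
    rw [← zpow_natCast, ← zpow_mul, mul_comm, zpow_mul, zpow_natCast, pow_orderOf_eq_one,
      one_zpow]
  have hcard : (Subgroup.zpowers a : Set α).toFinset.card = orderOf a := by
    rw [Set.toFinset_card]; exact Fintype.card_zpowers
  have heq := Finset.eq_of_subset_of_card_le hsub (by rw [hcard]; exact hle)
  have hb : b ∈ Finset.univ.filter (fun z : α => z ^ orderOf a = 1) := by
    simp only [Finset.mem_filter, Finset.mem_univ, true_and]
    rw [← h]; exact pow_orderOf_eq_one b
  rw [← heq, Set.mem_toFinset] at hb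
  exact hb

theorem mem_zpowers_sub [Finite G] (P : Subgroup G) (hP : IsCyclic ↥P) {a b : G} (ha : a ∈ P)
    (hb : b ∈ P) (h : orderOf b = orderOf a) : b ∈ Subgroup.zpowers a := by
  have h' : orderOf (⟨b, hb⟩ : ↥P) = orderOf (⟨a, ha⟩ : ↥P) := by
    rw [Subgroup.orderOf_mk, Subgroup.orderOf_mk]; exact h
  have h1 := mem_zpowers_of_orderOf_eq h'
  obtain ⟨k, hk⟩ := Subgroup.mem_zpowers_iff.mp h1
  refine Subgroup.mem_zpowers_iff.mpr ⟨k, ?_⟩
  have := congrArg Subtype.val hk
  simpa using this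

/-- representatives of the classes of an equivalence relation on a finite type -/
theorem exists_reps {X : Type u} [Finite X] (r : Setoid X) :
    ∃ (k : ℕ) (f : Fin k → X), (∀ x, ∃ i, r.r x (f i)) ∧ (∀ i j, r.r (f i) (f j) → i = j) := by
  have hfin : Finite (Quotient r) := Quotient.finite r
  refine ⟨Nat.card (Quotient r), fun i => ((Finite.equivFin (Quotient r)).symm i).out, ?_, ?_⟩
  · intro x
    refine ⟨Finite.equivFin (Quotient r) (Quotient.mk r x), ?_⟩
    apply Quotient.exact
    beta_reduce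
    rw [Equiv.symm_apply_apply, Quotient.out_eq]
  · intro i j h
    have h1 : Quotient.mk r ((Finite.equivFin (Quotient r)).symm i).out =
        Quotient.mk r ((Finite.equivFin (Quotient r)).symm j).out := Quotient.sound h
    rw [Quotient.out_eq, Quotient.out_eq] at h1
    exact (Finite.equivFin (Quotient r)).symm.injective h1

/-- two elements of prime order `p`: one lies in a Sylow `p`-subgroup containing a conjugate of
the other -/
theorem sylow_conj_mem [Finite G] {p : ℕ} [Fact p.Prime] {y y' : G} (hy : orderOf y = p)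
    (hy' : orderOf y' = p) : ∃ (P : Sylow p G) (x : G), y ∈ P ∧ x * y' * x⁻¹ ∈ P := by
  have h1 : IsPGroup p ↥(Subgroup.zpowers y) :=
    IsPGroup.of_card (n := 1) (by rw [Nat.card_zpowers, hy, pow_one])
  have h2 : IsPGroup p ↥(Subgroup.zpowers y') :=
    IsPGroup.of_card (n := 1) (by rw [Nat.card_zpowers, hy', pow_one])
  obtain ⟨P, hP⟩ := h1.exists_le_sylow
  obtain ⟨P', hP'⟩ := h2.exists_le_sylow
  obtain ⟨x, hx⟩ := MulAction.exists_smul_eq G P' P
  refine ⟨P, x, hP (Subgroup.mem_zpowers y), ?_⟩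
  rw [← hx]
  have h3 : MulAut.conj x • y' ∈ MulAut.conj x • (P' : Subgroup G) :=
    Subgroup.smul_mem_pointwise_smul_iff.mpr (hP' (Subgroup.mem_zpowers y'))
  exact h3

end generic

/-! ### arithmetic -/

theorem coprime_aux (X f t c : ℕ) (h : X = f * t + c) (hc : ∀ d, d ∣ c → d ∣ f → d = 1) :
    Nat.Coprime X f := by
  have h1 : Nat.gcd X f ∣ f * t + c := by
    conv_rhs => rw [← h]
    exact Nat.gcd_dvd_left X f
  have h2 : Nat.gcd X f ∣ f := Nat.gcd_dvd_right X f
  exact hc _ ((Nat.dvd_add_right (Dvd.dvd.mul_right h2 t)).mp h1) h2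

theorem coprime_Q (m : ℕ) :
    Nat.Coprime (qq m ^ 2 - qq m + 1) (qq m * (qq m ^ 2 - 1)) := by
  have hq3 := three_le_qq m
  have h3 : 3 ∣ qq m := dvd_pow_self 3 (by omega)
  obtain ⟨a, ha⟩ : ∃ a, qq m = a + 3 := ⟨qq m - 3, by omega⟩
  rw [ha] at h3 ⊢
  have e0 : (a + 3) ^ 2 - (a + 3) = a ^ 2 + 5 * a + 6 := by
    apply Nat.sub_eq_of_eq_add; ring
  have e2 : (a + 3) ^ 2 - 1 = (a + 2) * (a + 4) := by
    apply Nat.sub_eq_of_eq_add; ring
  rw [e0, e2]
  apply Nat.Coprime.mul_right
  · exact coprime_aux _ (a + 3) (a + 2) 1 (by ring) (fun d hd _ => Nat.dvd_one.mp hd)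
  · apply Nat.Coprime.mul_right
    · exact coprime_aux _ (a + 2) (a + 3) 1 (by ring) (fun d hd _ => Nat.dvd_one.mp hd)
    · refine coprime_aux _ (a + 4) (a + 1) 3 (by ring) (fun d hd hd' => ?_)
      rcases (Nat.dvd_prime Nat.prime_three).mp hd with h | h
      · exact h
      · exfalso
        rw [h] at hd'
        omega

theorem Q_dvd_card (m : ℕ) :
    qq m ^ 2 - qq m + 1 ∣ qq m ^ 3 * (qq m - 1) * (qq m ^ 3 + 1) := by
  have hq3 := three_le_qq m
  obtain ⟨a, ha⟩ : ∃ a, qq m = a + 3 := ⟨qq m - 3, by omega⟩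
  rw [ha]
  have e0 : (a + 3) ^ 2 - (a + 3) = a ^ 2 + 5 * a + 6 := by
    apply Nat.sub_eq_of_eq_add; ring
  rw [e0]
  have e1 : (a + 3) ^ 3 + 1 = (a + 4) * (a ^ 2 + 5 * a + 6 + 1) := by ring
  rw [e1]
  exact Dvd.dvd.mul_left (dvd_mul_left _ _) _

theorem prime_gt_three {p m : ℕ} (hp : p.Prime) (h : p ∣ qq m ^ 2 - qq m + 1) : 3 < p := by
  have hq3 := three_le_qq m
  have hc := coprime_Q m
  have h3 : 3 ∣ qq m := dvd_pow_self 3 (by omega)
  have hodd : ¬ 2 ∣ qq m := by
    intro h2
    have := (Nat.Prime.dvd_of_dvd_pow Nat.prime_two h2)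
    omega
  have hsq : qq m ^ 2 - 1 = (qq m - 1) * (qq m + 1) := by
    obtain ⟨a, ha⟩ : ∃ a, qq m = a + 1 := ⟨qq m - 1, by omega⟩
    rw [ha]
    have e : a + 1 - 1 = a := by omega
    rw [e]
    apply Nat.sub_eq_of_eq_add
    ring
  have h2 : 2 ∣ qq m * (qq m ^ 2 - 1) := by
    rw [hsq]
    have : 2 ∣ qq m - 1 := by omega
    exact Dvd.dvd.mul_left (Dvd.dvd.mul_right this _) _
  have h3' : 3 ∣ qq m * (qq m ^ 2 - 1) := Dvd.dvd.mul_right h3 _
  have hp2 : p ≠ 2 := by
    rintro rfl
    have := Nat.dvd_gcd h h2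
    rw [hc] at this
    omega
  have hp3 : p ≠ 3 := by
    rintro rfl
    have := Nat.dvd_gcd h h3'
    rw [hc] at this
    omega
  have := hp.two_le
  omega

/-! ### the piece -/

theorem main : Orb.{u, v} := by
  intro G _ _ U H A K _ _ m hax hHall
  classical
  have hq3 := three_le_qq m
  have hcop := coprime_Q m
  have hQG : qq m ^ 2 - qq m + 1 ∣ Nat.card G := by
    rw [hax.card]; exact Q_dvd_card m
  -- representatives
  let r : Setoid {g : G // P3 G m g} :=
    { r := fun a b => crel a.1 b.1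
      iseqv := ⟨fun a => crel_refl a.1, fun h => crel_symm h, fun h h' => crel_trans h h'⟩ }
  obtain ⟨k, f, hcov, huniq⟩ := exists_reps r
  have hcov' : ∀ g : G, P3 G m g → ∃ i, crel g (f i).1 := fun g hg => hcov ⟨g, hg⟩
  have huniq' : ∀ i j, crel (f i).1 (f j).1 → i = j := huniq
  clear_value r
  -- elements of the centralizers
  have hP3mem : ∀ (g : G), P3 G m g → ∀ y : G, y ∈ Subgroup.centralizer ({g} : Set G) →
      y ≠ 1 → P3 G m y := by
    intro g hg y hy hy1
    refine ⟨hy1, ?_⟩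
    have h1 : orderOf y ∣ Nat.card ↥(Subgroup.centralizer ({g} : Set G)) :=
      Subgroup.orderOf_dvd_natCard _ hy
    exact Nat.Coprime.coprime_dvd_left (h1.trans (hHall g hg).2.2.1) hcop
  have hP3prime : ∀ (y : G) (p : ℕ), p.Prime → p ∣ qq m ^ 2 - qq m + 1 → orderOf y = p →
      P3 G m y := by
    intro y p hp hpQ hy
    refine ⟨?_, ?_⟩
    · rintro rfl
      rw [orderOf_one] at hy
      exact hp.ne_one hy.symm
    · rw [hy]
      exact Nat.Coprime.coprime_dvd_left hpQ hcop
  set C : Fin k → Subgroup G := fun i => Subgroup.centralizer ({(f i).1} : Set G) with hC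
  have hCi : ∀ i, C i = Subgroup.centralizer ({(f i).1} : Set G) := fun i => rfl
  have hcent : ∀ i, ∀ y ∈ C i, y ≠ 1 → Subgroup.centralizer ({y} : Set G) = C i :=
    fun i => (hHall _ (f i).2).2.2.2.1
  have hcpos : ∀ i, 0 < Nat.card ↥(C i) := fun i => Nat.card_pos
  have hCN : ∀ i, Nat.card ↥(C i) ∣ Nat.card ↥(Subgroup.normalizer (C i : Set G)) :=
    fun i => Subgroup.card_dvd_of_le Subgroup.le_normalizer
  have hNC : ∀ i, Nat.card ↥(Subgroup.normalizer (C i : Set G)) =
      Nat.card ↥(Subgroup.normalizer (C i : Set G)) / Nat.card ↥(C i) * Nat.card ↥(C i) :=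
    fun i => (Nat.div_mul_cancel (hCN i)).symm
  have hcQ : ∀ i, Nat.card ↥(C i) ∣ qq m ^ 2 - qq m + 1 := fun i => (hHall _ (f i).2).2.2.1
  -- the sets `S i` and the elements conjugate into them
  have hTP3 : ∀ i (y : G), (∃ x : G, x * y * x⁻¹ ∈ ({s : G | s ∈ C i ∧ s ≠ 1} : Set G)) →
      P3 G m y := by
    rintro i y ⟨x, hx, hx1⟩
    have h1 := hP3mem (f i).1 (f i).2 (x * y * x⁻¹) hx hx1
    refine ⟨?_, ?_⟩
    · rintro rfl
      exact hx1 (by group)
    · have := h1.2
      rw [ord_conj] at this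
      exact this
  have hTuniq : ∀ i j (y : G),
      (∃ x : G, x * y * x⁻¹ ∈ ({s : G | s ∈ C i ∧ s ≠ 1} : Set G)) →
      (∃ x : G, x * y * x⁻¹ ∈ ({s : G | s ∈ C j ∧ s ≠ 1} : Set G)) → i = j := by
    rintro i j y ⟨x, hx, hx1⟩ ⟨x', hx', hx1'⟩
    have h1 := hcent i _ hx hx1
    have h2 := hcent j _ hx' hx1'
    apply huniq' i j
    refine ⟨x' * x⁻¹, ?_⟩
    have h3 := cent_conj_congr (x' * x⁻¹) h1.symm
    have e : (x' * x⁻¹) * (x * y * x⁻¹) * (x' * x⁻¹)⁻¹ = x' * y * x'⁻¹ := by group
    rw [e] at h3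
    exact h3.trans h2
  have hTex : ∀ g : G, P3 G m g →
      ∃ i, ∃ x : G, x * g * x⁻¹ ∈ ({s : G | s ∈ C i ∧ s ≠ 1} : Set G) := by
    intro g hg
    obtain ⟨i, x, hx⟩ := hcov' g hg
    refine ⟨i, x, ?_, ?_⟩
    · show x * g * x⁻¹ ∈ Subgroup.centralizer ({(f i).1} : Set G)
      rw [← hx]
      exact self_mem_cent _
    · intro h
      apply hg.1
      have : g = x⁻¹ * (x * g * x⁻¹) * x := by group
      rw [this, h]
      group
  have hTcount : ∀ i,
      Nat.card {y : G // ∃ x : G, x * y * x⁻¹ ∈ ({s : G | s ∈ C i ∧ s ≠ 1} : Set G)} =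
        (Nat.card ↥(C i) - 1) *
          (Nat.card G / (Nat.card ↥(Subgroup.normalizer (C i : Set G)) / Nat.card ↥(C i) *
            Nat.card ↥(C i))) := by
    intro i
    have hN : ∀ g ∈ Subgroup.normalizer (C i : Set G),
        ∀ s ∈ ({s : G | s ∈ C i ∧ s ≠ 1} : Set G),
        g * s * g⁻¹ ∈ ({s : G | s ∈ C i ∧ s ≠ 1} : Set G) := by
      rintro g hg s ⟨hs, hs1⟩
      refine ⟨(Subgroup.mem_normalizer_iff.mp hg s).mp hs, ?_⟩
      intro h
      apply hs1
      have : s = g⁻¹ * (g * s * g⁻¹) * g := by group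
      rw [this, h]
      group
    have hTI : ∀ g : G, ∀ s ∈ ({s : G | s ∈ C i ∧ s ≠ 1} : Set G),
        g * s * g⁻¹ ∈ ({s : G | s ∈ C i ∧ s ≠ 1} : Set G) →
        g ∈ Subgroup.normalizer (C i : Set G) := by
      rintro g s ⟨hs, hs1⟩ ⟨hs', hs1'⟩
      have h1 := hcent i _ hs hs1
      have h2 := hcent i _ hs' hs1'
      rw [Subgroup.mem_normalizer_iff]
      intro y
      have hiff : y ∈ Subgroup.centralizer ({s} : Set G) ↔
          g * y * g⁻¹ ∈ Subgroup.centralizer ({g * s * g⁻¹} : Set G) := by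
        rw [mem_cent_conj]
        have e : g⁻¹ * (g * y * g⁻¹) * g = y := by group
        rw [e]
      rw [h1, h2] at hiff
      exact hiff
    have h := ti_count _ _ hN hTI
    rw [card_nonone] at h
    rw [← hNC i]
    have hdvd : Nat.card ↥(Subgroup.normalizer (C i : Set G)) ∣ Nat.card G :=
      Subgroup.card_subgroup_dvd_card _
    obtain ⟨d, hd⟩ := hdvd
    have hpos : 0 < Nat.card ↥(Subgroup.normalizer (C i : Set G)) := Nat.card_pos
    rw [hd, Nat.mul_div_cancel_left _ hpos]
    rw [hd] at h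
    have h' : Nat.card {y : G // ∃ x : G, x * y * x⁻¹ ∈ ({s : G | s ∈ C i ∧ s ≠ 1} : Set G)} *
        Nat.card ↥(Subgroup.normalizer (C i : Set G)) =
        (Nat.card ↥(C i) - 1) * d * Nat.card ↥(Subgroup.normalizer (C i : Set G)) := by
      rw [h]; ring
    exact Nat.eq_of_mul_eq_mul_right hpos h'
  refine ⟨k, fun i => Nat.card ↥(C i),
    fun i => Nat.card ↥(Subgroup.normalizer (C i : Set G)) / Nat.card ↥(C i), C,
    ?_, ?_, ?_, ?_, ?_, ?_, ?_, ?_⟩
  · exact fun i => (hHall _ (f i).2).2.1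
  · exact fun i => rfl
  · intro i
    show 1 < Nat.card ↥(C i)
    rw [Subgroup.one_lt_card_iff_ne_bot]
    intro hbot
    have h1 : (f i).1 ∈ C i := self_mem_cent (f i).1
    rw [hbot, Subgroup.mem_bot] at h1
    exact (f i).2.1 h1
  · intro i
    have h6 := (hHall _ (f i).2).2.2.2.2
    have h6' : Nat.card ↥(Subgroup.normalizer (C i : Set G)) ∣ 6 * Nat.card ↥(C i) := h6
    rw [hNC i] at h6'
    exact Nat.dvd_of_mul_dvd_mul_right (hcpos i) h6'
  · intro i
    show Nat.card ↥(Subgroup.normalizer (C i : Set G)) / Nat.card ↥(C i) * Nat.card ↥(C i) ∣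
      Nat.card G
    rw [← hNC i]
    exact Subgroup.card_subgroup_dvd_card _
  · -- the product
    apply Nat.dvd_antisymm
    · -- pairwise coprime
      have hpc : ∀ i j, i ≠ j → Nat.Coprime (Nat.card ↥(C i)) (Nat.card ↥(C j)) := by
        intro i j hij
        by_contra hnc
        obtain ⟨p, hp, hpi, hpj⟩ := Nat.Prime.not_coprime_iff_dvd.mp hnc
        have : Fact p.Prime := ⟨hp⟩
        obtain ⟨yi, hyi⟩ := exists_prime_orderOf_dvd_card' (G := ↥(C i)) p hpi
        obtain ⟨yj, hyj⟩ := exists_prime_orderOf_dvd_card' (G := ↥(C j)) p hpj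
        have hoi : orderOf (yi : G) = p := by rw [Subgroup.orderOf_coe]; exact hyi
        have hoj : orderOf (yj : G) = p := by rw [Subgroup.orderOf_coe]; exact hyj
        obtain ⟨P, x, hyP, hxP⟩ := sylow_conj_mem hoi hoj
        have hp3 : 3 < p := prime_gt_three hp (hpi.trans (hcQ i))
        have hcyc := hax.cycSyl p hp3 P
        have hob : orderOf (x * (yj : G) * x⁻¹) = p := by rw [ord_conj]; exact hoj
        have hm1 := mem_zpowers_sub (P : Subgroup G) hcyc hyP hxP (hob.trans hoi.symm)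
        have hm2 := mem_zpowers_sub (P : Subgroup G) hcyc hxP hyP (hoi.trans hob.symm)
        have hCeq : Subgroup.centralizer ({x * (yj : G) * x⁻¹} : Set G) =
            Subgroup.centralizer ({(yi : G)} : Set G) :=
          le_antisymm (cent_le_of_mem_zpowers hm2) (cent_le_of_mem_zpowers hm1)
        have hyi1 : (yi : G) ≠ 1 := by
          intro h; rw [h, orderOf_one] at hoi; exact hp.ne_one hoi.symm
        have hyj1 : (yj : G) ≠ 1 := by
          intro h; rw [h, orderOf_one] at hoj; exact hp.ne_one hoj.symm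
        have h1 := hcent i (yi : G) yi.2 hyi1
        have h2 := hcent j (yj : G) yj.2 hyj1
        have h3 := cent_conj_congr x h2
        have hrel : crel (f j).1 (f i).1 := ⟨x, h3.symm.trans (hCeq.trans h1)⟩
        exact hij (huniq' j i hrel).symm
      have hlcm : (Finset.univ : Finset (Fin k)).lcm (fun i => Nat.card ↥(C i)) =
          ∏ i, Nat.card ↥(C i) := by
        apply Finset.lcm_eq_prod
        intro i _ j _ hij
        exact hpc i j hij
      rw [← hlcm]
      exact Finset.lcm_dvd (fun i _ => hcQ i)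
    · rw [Nat.dvd_iff_prime_pow_dvd_dvd]
      intro p e hp hpe
      rcases Nat.eq_zero_or_pos e with rfl | hepos
      · simp
      · have : Fact p.Prime := ⟨hp⟩
        have hpQ : p ∣ qq m ^ 2 - qq m + 1 := (dvd_pow_self p (by omega)).trans hpe
        have hp3 : 3 < p := prime_gt_three hp hpQ
        let P : Sylow p G := default
        have hcyc := hax.cycSyl p hp3 P
        have hpP : p ^ e ∣ Nat.card ↥(P : Subgroup G) :=
          P.pow_dvd_card_of_pow_dvd_card (hpe.trans hQG)
        have hpP1 : p ∣ Nat.card ↥(P : Subgroup G) := (dvd_pow_self p (by omega)).trans hpP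
        obtain ⟨y, hy⟩ := exists_prime_orderOf_dvd_card' (G := ↥(P : Subgroup G)) p hpP1
        have hoy : orderOf (y : G) = p := by rw [Subgroup.orderOf_coe]; exact hy
        have hy3 := hP3prime (y : G) p hp hpQ hoy
        obtain ⟨i, x, hx, hx1⟩ := hTex (y : G) hy3
        have hcx := hcent i _ hx hx1
        -- `P` centralizes `y`
        have hPy : (P : Subgroup G) ≤ Subgroup.centralizer ({(y : G)} : Set G) := by
          intro z hz
          rw [mem_cent_iff]
          have hcomm := (IsCyclic.commGroup (α := ↥(P : Subgroup G))).mul_comm ⟨z, hz⟩ y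
          exact congrArg Subtype.val hcomm
        have hmap : (P : Subgroup G).map (MulAut.conj x).toMonoidHom ≤ C i := by
          rintro _ ⟨z, hz, rfl⟩
          rw [← hcx]
          show x * z * x⁻¹ ∈ _
          rw [mem_cent_conj]
          have e1 : x⁻¹ * (x * z * x⁻¹) * x = z := by group
          rw [e1]
          exact hPy hz
        have hcard : Nat.card ↥((P : Subgroup G).map (MulAut.conj x).toMonoidHom) =
            Nat.card ↥(P : Subgroup G) :=
          Subgroup.card_map_of_injective (MulAut.conj x).injective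
        have h1 : Nat.card ↥(P : Subgroup G) ∣ Nat.card ↥(C i) := by
          rw [← hcard]; exact Subgroup.card_dvd_of_le hmap
        exact (hpP.trans h1).trans (Finset.dvd_prod_of_mem _ (Finset.mem_univ i))
  · -- the count
    have e : {g : G // P3 G m g} ≃
        Σ i : Fin k, {y : G // ∃ x : G, x * y * x⁻¹ ∈ ({s : G | s ∈ C i ∧ s ≠ 1} : Set G)} :=
      { toFun := fun g => ⟨Classical.choose (hTex g.1 g.2),
          ⟨g.1, Classical.choose_spec (hTex g.1 g.2)⟩⟩
        invFun := fun s => ⟨s.2.1, hTP3 s.1 s.2.1 s.2.2⟩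
        left_inv := fun g => Subtype.ext rfl
        right_inv := fun s => Sigma.subtype_ext
          (hTuniq _ _ s.2.1 (Classical.choose_spec (hTex s.2.1 (hTP3 s.1 s.2.1 s.2.2))) s.2.2)
          rfl }
    rw [Nat.card_congr e, Nat.card_sigma]
    exact Finset.sum_congr rfl (fun i _ => (hTcount i).symm)
  · intro g hg
    obtain ⟨i, x, hx, -⟩ := hTex g hg
    exact ⟨i, x, hx⟩

end Cfsg.Agent.Lib.Helper7.ReeSpORB
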