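import Mathlib
import Cfsg.Agent.Lib.Helper18.ReeHallStmt
import Cfsg.Agent.Lib.Helper7.ReeSpORB

set_option autoImplicit false

/-! Piece ORBP of S1158 (helper7): the strengthened orbit decomposition (same proof as
`ReeSpORB.main`, with the two extra conjuncts). -/

namespace Cfsg.Agent.Lib.Helper7.RHORBP

open Cfsg.Agent.Lib.Helper42.ReeSpStmt
open Cfsg.Agent.Lib.Helper18.ReeHallStmt
open Cfsg.Agent.Lib.Helper7.ReeSpTICount
open Cfsg.Agent.Lib.Helper7.ReeSpORB

universe u v

theorem main : OrbP.{u, v} := by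
  intro G _ _ U H A K _ _ m hax hHall
  classical
  have hq3 := three_le_qq m
  have hcop := coprime_Q m
  have hQG : qq m ^ 2 - qq m + 1 ∣ Nat.card G := by
    rw [hax.card]; exact Q_dvd_card m
  -- representatives
  let r : Setoid {g : G // P3 G m g} :=
    { r := fun a b => crel a.1 b.1
      iseqv := ⟨fun a => crel_refl a.1, fun h => crel_symm h, fun h h' => crel_trans h h'⟩ }
  obtain ⟨k, f, hcov, huniq⟩ := exists_reps r
  have hcov' : ∀ g : G, P3 G m g → ∃ i, crel g (f i).1 := fun g hg => hcov ⟨g, hg⟩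
  have huniq' : ∀ i j, crel (f i).1 (f j).1 → i = j := huniq
  clear_value r
  -- elements of the centralizers
  have hP3mem : ∀ (g : G), P3 G m g → ∀ y : G, y ∈ Subgroup.centralizer ({g} : Set G) →
      y ≠ 1 → P3 G m y := by
    intro g hg y hy hy1
    refine ⟨hy1, ?_⟩
    have h1 : orderOf y ∣ Nat.card ↥(Subgroup.centralizer ({g} : Set G)) :=
      Subgroup.orderOf_dvd_natCard _ hy
    exact Nat.Coprime.coprime_dvd_left (h1.trans (hHall g hg).2.2.1) hcop
  have hP3prime : ∀ (y : G) (p : ℕ), p.Prime → p ∣ qq m ^ 2 - qq m + 1 → orderOf y = p →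
      P3 G m y := by
    intro y p hp hpQ hy
    refine ⟨?_, ?_⟩
    · rintro rfl
      rw [orderOf_one] at hy
      exact hp.ne_one hy.symm
    · rw [hy]
      exact Nat.Coprime.coprime_dvd_left hpQ hcop
  set C : Fin k → Subgroup G := fun i => Subgroup.centralizer ({(f i).1} : Set G) with hC
  have hCi : ∀ i, C i = Subgroup.centralizer ({(f i).1} : Set G) := fun i => rfl
  have hcent : ∀ i, ∀ y ∈ C i, y ≠ 1 → Subgroup.centralizer ({y} : Set G) = C i :=
    fun i => (hHall _ (f i).2).2.2.2.1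
  have hcpos : ∀ i, 0 < Nat.card ↥(C i) := fun i => Nat.card_pos
  have hCN : ∀ i, Nat.card ↥(C i) ∣ Nat.card ↥(Subgroup.normalizer (C i : Set G)) :=
    fun i => Subgroup.card_dvd_of_le Subgroup.le_normalizer
  have hNC : ∀ i, Nat.card ↥(Subgroup.normalizer (C i : Set G)) =
      Nat.card ↥(Subgroup.normalizer (C i : Set G)) / Nat.card ↥(C i) * Nat.card ↥(C i) :=
    fun i => (Nat.div_mul_cancel (hCN i)).symm
  have hcQ : ∀ i, Nat.card ↥(C i) ∣ qq m ^ 2 - qq m + 1 := fun i => (hHall _ (f i).2).2.2.1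
  -- the sets `S i` and the elements conjugate into them
  have hTP3 : ∀ i (y : G), (∃ x : G, x * y * x⁻¹ ∈ ({s : G | s ∈ C i ∧ s ≠ 1} : Set G)) →
      P3 G m y := by
    rintro i y ⟨x, hx, hx1⟩
    have h1 := hP3mem (f i).1 (f i).2 (x * y * x⁻¹) hx hx1
    refine ⟨?_, ?_⟩
    · rintro rfl
      exact hx1 (by group)
    · have := h1.2
      rw [ord_conj] at this
      exact this
  have hTuniq : ∀ i j (y : G),
      (∃ x : G, x * y * x⁻¹ ∈ ({s : G | s ∈ C i ∧ s ≠ 1} : Set G)) →
      (∃ x : G, x * y * x⁻¹ ∈ ({s : G | s ∈ C j ∧ s ≠ 1} : Set G)) → i = j := by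
    rintro i j y ⟨x, hx, hx1⟩ ⟨x', hx', hx1'⟩
    have h1 := hcent i _ hx hx1
    have h2 := hcent j _ hx' hx1'
    apply huniq' i j
    refine ⟨x' * x⁻¹, ?_⟩
    have h3 := cent_conj_congr (x' * x⁻¹) h1.symm
    have e : (x' * x⁻¹) * (x * y * x⁻¹) * (x' * x⁻¹)⁻¹ = x' * y * x'⁻¹ := by group
    rw [e] at h3
    exact h3.trans h2
  have hTex : ∀ g : G, P3 G m g →
      ∃ i, ∃ x : G, x * g * x⁻¹ ∈ ({s : G | s ∈ C i ∧ s ≠ 1} : Set G) := by
    intro g hg
    obtain ⟨i, x, hx⟩ := hcov' g hg
    refine ⟨i, x, ?_, ?_⟩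
    · show x * g * x⁻¹ ∈ Subgroup.centralizer ({(f i).1} : Set G)
      rw [← hx]
      exact self_mem_cent _
    · intro h
      apply hg.1
      have : g = x⁻¹ * (x * g * x⁻¹) * x := by group
      rw [this, h]
      group
  have hTcount : ∀ i,
      Nat.card {y : G // ∃ x : G, x * y * x⁻¹ ∈ ({s : G | s ∈ C i ∧ s ≠ 1} : Set G)} =
        (Nat.card ↥(C i) - 1) *
          (Nat.card G / (Nat.card ↥(Subgroup.normalizer (C i : Set G)) / Nat.card ↥(C i) *
            Nat.card ↥(C i))) := by
    intro i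
    have hN : ∀ g ∈ Subgroup.normalizer (C i : Set G),
        ∀ s ∈ ({s : G | s ∈ C i ∧ s ≠ 1} : Set G),
        g * s * g⁻¹ ∈ ({s : G | s ∈ C i ∧ s ≠ 1} : Set G) := by
      rintro g hg s ⟨hs, hs1⟩
      refine ⟨(Subgroup.mem_normalizer_iff.mp hg s).mp hs, ?_⟩
      intro h
      apply hs1
      have : s = g⁻¹ * (g * s * g⁻¹) * g := by group
      rw [this, h]
      group
    have hTI : ∀ g : G, ∀ s ∈ ({s : G | s ∈ C i ∧ s ≠ 1} : Set G),
        g * s * g⁻¹ ∈ ({s : G | s ∈ C i ∧ s ≠ 1} : Set G) →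
        g ∈ Subgroup.normalizer (C i : Set G) := by
      rintro g s ⟨hs, hs1⟩ ⟨hs', hs1'⟩
      have h1 := hcent i _ hs hs1
      have h2 := hcent i _ hs' hs1'
      rw [Subgroup.mem_normalizer_iff]
      intro y
      have hiff : y ∈ Subgroup.centralizer ({s} : Set G) ↔
          g * y * g⁻¹ ∈ Subgroup.centralizer ({g * s * g⁻¹} : Set G) := by
        rw [mem_cent_conj]
        have e : g⁻¹ * (g * y * g⁻¹) * g = y := by group
        rw [e]
      rw [h1, h2] at hiff
      exact hiff
    have h := ti_count _ _ hN hTI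
    rw [card_nonone] at h
    rw [← hNC i]
    have hdvd : Nat.card ↥(Subgroup.normalizer (C i : Set G)) ∣ Nat.card G :=
      Subgroup.card_subgroup_dvd_card _
    obtain ⟨d, hd⟩ := hdvd
    have hpos : 0 < Nat.card ↥(Subgroup.normalizer (C i : Set G)) := Nat.card_pos
    rw [hd, Nat.mul_div_cancel_left _ hpos]
    rw [hd] at h
    have h' : Nat.card {y : G // ∃ x : G, x * y * x⁻¹ ∈ ({s : G | s ∈ C i ∧ s ≠ 1} : Set G)} *
        Nat.card ↥(Subgroup.normalizer (C i : Set G)) =
        (Nat.card ↥(C i) - 1) * d * Nat.card ↥(Subgroup.normalizer (C i : Set G)) := by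
      rw [h]; ring
    exact Nat.eq_of_mul_eq_mul_right hpos h'
  refine ⟨k, fun i => Nat.card ↥(C i),
    fun i => Nat.card ↥(Subgroup.normalizer (C i : Set G)) / Nat.card ↥(C i), C,
    ?_, ?_, ?_, ?_, ?_, ?_, ?_, ?_, ?_, ?_⟩
  · exact fun i => (hHall _ (f i).2).2.1
  · exact fun i => rfl
  · intro i
    show 1 < Nat.card ↥(C i)
    rw [Subgroup.one_lt_card_iff_ne_bot]
    intro hbot
    have h1 : (f i).1 ∈ C i := self_mem_cent (f i).1
    rw [hbot, Subgroup.mem_bot] at h1
    exact (f i).2.1 h1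
  · intro i
    have h6 := (hHall _ (f i).2).2.2.2.2
    have h6' : Nat.card ↥(Subgroup.normalizer (C i : Set G)) ∣ 6 * Nat.card ↥(C i) := h6
    rw [hNC i] at h6'
    exact Nat.dvd_of_mul_dvd_mul_right (hcpos i) h6'
  · intro i
    show Nat.card ↥(Subgroup.normalizer (C i : Set G)) / Nat.card ↥(C i) * Nat.card ↥(C i) ∣
      Nat.card G
    rw [← hNC i]
    exact Subgroup.card_subgroup_dvd_card _
  · -- the product
    apply Nat.dvd_antisymm
    · -- pairwise coprime
      have hpc : ∀ i j, i ≠ j → Nat.Coprime (Nat.card ↥(C i)) (Nat.card ↥(C j)) := by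
        intro i j hij
        by_contra hnc
        obtain ⟨p, hp, hpi, hpj⟩ := Nat.Prime.not_coprime_iff_dvd.mp hnc
        have : Fact p.Prime := ⟨hp⟩
        obtain ⟨yi, hyi⟩ := exists_prime_orderOf_dvd_card' (G := ↥(C i)) p hpi
        obtain ⟨yj, hyj⟩ := exists_prime_orderOf_dvd_card' (G := ↥(C j)) p hpj
        have hoi : orderOf (yi : G) = p := by rw [Subgroup.orderOf_coe]; exact hyi
        have hoj : orderOf (yj : G) = p := by rw [Subgroup.orderOf_coe]; exact hyj
        obtain ⟨P, x, hyP, hxP⟩ := sylow_conj_mem hoi hoj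
        have hp3 : 3 < p := prime_gt_three hp (hpi.trans (hcQ i))
        have hcyc := hax.cycSyl p hp3 P
        have hob : orderOf (x * (yj : G) * x⁻¹) = p := by rw [ord_conj]; exact hoj
        have hm1 := mem_zpowers_sub (P : Subgroup G) hcyc hyP hxP (hob.trans hoi.symm)
        have hm2 := mem_zpowers_sub (P : Subgroup G) hcyc hxP hyP (hoi.trans hob.symm)
        have hCeq : Subgroup.centralizer ({x * (yj : G) * x⁻¹} : Set G) =
            Subgroup.centralizer ({(yi : G)} : Set G) :=
          le_antisymm (cent_le_of_mem_zpowers hm2) (cent_le_of_mem_zpowers hm1)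
        have hyi1 : (yi : G) ≠ 1 := by
          intro h; rw [h, orderOf_one] at hoi; exact hp.ne_one hoi.symm
        have hyj1 : (yj : G) ≠ 1 := by
          intro h; rw [h, orderOf_one] at hoj; exact hp.ne_one hoj.symm
        have h1 := hcent i (yi : G) yi.2 hyi1
        have h2 := hcent j (yj : G) yj.2 hyj1
        have h3 := cent_conj_congr x h2
        have hrel : crel (f j).1 (f i).1 := ⟨x, h3.symm.trans (hCeq.trans h1)⟩
        exact hij (huniq' j i hrel).symm
      have hlcm : (Finset.univ : Finset (Fin k)).lcm (fun i => Nat.card ↥(C i)) =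
          ∏ i, Nat.card ↥(C i) := by
        apply Finset.lcm_eq_prod
        intro i _ j _ hij
        exact hpc i j hij
      rw [← hlcm]
      exact Finset.lcm_dvd (fun i _ => hcQ i)
    · rw [Nat.dvd_iff_prime_pow_dvd_dvd]
      intro p e hp hpe
      rcases Nat.eq_zero_or_pos e with rfl | hepos
      · simp
      · have : Fact p.Prime := ⟨hp⟩
        have hpQ : p ∣ qq m ^ 2 - qq m + 1 := (dvd_pow_self p (by omega)).trans hpe
        have hp3 : 3 < p := prime_gt_three hp hpQ
        let P : Sylow p G := default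
        have hcyc := hax.cycSyl p hp3 P
        have hpP : p ^ e ∣ Nat.card ↥(P : Subgroup G) :=
          P.pow_dvd_card_of_pow_dvd_card (hpe.trans hQG)
        have hpP1 : p ∣ Nat.card ↥(P : Subgroup G) := (dvd_pow_self p (by omega)).trans hpP
        obtain ⟨y, hy⟩ := exists_prime_orderOf_dvd_card' (G := ↥(P : Subgroup G)) p hpP1
        have hoy : orderOf (y : G) = p := by rw [Subgroup.orderOf_coe]; exact hy
        have hy3 := hP3prime (y : G) p hp hpQ hoy
        obtain ⟨i, x, hx, hx1⟩ := hTex (y : G) hy3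
        have hcx := hcent i _ hx hx1
        -- `P` centralizes `y`
        have hPy : (P : Subgroup G) ≤ Subgroup.centralizer ({(y : G)} : Set G) := by
          intro z hz
          rw [mem_cent_iff]
          have hcomm := (IsCyclic.commGroup (α := ↥(P : Subgroup G))).mul_comm ⟨z, hz⟩ y
          exact congrArg Subtype.val hcomm
        have hmap : (P : Subgroup G).map (MulAut.conj x).toMonoidHom ≤ C i := by
          rintro _ ⟨z, hz, rfl⟩
          rw [← hcx]
          show x * z * x⁻¹ ∈ _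
          rw [mem_cent_conj]
          have e1 : x⁻¹ * (x * z * x⁻¹) * x = z := by group
          rw [e1]
          exact hPy hz
        have hcard : Nat.card ↥((P : Subgroup G).map (MulAut.conj x).toMonoidHom) =
            Nat.card ↥(P : Subgroup G) :=
          Subgroup.card_map_of_injective (MulAut.conj x).injective
        have h1 : Nat.card ↥(P : Subgroup G) ∣ Nat.card ↥(C i) := by
          rw [← hcard]; exact Subgroup.card_dvd_of_le hmap
        exact (hpP.trans h1).trans (Finset.dvd_prod_of_mem _ (Finset.mem_univ i))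
  · -- the count
    have e : {g : G // P3 G m g} ≃
        Σ i : Fin k, {y : G // ∃ x : G, x * y * x⁻¹ ∈ ({s : G | s ∈ C i ∧ s ≠ 1} : Set G)} :=
      { toFun := fun g => ⟨Classical.choose (hTex g.1 g.2),
          ⟨g.1, Classical.choose_spec (hTex g.1 g.2)⟩⟩
        invFun := fun s => ⟨s.2.1, hTP3 s.1 s.2.1 s.2.2⟩
        left_inv := fun g => Subtype.ext rfl
        right_inv := fun s => Sigma.subtype_ext
          (hTuniq _ _ s.2.1 (Classical.choose_spec (hTex s.2.1 (hTP3 s.1 s.2.1 s.2.2))) s.2.2)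
          rfl }
    rw [Nat.card_congr e, Nat.card_sigma]
    exact Finset.sum_congr rfl (fun i _ => (hTcount i).symm)
  · intro g hg
    obtain ⟨i, x, hx, -⟩ := hTex g hg
    exact ⟨i, x, hx⟩
  · exact fun i => hNC i
  · exact fun i => hcent i

end Cfsg.Agent.Lib.Helper7.RHORBP
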