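import Mathlib
import Cfsg.Agent.Lib.Helper42.ReeSpStmt

set_option autoImplicit false

/-! Piece CP of S1159 (helper7): the partition of the group by the prime divisors of the
element orders. -/

namespace Cfsg.Agent.Lib.Helper7.ReeSpCP

open Cfsg.Agent.Lib.Helper42.ReeSpStmt

universe u v

theorem three_dvd_qq (m : ℕ) : 3 ∣ qq m := dvd_pow_self 3 (by omega)

theorem qq_odd (m : ℕ) : ¬ 2 ∣ qq m := by
  intro h
  have := (Nat.Prime.dvd_of_dvd_pow Nat.prime_two h)
  omega

theorem prime_dvd_qq {p m : ℕ} (hp : p.Prime) (h : p ∣ qq m) : p = 3 :=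
  (Nat.prime_dvd_prime_iff_eq hp Nat.prime_three).mp (hp.dvd_of_dvd_pow h)

theorem sq_sub_one (q : ℕ) (hq : 1 ≤ q) : q ^ 2 - 1 = (q - 1) * (q + 1) := by
  obtain ⟨a, rfl⟩ : ∃ a, q = a + 1 := ⟨q - 1, by omega⟩
  have e : a + 1 - 1 = a := by omega
  rw [e]
  apply Nat.sub_eq_of_eq_add
  ring

theorem ord_conj {G : Type u} [Group G] (x g : G) : orderOf (x * g * x⁻¹) = orderOf g :=
  (MulAut.conj x).orderOf_eq g

theorem main : CP.{u, v} := by
  intro G _ _ U H A K _ _ m hax hS h3 hH hA
  classical
  have : Fintype G := Fintype.ofFinite G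
  have hq3 := three_le_qq m
  have h3q := three_dvd_qq m
  have hqodd := qq_odd m
  have hsq := sq_sub_one (qq m) (by omega)
  have F1 : ¬ 3 ∣ qq m - 1 := by
    obtain ⟨k, hk⟩ := h3q
    omega
  have F2 : ¬ 3 ∣ qq m + 1 := by
    obtain ⟨k, hk⟩ := h3q
    omega
  have F3 : 2 ∣ qq m - 1 := by omega
  have Dq : qq m ∣ qq m * (qq m ^ 2 - 1) := dvd_mul_right _ _
  have Dm : qq m - 1 ∣ qq m * (qq m ^ 2 - 1) := by
    rw [hsq]; exact Dvd.dvd.mul_left (dvd_mul_right _ _) _
  have Dp : qq m + 1 ∣ qq m * (qq m ^ 2 - 1) := by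
    rw [hsq]; exact Dvd.dvd.mul_left (dvd_mul_left _ _) _
  have dvdH : ∀ {g x : G}, x * g * x⁻¹ ∈ H → orderOf g ∣ qq m - 1 := by
    intro g x hx
    rw [← ord_conj x g, ← hax.cardH]
    exact Subgroup.orderOf_dvd_natCard H hx
  have dvdA : ∀ {g x : G}, x * g * x⁻¹ ∈ Subgroup.centralizer (A : Set G) →
      orderOf g ∣ qq m + 1 := by
    intro g x hx
    rw [← ord_conj x g, ← hax.cardCA]
    exact Subgroup.orderOf_dvd_natCard _ hx
  have key : ∀ g : G, (if g = 1 then 1 else 0) + (if g ≠ 1 ∧ g ^ 9 = 1 then 1 else 0) +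
      (if 2 ∣ orderOf g then 1 else 0) + (if T1 G H g then 1 else 0) +
      (if T2 G A g then 1 else 0) + (if P3 G m g then 1 else 0) = 1 := by
    intro g
    by_cases h1 : g = 1
    · have a2 : ¬ (g ≠ 1 ∧ g ^ 9 = 1) := fun h => h.1 h1
      have a3 : ¬ 2 ∣ orderOf g := by rw [h1, orderOf_one]; norm_num
      have a4 : ¬ T1 G H g := fun h => h.1 h1
      have a5 : ¬ T2 G A g := fun h => h.1 h1
      have a6 : ¬ P3 G m g := fun h => h.1 h1
      rw [if_pos h1, if_neg a2, if_neg a3, if_neg a4, if_neg a5, if_neg a6]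
    · have hn1 : orderOf g ≠ 1 := fun h => h1 (orderOf_eq_one_iff.mp h)
      by_cases hE : 2 ∣ orderOf g
      · have a2 : ¬ (g ≠ 1 ∧ g ^ 9 = 1) := by
          rintro ⟨-, h9⟩
          have h2 : 2 ∣ 9 := hE.trans (orderOf_dvd_of_pow_eq_one h9)
          omega
        have a4 : ¬ T1 G H g := fun h =>
          (Nat.not_even_iff_odd.mpr h.2.1) (even_iff_two_dvd.mpr hE)
        have a5 : ¬ T2 G A g := fun h =>
          (Nat.not_even_iff_odd.mpr h.2.1) (even_iff_two_dvd.mpr hE)
        have a6 : ¬ P3 G m g := by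
          rintro ⟨-, hc⟩
          have h2 : 2 ∣ Nat.gcd (orderOf g) (qq m * (qq m ^ 2 - 1)) :=
            Nat.dvd_gcd hE (F3.trans Dm)
          have hc' : Nat.gcd (orderOf g) (qq m * (qq m ^ 2 - 1)) = 1 := hc
          rw [hc'] at h2
          omega
        rw [if_neg h1, if_neg a2, if_pos hE, if_neg a4, if_neg a5, if_neg a6]
      · have hodd : Odd (orderOf g) :=
          Nat.not_even_iff_odd.mp (fun h => hE (even_iff_two_dvd.mp h))
        by_cases h9 : g ^ 9 = 1
        · have hd9 : orderOf g ∣ 9 := orderOf_dvd_of_pow_eq_one h9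
          have h3d : 3 ∣ orderOf g := by
            have hmem : orderOf g ∈ Nat.divisors 9 := Nat.mem_divisors.mpr ⟨hd9, by norm_num⟩
            have hdiv : Nat.divisors 9 = {1, 3, 9} := by decide
            rw [hdiv] at hmem
            simp only [Finset.mem_insert, Finset.mem_singleton] at hmem
            rcases hmem with h | h | h
            · exact absurd h hn1
            · rw [h]
            · rw [h]; norm_num
          have a4 : ¬ T1 G H g := by
            rintro ⟨-, -, x, hx⟩
            exact F1 (h3d.trans (dvdH hx))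
          have a5 : ¬ T2 G A g := by
            rintro ⟨-, -, x, hx⟩
            exact F2 (h3d.trans (dvdA hx))
          have a6 : ¬ P3 G m g := by
            rintro ⟨-, hc⟩
            have h2 : 3 ∣ Nat.gcd (orderOf g) (qq m * (qq m ^ 2 - 1)) :=
              Nat.dvd_gcd h3d (h3q.trans Dq)
            have hc' : Nat.gcd (orderOf g) (qq m * (qq m ^ 2 - 1)) = 1 := hc
            rw [hc'] at h2
            omega
          rw [if_neg h1, if_pos ⟨h1, h9⟩, if_neg hE, if_neg a4, if_neg a5, if_neg a6]
        · have a2 : ¬ (g ≠ 1 ∧ g ^ 9 = 1) := fun h => h9 h.2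
          by_cases hT1 : ∃ x : G, x * g * x⁻¹ ∈ H
          · obtain ⟨x, hx⟩ := hT1
            have hd := dvdH hx
            have a4 : T1 G H g := ⟨h1, hodd, x, hx⟩
            have a5 : ¬ T2 G A g := by
              rintro ⟨-, -, y, hy⟩
              have hd' := dvdA hy
              have h2 : orderOf g ∣ (qq m + 1) - (qq m - 1) := Nat.dvd_sub hd' hd
              have e : (qq m + 1) - (qq m - 1) = 2 := by omega
              rw [e] at h2
              have := Nat.le_of_dvd (by norm_num) h2
              have hpos := orderOf_pos g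
              have h2' : orderOf g = 2 := by omega
              exact hE (by rw [h2'])
            have a6 : ¬ P3 G m g := by
              rintro ⟨-, hc⟩
              have h2 : orderOf g ∣ Nat.gcd (orderOf g) (qq m * (qq m ^ 2 - 1)) :=
                Nat.dvd_gcd dvd_rfl (hd.trans Dm)
              have hc' : Nat.gcd (orderOf g) (qq m * (qq m ^ 2 - 1)) = 1 := hc
              rw [hc'] at h2
              exact hn1 (Nat.dvd_one.mp h2)
            rw [if_neg h1, if_neg a2, if_neg hE, if_pos a4, if_neg a5, if_neg a6]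
          · have a4 : ¬ T1 G H g := fun h => hT1 h.2.2
            by_cases hT2 : ∃ x : G, x * g * x⁻¹ ∈ Subgroup.centralizer (A : Set G)
            · obtain ⟨x, hx⟩ := hT2
              have hd := dvdA hx
              have a5 : T2 G A g := ⟨h1, hodd, x, hx⟩
              have a6 : ¬ P3 G m g := by
                rintro ⟨-, hc⟩
                have h2 : orderOf g ∣ Nat.gcd (orderOf g) (qq m * (qq m ^ 2 - 1)) :=
                  Nat.dvd_gcd dvd_rfl (hd.trans Dp)
                have hc' : Nat.gcd (orderOf g) (qq m * (qq m ^ 2 - 1)) = 1 := hc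
                rw [hc'] at h2
                exact hn1 (Nat.dvd_one.mp h2)
              rw [if_neg h1, if_neg a2, if_neg hE, if_neg a4, if_pos a5, if_neg a6]
            · have a5 : ¬ T2 G A g := fun h => hT2 h.2.2
              have a6 : P3 G m g := by
                refine ⟨h1, ?_⟩
                by_contra hnc
                obtain ⟨p, hp, hpn, hpq⟩ := Nat.Prime.not_coprime_iff_dvd.mp hnc
                have hp2 : p ≠ 2 := by rintro rfl; exact hE hpn
                rw [hsq] at hpq
                rcases (Nat.Prime.dvd_mul hp).mp hpq with hq | hq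
                · have hp3 := prime_dvd_qq hp hq
                  subst hp3
                  rcases h3 g hpn with h | h | h
                  · exact h9 (orderOf_dvd_iff_pow_eq_one.mp (by rw [h]; norm_num))
                  · exact hE (by rw [h]; norm_num)
                  · exact h9 (orderOf_dvd_iff_pow_eq_one.mp (by rw [h]))
                · rcases (Nat.Prime.dvd_mul hp).mp hq with hq | hq
                  · exact hT1 (hH g p hp hp2 hpn hq)
                  · exact hT2 (hA g p hp hp2 hpn hq)
              rw [if_neg h1, if_neg a2, if_neg hE, if_neg a4, if_neg a5, if_pos a6]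
  have hc : ∀ (P : G → Prop), Nat.card {g : G // P g} = ∑ g : G, if P g then 1 else 0 := by
    intro P
    rw [← Finset.card_filter, ← Fintype.card_subtype]
    exact Nat.card_eq_fintype_card
  unfold CPC
  rw [hc, hc, hc, hc, hc]
  have hG : Nat.card G = ∑ g : G, 1 := by
    rw [Nat.card_eq_fintype_card]; simp
  have h11 : (∑ g : G, if g = 1 then 1 else 0) = 1 := by simp
  have hsum : (∑ g : G, (1 : ℕ)) = (∑ g : G, if g = 1 then 1 else 0) +
      (∑ g : G, if g ≠ 1 ∧ g ^ 9 = 1 then 1 else 0) +
      (∑ g : G, if 2 ∣ orderOf g then 1 else 0) + (∑ g : G, if T1 G H g then 1 else 0) +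
      (∑ g : G, if T2 G A g then 1 else 0) + (∑ g : G, if P3 G m g then 1 else 0) := by
    rw [← Finset.sum_add_distrib, ← Finset.sum_add_distrib, ← Finset.sum_add_distrib,
      ← Finset.sum_add_distrib, ← Finset.sum_add_distrib]
    exact Finset.sum_congr rfl (fun g _ => (key g).symm)
  rw [hG, hsum, h11]
  congr!

end Cfsg.Agent.Lib.Helper7.ReeSpCP
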