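import Mathlib
import Cfsg.Agent.Lib.Helper26.McLFusStmt

set_option autoImplicit false

/-! Piece AUTABS of S5323 (helper7): an automorphism of odd order of a group of exponent
dividing `128` respecting a chain of sets with the coset property is trivial. -/

namespace Cfsg.Agent.Lib.Helper7.McLFusAUTABS

open Cfsg.Agent.Lib.Helper26.McLFusStmt

theorem main : AutAbs := by
  intro H _ α m P r hodd hαm h128 h0 hr hinv hcos
  have key : ∀ i, i ≤ r → ∀ x, P i x → α x = x := by
    intro i
    induction i with
    | zero =>
      intro _ x hx
      rw [h0 x hx, map_one]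
    | succ i ih =>
      intro hi x hx
      have ih' := ih (Nat.le_of_succ_le hi)
      by_cases hxi : P i x
      · exact ih' x hxi
      · have h1 : P (i + 1) (α x) := (hinv (i + 1) x).mpr hx
        have h2 : ¬ P i (α x) := fun h => hxi ((hinv i x).mp h)
        have hk : P i (x⁻¹ * α x) := hcos i (Nat.lt_of_succ_le hi) x (α x) hx h1 hxi h2
        have hαk : α (x⁻¹ * α x) = x⁻¹ * α x := ih' _ hk
        obtain ⟨k, hkdef⟩ : ∃ k, k = x⁻¹ * α x := ⟨_, rfl⟩
        rw [← hkdef] at hαk
        have hαx : α x = x * k := by rw [hkdef]; group
        have hpow : ∀ j : ℕ, (α ^ j) x = x * k ^ j := by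
          intro j
          induction j with
          | zero => simp
          | succ j ihj =>
            rw [pow_succ' α, MulAut.mul_apply, ihj, map_mul, map_pow, hαk, hαx, pow_succ' k,
              mul_assoc]
        have hkm : k ^ m = 1 := by
          have h3 := hpow m
          rw [hαm, MulAut.one_apply] at h3
          exact mul_left_cancel (a := x) (by rw [mul_one]; exact h3.symm)
        have hk128 : k ^ 128 = 1 := h128 k
        have hord : orderOf k ∣ Nat.gcd m 128 :=
          Nat.dvd_gcd (orderOf_dvd_of_pow_eq_one hkm) (orderOf_dvd_of_pow_eq_one hk128)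
        have hg : Nat.gcd m 128 = 1 := by
          have h4 : Nat.Coprime m (2 ^ 7) :=
            Nat.Coprime.pow_right 7 (Nat.coprime_two_right.mpr hodd)
          exact h4
        rw [hg, Nat.dvd_one, orderOf_eq_one_iff] at hord
        rw [hαx, hord, mul_one]
  exact fun x => key r le_rfl x (hr x)

end Cfsg.Agent.Lib.Helper7.McLFusAUTABS
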