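import Mathlib
import Cfsg.Agent.Lib.Helper26.McLFusStmt

set_option autoImplicit false

/-! Table tools for the pieces of S5323 (helper7): bounded quantifiers, the inverse table of the
model `TT` of helper26, and the transfer lemmas along an enumeration. -/

namespace Cfsg.Agent.Lib.Helper7.McLFusTab

open Cfsg.Agent.Lib.Helper26.McLFusStmt

/-- Bounded universal quantifier. -/
def allLt : Nat → (Nat → Bool) → Bool
  | 0, _ => true
  | n + 1, f => f n && allLt n f

theorem allLt_iff {n : Nat} {f : Nat → Bool} : allLt n f = true ↔ ∀ i, i < n → f i = true := by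
  induction n with
  | zero => simp [allLt]
  | succ n ih =>
    rw [allLt, Bool.and_eq_true, ih]
    constructor
    · rintro ⟨h1, h2⟩ i hi
      rcases Nat.lt_succ_iff_lt_or_eq.mp hi with h | h
      · exact h2 i h
      · rw [h]; exact h1
    · intro h
      exact ⟨h n (Nat.lt_succ_self n), fun i hi => h i (Nat.lt_succ_of_lt hi)⟩

/-- packed table of inverses -/
def IVp : ℕ := 0x7f7e7a7c7b7d787976777574686a6f657167696b6c726d736e66706459616252575c5b5e5d4e63585f56504f53604855545a4d4a4b4c495142393a3343472f3c363e31403b454634373f3538442c3d30412e2d322b1d261e22291724192720211a282a181b1f231c2516150b130f110d120e100c140a07050904080603020100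

/-- the index of the inverse -/
def iv (a : ℕ) : ℕ := Nat.land (Nat.shiftRight IVp (Nat.mul 8 a)) 255

def chkBound : Bool := allLt 128 fun a => allLt 128 fun b => Nat.blt (TT a b) 128

theorem chkBound_true : chkBound = true := by decide +kernel

theorem TT_lt {a b : ℕ} (ha : a < 128) (hb : b < 128) : TT a b < 128 := by
  have h := allLt_iff.mp (allLt_iff.mp chkBound_true a ha) b hb
  simpa [Nat.blt_eq] using h

def chkIv : Bool := allLt 128 fun a => Nat.blt (iv a) 128 && Nat.beq (TT a (iv a)) 0

theorem chkIv_true : chkIv = true := by decide +kernel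

theorem iv_lt {a : ℕ} (ha : a < 128) : iv a < 128 := by
  have h := allLt_iff.mp chkIv_true a ha
  rw [Bool.and_eq_true] at h
  simpa [Nat.blt_eq] using h.1

theorem TT_iv {a : ℕ} (ha : a < 128) : TT a (iv a) = 0 := by
  have h := allLt_iff.mp chkIv_true a ha
  rw [Bool.and_eq_true] at h
  exact Nat.eq_of_beq_eq_true h.2

section
variable {H : Type} [Group H] {f : ℕ → H}

theorem f_inv (E : Enum H f) {a : ℕ} (ha : a < 128) : (f a)⁻¹ = f (iv a) := by
  have h := E.mul a ha (iv a) (iv_lt ha)
  rw [TT_iv ha, E.one] at h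
  exact (eq_inv_of_mul_eq_one_right h).symm

theorem f_eq_iff (E : Enum H f) {a b : ℕ} (ha : a < 128) (hb : b < 128) : f a = f b ↔ a = b :=
  ⟨E.inj a ha b hb, fun h => by rw [h]⟩

theorem forall_iff (E : Enum H f) (Q : H → Prop) : (∀ y, Q y) ↔ ∀ b, b < 128 → Q (f b) := by
  constructor
  · intro h b _
    exact h (f b)
  · intro h y
    obtain ⟨b, hb, rfl⟩ := E.surj y
    exact h b hb

theorem card_eq (E : Enum H f) : Nat.card H = 128 := by
  have hb : Function.Bijective (fun i : Fin 128 => f i.1) := by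
    constructor
    · intro i j hij
      exact Fin.ext (E.inj i.1 i.2 j.1 j.2 hij)
    · intro y
      obtain ⟨b, hb, rfl⟩ := E.surj y
      exact ⟨⟨b, hb⟩, rfl⟩
  rw [← Nat.card_congr (Equiv.ofBijective _ hb), Nat.card_eq_fintype_card, Fintype.card_fin]

theorem pow128 (E : Enum H f) (x : H) : x ^ 128 = 1 := by
  have : Finite H := Nat.finite_of_card_ne_zero (by rw [card_eq E]; norm_num)
  rw [← card_eq E]
  exact pow_card_eq_one'

/-- the commutator on indices -/
def cm (a b : ℕ) : ℕ := TT (TT (TT a b) (iv a)) (iv b)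

theorem cm_lt {a b : ℕ} (ha : a < 128) (hb : b < 128) : cm a b < 128 :=
  TT_lt (TT_lt (TT_lt ha hb) (iv_lt ha)) (iv_lt hb)

theorem f_cm (E : Enum H f) {a b : ℕ} (ha : a < 128) (hb : b < 128) :
    f a * f b * (f a)⁻¹ * (f b)⁻¹ = f (cm a b) := by
  rw [f_inv E ha, f_inv E hb, E.mul a ha b hb, E.mul _ (TT_lt ha hb) _ (iv_lt ha),
    E.mul _ (TT_lt (TT_lt ha hb) (iv_lt ha)) _ (iv_lt hb)]
  rfl

end

end Cfsg.Agent.Lib.Helper7.McLFusTab
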