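import Mathlib
import Cfsg.Agent.Lib.Helper7.McLFusTab

set_option autoImplicit false

/-! Piece AUTODD of S5323 (helper7): every automorphism of odd order of the group with table
`TT` is trivial, from [AUTABS] applied to the chain of characteristic sets
`1 < Z < C(squares) < ... ` given by six bit masks; all table facts are kernel computations. -/

namespace Cfsg.Agent.Lib.Helper7.McLFusAUTODD

open Cfsg.Agent.Lib.Helper26.McLFusStmt Cfsg.Agent.Lib.Helper7.McLFusTab

def K1 : ℕ := 0x400001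
def K2 : ℕ := 0x18000000000000000000000000400001
def K3 : ℕ := 0x18000000002114000000000000400001
def K4 : ℕ := 0x1800000001693e000000001008400001
def K5 : ℕ := 0x3c000000057bff00000006d428400051
def K6 : ℕ := 0xfc300050057bff7bffda86d428684457

/-- bit test -/
def tb (K a : ℕ) : Bool := Nat.beq (Nat.land (Nat.shiftRight K a) 1) 1

theorem nbeq {a b : ℕ} : Nat.beq a b = true ↔ a = b :=
  ⟨Nat.eq_of_beq_eq_true, fun h => by rw [h]; exact Nat.beq_refl b⟩

def iffb (x y : Bool) : Bool := (x && y) || (!x && !y)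

theorem iffb_eq {x y : Bool} (h : iffb x y = true) : x = y := by
  cases x <;> cases y <;> simp_all [iffb]

section
variable {H : Type} [Group H]

def P1 (x : H) : Prop := ∀ y : H, x * y = y * x
def P2 (x : H) : Prop := ∀ y : H, x * (y * y) = (y * y) * x
def P3 (x : H) : Prop := ∀ y : H, y ^ 4 ≠ 1 → P1 (x * y * x⁻¹ * y⁻¹)
def P4 (x : H) : Prop := ∀ y : H, P2 (x * y * x⁻¹ * y⁻¹)
def P5 (x : H) : Prop := ∀ y : H, P3 (x * y * x⁻¹ * y⁻¹)
def P6 (x : H) : Prop := ∀ k : H, P2 k → x * k = k * x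

/-- the chain of characteristic sets -/
def PP : ℕ → H → Prop
  | 0, x => x = 1
  | 1, x => P1 x
  | 2, x => P2 x
  | 3, x => P3 x
  | 4, x => P4 x
  | 5, x => P5 x
  | 6, x => P6 x
  | _, _ => True

theorem inv1 (α : MulAut H) (x : H) : P1 (α x) ↔ P1 x := by
  constructor
  · intro h y
    have h' := h (α y)
    simp only [← map_mul] at h'
    exact α.injective h'
  · intro h y
    obtain ⟨y', rfl⟩ := α.surjective y
    simp only [← map_mul]
    rw [h y']

theorem inv2 (α : MulAut H) (x : H) : P2 (α x) ↔ P2 x := by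
  constructor
  · intro h y
    have h' := h (α y)
    simp only [← map_mul] at h'
    exact α.injective h'
  · intro h y
    obtain ⟨y', rfl⟩ := α.surjective y
    simp only [← map_mul]
    rw [h y']

theorem hcomm (α : MulAut H) (x y : H) :
    α x * α y * (α x)⁻¹ * (α y)⁻¹ = α (x * y * x⁻¹ * y⁻¹) := by
  simp only [map_mul, map_inv]

theorem inv3 (α : MulAut H) (x : H) : P3 (α x) ↔ P3 x := by
  have hp : ∀ y : H, (α y) ^ 4 ≠ 1 ↔ y ^ 4 ≠ 1 := by
    intro y
    rw [← map_pow]
    exact not_congr (EmbeddingLike.map_eq_one_iff (f := α))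
  constructor
  · intro h y hy
    have h' := h (α y) ((hp y).mpr hy)
    rw [hcomm] at h'
    exact (inv1 α _).mp h'
  · intro h y hy
    obtain ⟨y', rfl⟩ := α.surjective y
    rw [hcomm]
    exact (inv1 α _).mpr (h y' ((hp y').mp hy))

theorem inv4 (α : MulAut H) (x : H) : P4 (α x) ↔ P4 x := by
  constructor
  · intro h y
    have h' := h (α y)
    rw [hcomm] at h'
    exact (inv2 α _).mp h'
  · intro h y
    obtain ⟨y', rfl⟩ := α.surjective y
    rw [hcomm]
    exact (inv2 α _).mpr (h y')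

theorem inv5 (α : MulAut H) (x : H) : P5 (α x) ↔ P5 x := by
  constructor
  · intro h y
    have h' := h (α y)
    rw [hcomm] at h'
    exact (inv3 α _).mp h'
  · intro h y
    obtain ⟨y', rfl⟩ := α.surjective y
    rw [hcomm]
    exact (inv3 α _).mpr (h y')

theorem inv6 (α : MulAut H) (x : H) : P6 (α x) ↔ P6 x := by
  constructor
  · intro h k hk
    have h' := h (α k) ((inv2 α k).mpr hk)
    simp only [← map_mul] at h'
    exact α.injective h'
  · intro h k hk
    obtain ⟨k', rfl⟩ := α.surjective k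
    simp only [← map_mul]
    rw [h k' ((inv2 α k').mp hk)]

theorem invPP (α : MulAut H) : ∀ (i : ℕ) (x : H), PP i (α x) ↔ PP i x := by
  intro i x
  match i with
  | 0 => exact EmbeddingLike.map_eq_one_iff (f := α)
  | 1 => exact inv1 α x
  | 2 => exact inv2 α x
  | 3 => exact inv3 α x
  | 4 => exact inv4 α x
  | 5 => exact inv5 α x
  | 6 => exact inv6 α x
  | (n + 7) => exact Iff.rfl

end

/-! ### the table side -/

def c1 (a : ℕ) : Bool := allLt 128 fun b => Nat.beq (TT a b) (TT b a)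
def c2 (a : ℕ) : Bool := allLt 128 fun b => Nat.beq (TT a (TT b b)) (TT (TT b b) a)
def c3 (a : ℕ) : Bool :=
  allLt 128 fun b => Nat.beq (TT (TT b b) (TT b b)) 0 || tb K1 (cm a b)
def c4 (a : ℕ) : Bool := allLt 128 fun b => tb K2 (cm a b)
def c5 (a : ℕ) : Bool := allLt 128 fun b => tb K3 (cm a b)
def c6 (a : ℕ) : Bool := allLt 128 fun c => !(tb K2 c) || Nat.beq (TT a c) (TT c a)

def chk1 : Bool := allLt 128 fun a => iffb (c1 a) (tb K1 a)
def chk2 : Bool := allLt 128 fun a => iffb (c2 a) (tb K2 a)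
def chk3 : Bool := allLt 128 fun a => iffb (c3 a) (tb K3 a)
def chk4 : Bool := allLt 128 fun a => iffb (c4 a) (tb K4 a)
def chk5 : Bool := allLt 128 fun a => iffb (c5 a) (tb K5 a)
def chk6 : Bool := allLt 128 fun a => iffb (c6 a) (tb K6 a)

theorem chk1_true : chk1 = true := by decide +kernel
theorem chk2_true : chk2 = true := by decide +kernel
theorem chk3_true : chk3 = true := by decide +kernel
theorem chk4_true : chk4 = true := by decide +kernel
theorem chk5_true : chk5 = true := by decide +kernel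
theorem chk6_true : chk6 = true := by decide +kernel

/-- the sets on indices -/
def MM : ℕ → ℕ → Bool
  | 0, a => Nat.beq a 0
  | 1, a => tb K1 a
  | 2, a => tb K2 a
  | 3, a => tb K3 a
  | 4, a => tb K4 a
  | 5, a => tb K5 a
  | 6, a => tb K6 a
  | _, _ => true

def chkCos (i : ℕ) : Bool :=
  allLt 128 fun a => allLt 128 fun b =>
    !(MM (i + 1) a && MM (i + 1) b && !(MM i a) && !(MM i b)) || MM i (TT (iv a) b)

def chkCosAll : Bool := allLt 7 chkCos

theorem chkCosAll_true : chkCosAll = true := by decide +kernel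

section
variable {H : Type} [Group H] {f : ℕ → H}

theorem M1_iff (E : Enum H f) {a : ℕ} (ha : a < 128) : P1 (f a) ↔ tb K1 a = true := by
  rw [← iffb_eq (allLt_iff.mp chk1_true a ha)]
  unfold P1 c1
  rw [forall_iff E, allLt_iff]
  refine forall₂_congr fun b hb => ?_
  rw [E.mul a ha b hb, E.mul b hb a ha, f_eq_iff E (TT_lt ha hb) (TT_lt hb ha), nbeq]

theorem M2_iff (E : Enum H f) {a : ℕ} (ha : a < 128) : P2 (f a) ↔ tb K2 a = true := by
  rw [← iffb_eq (allLt_iff.mp chk2_true a ha)]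
  unfold P2 c2
  rw [forall_iff E, allLt_iff]
  refine forall₂_congr fun b hb => ?_
  rw [E.mul b hb b hb, E.mul a ha _ (TT_lt hb hb), E.mul _ (TT_lt hb hb) a ha,
    f_eq_iff E (TT_lt ha (TT_lt hb hb)) (TT_lt (TT_lt hb hb) ha), nbeq]

theorem M3_iff (E : Enum H f) {a : ℕ} (ha : a < 128) : P3 (f a) ↔ tb K3 a = true := by
  rw [← iffb_eq (allLt_iff.mp chk3_true a ha)]
  unfold P3 c3
  rw [forall_iff E, allLt_iff]
  refine forall₂_congr fun b hb => ?_
  have h4 : f b ^ 4 = f (TT (TT b b) (TT b b)) := by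
    rw [← E.mul _ (TT_lt hb hb) _ (TT_lt hb hb), ← E.mul b hb b hb]
    simp only [pow_succ, pow_zero, one_mul, mul_assoc]
  have h0 : f (TT (TT b b) (TT b b)) = 1 ↔ TT (TT b b) (TT b b) = 0 := by
    rw [← E.one]
    exact f_eq_iff E (TT_lt (TT_lt hb hb) (TT_lt hb hb)) (by norm_num)
  rw [h4, f_cm E ha hb, M1_iff E (cm_lt ha hb), Bool.or_eq_true, nbeq, Ne, h0]
  tauto

theorem M4_iff (E : Enum H f) {a : ℕ} (ha : a < 128) : P4 (f a) ↔ tb K4 a = true := by
  rw [← iffb_eq (allLt_iff.mp chk4_true a ha)]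
  unfold P4 c4
  rw [forall_iff E, allLt_iff]
  refine forall₂_congr fun b hb => ?_
  rw [f_cm E ha hb, M2_iff E (cm_lt ha hb)]

theorem M5_iff (E : Enum H f) {a : ℕ} (ha : a < 128) : P5 (f a) ↔ tb K5 a = true := by
  rw [← iffb_eq (allLt_iff.mp chk5_true a ha)]
  unfold P5 c5
  rw [forall_iff E, allLt_iff]
  refine forall₂_congr fun b hb => ?_
  rw [f_cm E ha hb, M3_iff E (cm_lt ha hb)]

theorem M6_iff (E : Enum H f) {a : ℕ} (ha : a < 128) : P6 (f a) ↔ tb K6 a = true := by
  rw [← iffb_eq (allLt_iff.mp chk6_true a ha)]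
  unfold P6 c6
  rw [forall_iff E, allLt_iff]
  refine forall₂_congr fun c hc => ?_
  rw [M2_iff E hc, E.mul a ha c hc, E.mul c hc a ha, f_eq_iff E (TT_lt ha hc) (TT_lt hc ha),
    Bool.or_eq_true, nbeq]
  cases tb K2 c <;> simp

theorem PP_iff (E : Enum H f) (i : ℕ) {a : ℕ} (ha : a < 128) : PP i (f a) ↔ MM i a = true := by
  match i with
  | 0 =>
    show f a = 1 ↔ Nat.beq a 0 = true
    rw [← E.one, f_eq_iff E ha (by norm_num), nbeq]
  | 1 => exact M1_iff E ha
  | 2 => exact M2_iff E ha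
  | 3 => exact M3_iff E ha
  | 4 => exact M4_iff E ha
  | 5 => exact M5_iff E ha
  | 6 => exact M6_iff E ha
  | (n + 7) => exact ⟨fun _ => rfl, fun _ => trivial⟩

theorem cosPP (E : Enum H f) : ∀ i < 7, ∀ x y : H, PP (i + 1) x → PP (i + 1) y → ¬ PP i x →
    ¬ PP i y → PP i (x⁻¹ * y) := by
  intro i hi x y hx hy hnx hny
  obtain ⟨a, ha, rfl⟩ := E.surj x
  obtain ⟨b, hb, rfl⟩ := E.surj y
  rw [f_inv E ha, E.mul _ (iv_lt ha) b hb, PP_iff E i (TT_lt (iv_lt ha) hb)]
  rw [PP_iff E (i + 1) ha] at hx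
  rw [PP_iff E (i + 1) hb] at hy
  rw [PP_iff E i ha, Bool.not_eq_true] at hnx
  rw [PP_iff E i hb, Bool.not_eq_true] at hny
  have h := allLt_iff.mp (allLt_iff.mp (allLt_iff.mp chkCosAll_true i hi) a ha) b hb
  rw [hx, hy, hnx, hny] at h
  simpa using h

end

theorem main : AutAbs → AutOdd := by
  intro hAbs H _ f E α m hodd hαm
  have key := hAbs H α m PP 7 hodd hαm (pow128 E) (fun x hx => hx) (fun x => trivial)
    (invPP α) (cosPP E)
  exact MulEquiv.ext fun x => by rw [key x]; rfl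

end Cfsg.Agent.Lib.Helper7.McLFusAUTODD
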