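import Mathlib
import Cfsg.Agent.Lib.Helper7.McLFusTab

set_option autoImplicit false

/-! Piece GENINV of S5323 (helper7): the group with table `TT` is generated by its involutions
(every index `a ≠ 0` is `TT g p` with `g ∈ {1, 2, 3}` an involution and `p < a`). -/

namespace Cfsg.Agent.Lib.Helper7.McLFusGENINV

open Cfsg.Agent.Lib.Helper26.McLFusStmt Cfsg.Agent.Lib.Helper7.McLFusTab

/-- packed witnesses: the generator -/
def Gp : ℕ := 0x101010201030101010103030101010102010101010201030101020102030301010302030301030203010101010301010102010101010101030202010303010201030103020303010103010203010201030101010101030202030102010302020103030101020201030103010302020103020201030102010301030203020100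
/-- packed witnesses: the predecessor -/
def Pp : ℕ := 0x7a7c7474756b6a68656f635f5e5c5963575d5b575261624f614e6058474645474241423f3d3e3b3837393c364334343a333931453b40462f2a2a29292827272626252423222120221d1c1e1b1a1a1d191820211728151414131212151110100f0f0e0d0d130c0b0b0a0e09090808070706060505040403030202010100000000

def bt (T a : ℕ) : ℕ := Nat.land (Nat.shiftRight T (Nat.mul 8 a)) 255

def chk : Bool :=
  allLt 128 fun a => Nat.beq a 0 ||
    (Nat.blt (bt Gp a) 128 && Nat.beq (TT (bt Gp a) (bt Gp a)) 0 && Nat.blt (bt Pp a) a &&
      Nat.beq (TT (bt Gp a) (bt Pp a)) a)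

theorem chk_true : chk = true := by decide +kernel

theorem main : GenInv := by
  intro H _ f E U hU a
  induction a using Nat.strong_induction_on with
  | _ a ih =>
    intro ha
    have h := allLt_iff.mp chk_true a ha
    simp only [Bool.or_eq_true, Bool.and_eq_true, Nat.blt_eq] at h
    rcases h with h | ⟨⟨⟨h1, h2⟩, h3⟩, h4⟩
    · rw [Nat.eq_of_beq_eq_true h, E.one]
      exact U.one_mem
    · have hp : bt Pp a < 128 := lt_trans h3 ha
      have hm := E.mul _ h1 _ hp
      rw [Nat.eq_of_beq_eq_true h4] at hm
      rw [← hm]
      exact U.mul_mem (hU _ h1 (Nat.eq_of_beq_eq_true h2)) (ih _ h3 hp)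

end Cfsg.Agent.Lib.Helper7.McLFusGENINV
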