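import Mathlib
import Cfsg.Agent.Lib.Helper7.McLFusTab

set_option autoImplicit false

/-! Piece INVCLS of S5323 (helper7): every involution of the model `TT` is conjugate in the model
to one of the seven indices `1, 2, 3, 22, 27, 36, 123` (explicit witnesses, kernel check). -/

namespace Cfsg.Agent.Lib.Helper7.McLFusINVCLS

open Cfsg.Agent.Lib.Helper26.McLFusStmt Cfsg.Agent.Lib.Helper7.McLFusTab

/-- packed witnesses: the conjugating index -/
def Sp : ℕ := 0x1b2400030000000000001513000000000000000000000000000c001100000000000000000000000200050000110000000000010007000c00000000000700000000050000090000000800190000000004000b18002e00000000000000000000000000000000000000000003000300020000020001000100000000000000000000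
/-- packed witnesses: its inverse -/
def Sp' : ℕ := 0x1b2400030000000000001513000000000000000000000000000c001100000000000000000000000200080000110000000000010009000c0000000000090000000008000007000000050023000000000600141c002e00000000000000000000000000000000000000000003000300020000020001000100000000000000000000
/-- packed witnesses: the representative -/
def Rp : ℕ := 0x201007b7b000000000001020000000000000000000000000002000100000000000000000000001b002400001b000000000024001b00240000000000010000000002000001000000020003000000000300030300030000000000002400000000000000001b000000001602000100030000010003000200000000000003020100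

def bt (T a : ℕ) : ℕ := Nat.land (Nat.shiftRight T (Nat.mul 8 a)) 255

def isRep (r : ℕ) : Bool :=
  Nat.beq r 1 || Nat.beq r 2 || Nat.beq r 3 || Nat.beq r 22 || Nat.beq r 27 || Nat.beq r 36 ||
    Nat.beq r 123

theorem isRep_mem {r : ℕ} (h : isRep r = true) : r ∈ ([1, 2, 3, 22, 27, 36, 123] : List ℕ) := by
  unfold isRep at h
  simp only [Bool.or_eq_true] at h
  rcases h with (((((h | h) | h) | h) | h) | h) | h <;>
    (have h' := Nat.eq_of_beq_eq_true h; subst h'; simp)

def chk : Bool :=
  allLt 128 fun a => Nat.beq a 0 || !(Nat.beq (TT a a) 0) ||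
    (Nat.blt (bt Sp a) 128 && Nat.blt (bt Sp' a) 128 && isRep (bt Rp a) &&
      Nat.beq (TT (bt Sp a) (bt Sp' a)) 0 && Nat.beq (TT (TT (bt Sp a) (bt Rp a)) (bt Sp' a)) a)

theorem chk_true : chk = true := by decide +kernel

theorem main : InvCls := by
  intro a ha hne hinv
  have h := allLt_iff.mp chk_true a ha
  simp only [Bool.or_eq_true, Bool.and_eq_true, Bool.not_eq_true', Nat.blt_eq] at h
  rcases h with (h | h) | h
  · exact absurd (Nat.eq_of_beq_eq_true h) hne
  · rw [hinv] at h
    exact absurd h (by decide)
  · obtain ⟨⟨⟨⟨h1, h2⟩, h3⟩, h4⟩, h5⟩ := h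
    exact ⟨bt Sp a, h1, bt Sp' a, h2, bt Rp a, isRep_mem h3, Nat.eq_of_beq_eq_true h4,
      Nat.eq_of_beq_eq_true h5⟩

end Cfsg.Agent.Lib.Helper7.McLFusINVCLS
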