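import Cfsg.Agent.Lib.Helper7.M24Octad

set_option autoImplicit false

namespace Cfsg.Agent.Lib.Helper7.M24Octad2

open Cfsg Cfsg.Agent.Lib.Helper7.GolayBase Cfsg.Agent.Lib.Helper7.GolayCode
  Cfsg.Agent.Lib.Helper7.M24Mem Cfsg.Agent.Lib.Helper7.GolayRigid
  Cfsg.Agent.Lib.Helper7.GolayPerm Cfsg.Agent.Lib.Helper7.ChainGen
  Cfsg.Agent.Lib.Helper7.M24Data Cfsg.Agent.Lib.Helper7.M24Core
  Cfsg.Agent.Lib.Helper7.M24Main Cfsg.Agent.Lib.Helper7.M24Octad
open scoped Pointwise

/-! ### The group of the code is the automorphism group of the octad system -/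

theorem echelon_octads : ∀ e ∈ echelon, e ∈ octadList := by
  intro e he
  have h : echelon.all (fun e => popc e == 8) = true := by decide +kernel
  exact mem_octadList.mpr ⟨echelon_mem_codeList e he, by simpa using List.all_eq_true.mp h e he⟩

theorem codeList_sub_span_echelon : ∀ c ∈ codeList, c ∈ spanList echelon := by
  apply spanList_subset
  intro b hb
  have h : basisMasks.all (fun b => reduce echelon b == 0) = true := by decide +kernel
  have h0 : reduce echelon b = 0 := by simpa using List.all_eq_true.mp h b hb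
  have := reduce_xor_mem echelon b
  rwa [h0, Nat.xor_zero] at this

theorem M24_le_octadAut : M24 ≤ setSystemAut octads := by
  intro g hg
  rw [MulAction.mem_stabilizer_iff]
  apply Set.eq_of_subset_of_ncard_le
  · rintro _ ⟨o, ho, rfl⟩
    exact smul_mem_octads hg ho
  · rw [← Set.image_smul, Set.ncard_image_of_injective _ (MulAction.injective g)]
  · exact Set.toFinite _

theorem octadAut_le_M24 : setSystemAut octads ≤ M24 := by
  intro g hg
  rw [MulAction.mem_stabilizer_iff] at hg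
  apply mem_M24_of_subset
  rintro _ ⟨s, hs, rfl⟩
  obtain ⟨c, hc, rfl⟩ := (mem_supports_iff s).mp hs
  have key : ∀ c ∈ spanList echelon, ∃ c' ∈ codeList, g • mk c = mk c' := by
    apply spanList_induction
    · exact ⟨0, zero_mem_codeList, by rw [mk_zero]; simp⟩
    · rintro a b ⟨a', ha', ha⟩ ⟨b', hb', hb⟩
      refine ⟨a' ^^^ b', xor_mem_codeList ha' hb', ?_⟩
      rw [mk_xor, mk_xor, Finset.smul_finset_symmDiff, ha, hb]
    · intro e he
      have ho : mk e ∈ octads := (mem_octads_iff _).mpr ⟨e, echelon_octads e he, rfl⟩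
      have : g • mk e ∈ g • octads := Set.smul_mem_smul_set ho
      rw [hg] at this
      obtain ⟨c', hc', hcc⟩ := (mem_octads_iff _).mp this
      exact ⟨c', (mem_octadList.mp hc').1, hcc.symm⟩
  obtain ⟨c', hc', h⟩ := key c (codeList_sub_span_echelon c hc)
  change g • mk c ∈ supports (golayCode : Set (GolayPt → ZMod 2))
  rw [h]
  exact mk_mem_supports hc'

theorem M24_eq_octadAut : M24 = setSystemAut octads :=
  le_antisymm M24_le_octadAut octadAut_le_M24

/-! ### The pointwise stabiliser of an octad -/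

/-- Indices of the points of the base octad. -/
def Oidx : List Nat := [0, 1, 2, 3, 5, 14, 17, 23]

theorem wit7' : ∀ q ∈ T7, ∃ h ∈ H ⊓ FixL Oidx, h (pt 4) = pt q ∧ h * h = 1 := by
  intro q hq
  have hall : T7.all (fun q => tabs.any (fun t => hit Oidx 4 q t && (tmul t t == idT))) = true := by
    decide +kernel
  obtain ⟨t, ht, hh⟩ := List.any_eq_true.mp (List.all_eq_true.mp hall q hq)
  rw [Bool.and_eq_true, beq_iff_eq] at hh
  obtain ⟨g, hgH, hg⟩ := tabs_rep t ht
  obtain ⟨h1, h2⟩ := hit_spec hg (F := Oidx) (by decide) (by decide) hh.1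
  refine ⟨g, ⟨hgH, h1⟩, h2, ?_⟩
  have := hg.mul hg
  rw [hh.2] at this
  exact this.eq_one

theorem fixO_eq : M24 ⊓ FixL Oidx = M24 ⊓ FixL [5, 3, 2, 1, 0, 23] := by
  apply le_antisymm
  · rintro g ⟨hg, hfix⟩
    refine ⟨hg, fun f hf => hfix f ?_⟩
    revert f; decide
  · intro g hg
    obtain ⟨q, hq, hgq⟩ := hub7 hg
    obtain ⟨h, hh, hhq, _⟩ := wit7' q hq
    have hhK : h ∈ M24 ⊓ FixL [5, 3, 2, 1, 0, 23] :=
      ⟨H_le_M24 hh.1, fun f hf => hh.2 f (by revert f; decide)⟩
    have hmem : h⁻¹ * g ∈ M24 ⊓ FixL [4, 5, 3, 2, 1, 0, 23] := by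
      have h1 := (M24 ⊓ FixL [5, 3, 2, 1, 0, 23]).mul_mem
        ((M24 ⊓ FixL [5, 3, 2, 1, 0, 23]).inv_mem hhK) hg
      refine ⟨h1.1, mem_FixL_cons.mpr ⟨?_, h1.2⟩⟩
      show h⁻¹ (g (pt 4)) = pt 4
      rw [hgq, ← hhq]; simp
    rw [rigid7, Subgroup.mem_bot] at hmem
    have : g = h := by
      have := congrArg (fun x => h * x) hmem
      simpa using this
    rw [this]
    exact ⟨H_le_M24 hh.1, hh.2⟩

theorem sq_of_fixO {g : Equiv.Perm GolayPt} (hg : g ∈ M24 ⊓ FixL Oidx) : g * g = 1 := by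
  rw [fixO_eq] at hg
  obtain ⟨q, hq, hgq⟩ := hub7 hg
  obtain ⟨h, hh, hhq, hsq⟩ := wit7' q hq
  have hhK : h ∈ M24 ⊓ FixL [5, 3, 2, 1, 0, 23] :=
    ⟨H_le_M24 hh.1, fun f hf => hh.2 f (by revert f; decide)⟩
  have hmem : h⁻¹ * g ∈ M24 ⊓ FixL [4, 5, 3, 2, 1, 0, 23] := by
    have h1 := (M24 ⊓ FixL [5, 3, 2, 1, 0, 23]).mul_mem
      ((M24 ⊓ FixL [5, 3, 2, 1, 0, 23]).inv_mem hhK) hg
    refine ⟨h1.1, mem_FixL_cons.mpr ⟨?_, h1.2⟩⟩
    show h⁻¹ (g (pt 4)) = pt 4
    rw [hgq, ← hhq]; simp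
  rw [rigid7, Subgroup.mem_bot] at hmem
  have : g = h := by
    have := congrArg (fun x => h * x) hmem
    simpa using this
  rw [this]; exact hsq

theorem fixingSubgroup_O :
    fixingSubgroup (Equiv.Perm GolayPt) ((mk O : Finset GolayPt) : Set GolayPt) = FixL Oidx := by
  ext g
  rw [mem_fixingSubgroup_iff, mem_FixL]
  constructor
  · intro h f hf
    apply h
    rw [Finset.mem_coe, mem_mk]
    revert f; decide +kernel
  · intro h y hy
    rw [Finset.mem_coe, mem_mk] at hy
    have hy' : idx y ∈ Oidx := by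
      have key : ∀ i, i < 24 → O.testBit i = true → i ∈ Oidx := by decide +kernel
      exact key _ (idx_lt y) hy
    have := h _ hy'
    rwa [pt_idx] at this

theorem card_fix_O :
    Nat.card ↥(M24 ⊓ fixingSubgroup (Equiv.Perm GolayPt) ((mk O : Finset GolayPt) : Set GolayPt))
      = 16 := by
  rw [fixingSubgroup_O, fixO_eq]; exact card6

/-- Conjugation by `g ∈ M24` carries the pointwise stabiliser of `s` in `M24` onto that of
`g • s`. -/
theorem map_conj_fix {g : Equiv.Perm GolayPt} (hg : g ∈ M24) (s : Set GolayPt) :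
    (M24 ⊓ fixingSubgroup (Equiv.Perm GolayPt) s).map (MulAut.conj g).toMonoidHom
      = M24 ⊓ fixingSubgroup (Equiv.Perm GolayPt) (g • s) := by
  rw [Subgroup.map_inf _ _ _ (MulAut.conj g).injective,
    SubMulAction.fixingSubgroup_map_conj_eq (M := Equiv.Perm GolayPt) (g := g) (t := s) rfl]
  congr 1
  have := Subgroup.conj_smul_eq_self_of_mem hg
  rw [Subgroup.pointwise_smul_def] at this
  exact this

/-- The pointwise stabiliser of an octad has order 16 and exponent 2. -/
theorem octad_fix {o : Finset GolayPt} (ho : o ∈ octads) :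
    Nat.card ↥(M24 ⊓ fixingSubgroup (Equiv.Perm GolayPt) (o : Set GolayPt)) = 16 ∧
    ∀ g ∈ M24 ⊓ fixingSubgroup (Equiv.Perm GolayPt) (o : Set GolayPt), g * g = 1 := by
  obtain ⟨g, hg, hgo⟩ := octad_to_base ho
  have hset : g • (o : Set GolayPt) = ((mk O : Finset GolayPt) : Set GolayPt) := by
    rw [← hgo]; simp
  have hmap := map_conj_fix hg (o : Set GolayPt)
  rw [hset] at hmap
  constructor
  · rw [← card_fix_O, ← hmap, Subgroup.card_map_of_injective (MulAut.conj g).injective]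
  · intro x hx
    have hx' : MulAut.conj g x ∈ M24 ⊓ fixingSubgroup (Equiv.Perm GolayPt)
        ((mk O : Finset GolayPt) : Set GolayPt) := by
      rw [← hmap]; exact Subgroup.mem_map_of_mem _ hx
    rw [fixingSubgroup_O] at hx'
    have h2 := sq_of_fixO hx'
    rw [← map_mul] at h2
    exact (MulAut.conj g).injective (by rw [h2, map_one])

end Cfsg.Agent.Lib.Helper7.M24Octad2
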