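import Cfsg.Agent.Lib.Helper7.M12Hexad
import Cfsg.Agent.Lib.Helper7.SimpleOn
import Cfsg.Prelude.Def_SporadicCombinatorics

set_option autoImplicit false

namespace Cfsg.Agent.Lib.Helper7.M12Hexad2

open Cfsg Cfsg.Agent.Lib.Helper7.GolayBase Cfsg.Agent.Lib.Helper7.GolayCode
  Cfsg.Agent.Lib.Helper7.M24Mem Cfsg.Agent.Lib.Helper7.GolayRigid
  Cfsg.Agent.Lib.Helper7.M24Main Cfsg.Agent.Lib.Helper7.GolayCount
  Cfsg.Agent.Lib.Helper7.M12Core Cfsg.Agent.Lib.Helper7.M24Octad
  Cfsg.Agent.Lib.Helper7.M12Main Cfsg.Agent.Lib.Helper7.M12Thm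
  Cfsg.Agent.Lib.Helper7.M12Hexad Cfsg.Agent.Lib.Helper7.SimpleOn
open scoped Pointwise

/-- Five points of a finset as an embedding of `Fin 5`. -/
theorem exists_emb5 (S : Finset GolayPt) (hS : 5 ≤ S.card) :
    ∃ x : Fin 5 ↪ GolayPt, ∀ i, x i ∈ S := by
  obtain ⟨T, hTS, hT⟩ := Finset.exists_subset_card_eq hS
  refine ⟨((Finset.equivFinOfCardEq hT).symm.toEmbedding).trans (Function.Embedding.subtype _),
    fun i => hTS ?_⟩
  exact ((Finset.equivFinOfCardEq hT).symm i).2

/-- An element of `M24` stabilising a dodecad and fixing five of its points is trivial. -/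
theorem eq_one_of_fix_five {d : Finset GolayPt} (hd : d ∈ dodecads) {g : Equiv.Perm GolayPt}
    (hg : g ∈ M24) (hgd : g • d = d) (S : Finset GolayPt) (hS : S ⊆ d) (hcard : 5 ≤ S.card)
    (hfix : ∀ p ∈ S, g p = p) : g = 1 := by
  obtain ⟨x, hx⟩ := exists_emb5 S hcard
  obtain ⟨u, _, huniq⟩ := sharp5 d hd x x (fun i => hS (hx i)) (fun i => hS (hx i))
  have h1 : (⟨⟨g, hg⟩, hgd⟩ : MulAction.stabilizer M24 d) = u :=
    huniq _ (fun i => hfix _ (hx i))
  have h2 : (1 : MulAction.stabilizer M24 d) = u := huniq _ (fun i => rfl)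
  have h3 : (⟨⟨g, hg⟩, hgd⟩ : MulAction.stabilizer M24 d) = 1 := h1.trans h2.symm
  exact congrArg (fun z : MulAction.stabilizer M24 d => ((z : M24) : Equiv.Perm GolayPt)) h3

theorem hexad_sub {d C : Finset GolayPt} (hC : C ∈ hexadsOn d) : C ⊆ d := by
  obtain ⟨_, o, _, rfl⟩ := hC
  exact Finset.inter_subset_right

/-- Two hexads on `d` sharing five points are equal. -/
theorem hexad_unique {d C C' : Finset GolayPt} (hC : C ∈ hexadsOn d) (hC' : C' ∈ hexadsOn d)
    (h : 5 ≤ (C ∩ C').card) : C = C' := by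
  obtain ⟨_, o, ho, rfl⟩ := hC
  obtain ⟨_, o', ho', rfl⟩ := hC'
  have : o = o' := by
    apply octad_unique ho ho'
    refine le_trans h (Finset.card_le_card ?_)
    intro p hp
    simp only [Finset.mem_inter] at hp ⊢
    exact ⟨hp.1.1, hp.2.1⟩
  rw [this]

theorem smul_hexad {d C : Finset GolayPt} (hC : C ∈ hexadsOn d) {g : Equiv.Perm GolayPt}
    (hg : g ∈ M24) (hgd : g • d = d) : g • C ∈ hexadsOn d := by
  obtain ⟨h6, o, ho, rfl⟩ := hC
  refine ⟨by rw [Finset.card_smul_finset]; exact h6, g • o, smul_mem_octads hg ho, ?_⟩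
  rw [Finset.smul_finset_inter, hgd]

theorem ncard_hexadsOn {d : Finset GolayPt} (hd : d ∈ dodecads) : (hexadsOn d).ncard = 132 := by
  have h1 := (hexad_count d hd).1
  have himg : (fun o : Finset GolayPt => o ∩ d) '' {o | o ∈ octads ∧ (o ∩ d).card = 6} =
      hexadsOn d := by
    ext C
    constructor
    · rintro ⟨o, ⟨ho, h6⟩, rfl⟩
      exact ⟨h6, o, ho, rfl⟩
    · rintro ⟨h6, o, ho, rfl⟩
      exact ⟨o, ⟨ho, h6⟩, rfl⟩
  rw [← himg, Set.InjOn.ncard_image, h1]
  rintro o ⟨ho, h6⟩ o' ⟨ho', _⟩ heq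
  apply octad_unique ho ho'
  have : o ∩ d ⊆ o ∩ o' := by
    intro p hp
    have hp' : p ∈ o' ∩ d := by
      have h := hp
      simp only at heq
      rw [heq] at h
      exact h
    simp only [Finset.mem_inter] at hp hp' ⊢
    exact ⟨hp.1, hp'.1⟩
  have := Finset.card_le_card this
  omega

/-- The dodecad stabiliser is transitive on the hexads. -/
theorem hexad_transitive {d : Finset GolayPt} (hd : d ∈ dodecads) {C C' : Finset GolayPt}
    (hC : C ∈ hexadsOn d) (hC' : C' ∈ hexadsOn d) :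
    ∃ g : MulAction.stabilizer M24 d, ((g : M24) : Equiv.Perm GolayPt) • C = C' := by
  obtain ⟨x, hx⟩ := exists_emb5 C (by rw [hC.1]; norm_num)
  obtain ⟨y, hy⟩ := exists_emb5 C' (by rw [hC'.1]; norm_num)
  obtain ⟨g, hg, _⟩ := sharp5 d hd x y (fun i => hexad_sub hC (hx i))
    (fun i => hexad_sub hC' (hy i))
  refine ⟨g, hexad_unique (smul_hexad hC (g : M24).2 g.2) hC' ?_⟩
  have hsub : Finset.univ.map y ⊆ ((g : M24) : Equiv.Perm GolayPt) • C ∩ C' := by
    intro p hp
    simp only [Finset.mem_map, Finset.mem_univ, true_and] at hp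
    obtain ⟨i, rfl⟩ := hp
    rw [Finset.mem_inter]
    refine ⟨?_, hy i⟩
    rw [← hg i]
    exact Finset.smul_mem_smul_finset (hx i)
  have := Finset.card_le_card hsub
  rw [Finset.card_map, Finset.card_univ, Fintype.card_fin] at this
  exact this

/-- The joint stabiliser of a dodecad and a hexad on it has order 720. -/
theorem card_stab_hexad {d : Finset GolayPt} (hd : d ∈ dodecads) {C : Finset GolayPt}
    (hC : C ∈ hexadsOn d) :
    Nat.card ↥(MulAction.stabilizer M24 d ⊓ MulAction.stabilizer M24 C) = 720 := by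
  have h1 : Nat.card ↥(MulAction.stabilizer M24 d ⊓ MulAction.stabilizer M24 C) =
      Nat.card (MulAction.stabilizer (MulAction.stabilizer M24 d) C) := by
    rw [← Subgroup.card_subtype (MulAction.stabilizer M24 d)
      (MulAction.stabilizer (MulAction.stabilizer M24 d) C)]
    congr 2
    ext g
    simp only [Subgroup.mem_inf, MulAction.mem_stabilizer_iff, Subgroup.mem_map,
      Subgroup.coe_subtype, Subtype.exists, exists_and_right, exists_eq_right]
    constructor
    · rintro ⟨h1, h2⟩; exact ⟨h1, h2⟩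
    · rintro ⟨h1, h2⟩; exact ⟨h1, h2⟩
  have horb : MulAction.orbit (MulAction.stabilizer M24 d) C = hexadsOn d := by
    ext C'
    constructor
    · rintro ⟨g, rfl⟩
      exact smul_hexad hC (g : M24).2 g.2
    · intro hC'
      obtain ⟨g, hg⟩ := hexad_transitive hd hC hC'
      exact ⟨g, hg⟩
  have h2 := Subgroup.card_mul_index (MulAction.stabilizer (MulAction.stabilizer M24 d) C)
  rw [MulAction.index_stabilizer, horb, ncard_hexadsOn hd, card_stab d hd] at h2
  rw [h1]
  omega

/-- The joint stabiliser of a dodecad and a hexad on it is isomorphic to `S6`. -/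
theorem stab_hexad_iso {d : Finset GolayPt} (hd : d ∈ dodecads) {C : Finset GolayPt}
    (hC : C ∈ hexadsOn d) :
    Nonempty (↥(MulAction.stabilizer M24 d ⊓ MulAction.stabilizer M24 C) ≃*
      Equiv.Perm (Fin 6)) := by
  have hinv : ∀ (g : ↥(MulAction.stabilizer M24 d ⊓ MulAction.stabilizer M24 C))
      (x : GolayPt), x ∈ C → g • x ∈ C := by
    intro g x hx
    have hgC : ((g : M24) : Equiv.Perm GolayPt) • C = C := g.2.2
    have h1 : ((g : M24) : Equiv.Perm GolayPt) • x ∈ ((g : M24) : Equiv.Perm GolayPt) • C :=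
      Finset.smul_mem_smul_finset hx
    rw [hgC] at h1
    exact h1
  letI : MulAction ↥(MulAction.stabilizer M24 d ⊓ MulAction.stabilizer M24 C) C :=
    subAction C hinv
  have hinj : Function.Injective
      (MulAction.toPermHom ↥(MulAction.stabilizer M24 d ⊓ MulAction.stabilizer M24 C) C) := by
    rw [← MonoidHom.ker_eq_bot_iff, eq_bot_iff]
    intro g hg
    rw [MonoidHom.mem_ker] at hg
    rw [Subgroup.mem_bot]
    apply Subtype.ext
    apply Subtype.ext
    refine eq_one_of_fix_five hd (g : M24).2 g.2.1 C (hexad_sub hC) (by rw [hC.1]; norm_num) ?_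
    intro p hp
    have h1 := congrArg (fun e : Equiv.Perm C => ((e ⟨p, hp⟩ : C) : GolayPt)) hg
    exact h1
  have hcard : Nat.card ↥(MulAction.stabilizer M24 d ⊓ MulAction.stabilizer M24 C) =
      Nat.card (Equiv.Perm C) := by
    rw [card_stab_hexad hd hC, Nat.card_eq_fintype_card, Fintype.card_perm, Fintype.card_coe,
      hC.1]
    rfl
  have hbij := (Nat.bijective_iff_injective_and_card _).mpr ⟨hinj, hcard⟩
  exact ⟨(MulEquiv.ofBijective _ hbij).trans
    (Equiv.permCongrHom (Finset.equivFinOfCardEq hC.1))⟩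

/-- The full statement on hexad stabilisers. -/
theorem stab_hexad {d : Finset GolayPt} (hd : d ∈ dodecads) {C : Finset GolayPt}
    (hC : C ∈ hexadsOn d) :
    Nonempty (↥(MulAction.stabilizer M24 d ⊓ MulAction.stabilizer M24 C) ≃*
      Equiv.Perm (Fin 6)) ∧
    (∀ g ∈ MulAction.stabilizer M24 d ⊓ MulAction.stabilizer M24 C,
      (∀ p ∈ C, ((g : ↥M24) : Equiv.Perm GolayPt) p = p) → g = 1) ∧
    ∀ g ∈ MulAction.stabilizer M24 d ⊓ MulAction.stabilizer M24 C,
      (∀ p ∈ d \ C, ((g : ↥M24) : Equiv.Perm GolayPt) p = p) → g = 1 := by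
  refine ⟨stab_hexad_iso hd hC, ?_, ?_⟩
  · intro g hg hfix
    apply Subtype.ext
    exact eq_one_of_fix_five hd g.2 hg.1 C (hexad_sub hC) (by rw [hC.1]; norm_num) hfix
  · intro g hg hfix
    apply Subtype.ext
    refine eq_one_of_fix_five hd g.2 hg.1 (d \ C) Finset.sdiff_subset ?_ hfix
    rw [Finset.card_sdiff_of_subset (hexad_sub hC), hd.2, hC.1]
    norm_num

end Cfsg.Agent.Lib.Helper7.M12Hexad2
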