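import Cfsg.Agent.Lib.Helper7.M12Thm
import Cfsg.Agent.Lib.Helper7.M24Octad

set_option autoImplicit false

namespace Cfsg.Agent.Lib.Helper7.M12Hexad

open Cfsg Cfsg.Agent.Lib.Helper7.GolayBase Cfsg.Agent.Lib.Helper7.GolayCode
  Cfsg.Agent.Lib.Helper7.M24Mem Cfsg.Agent.Lib.Helper7.GolayRigid
  Cfsg.Agent.Lib.Helper7.M24Main Cfsg.Agent.Lib.Helper7.GolayCount
  Cfsg.Agent.Lib.Helper7.M12Core Cfsg.Agent.Lib.Helper7.M24Octad
  Cfsg.Agent.Lib.Helper7.M12Main
open scoped Pointwise

theorem card_inter_mk (a b : Nat) : (mk a ∩ mk b).card = popc (a &&& b) := by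
  rw [← mk_and, card_mk]

/-- The octads meeting the base dodecad in `k` points. -/
def octK (k : Nat) : List Nat := octadList.filter (fun c => popc (c &&& d0) == k)

theorem set_eq (k : Nat) :
    {o : Finset GolayPt | o ∈ octads ∧ (o ∩ mk d0).card = k} = {s | ∃ c ∈ octK k, mk c = s} := by
  ext o
  simp only [Set.mem_ofPred_eq]
  constructor
  · rintro ⟨ho, hk⟩
    obtain ⟨c, hc, rfl⟩ := (mem_octads_iff o).mp ho
    rw [card_inter_mk] at hk
    exact ⟨c, by simp [octK, hc, hk], rfl⟩
  · rintro ⟨c, hc, rfl⟩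
    simp only [octK, List.mem_filter, beq_iff_eq] at hc
    exact ⟨(mem_octads_iff _).mpr ⟨c, hc.1, rfl⟩, by rw [card_inter_mk]; exact hc.2⟩

theorem count0 (k : Nat) :
    {o : Finset GolayPt | o ∈ octads ∧ (o ∩ mk d0).card = k}.ncard = (octK k).length := by
  rw [set_eq]
  exact ncard_mk_image (octK k) ((codeList_nodup.filter _).filter _)
    (fun c hc => codeList_lt c (mem_octadList.mp (List.mem_filter.mp hc).1).1)

theorem octK6 : (octK 6).length = 132 := by decide +kernel
theorem octK2 : (octK 2).length = 132 := by decide +kernel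
theorem octK4 : (octK 4).length = 495 := by decide +kernel

theorem count_transfer {d : Finset GolayPt} {g : Equiv.Perm GolayPt} (hg : g ∈ M24)
    (hgd : g • d = mk d0) (k : Nat) :
    {o : Finset GolayPt | o ∈ octads ∧ (o ∩ d).card = k}.ncard =
      {o : Finset GolayPt | o ∈ octads ∧ (o ∩ mk d0).card = k}.ncard := by
  have himg : (fun o : Finset GolayPt => g • o) '' {o : Finset GolayPt | o ∈ octads ∧ (o ∩ d).card = k}
      = {o : Finset GolayPt | o ∈ octads ∧ (o ∩ mk d0).card = k} := by
    ext o'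
    simp only [Set.mem_image, Set.mem_ofPred_eq]
    constructor
    · rintro ⟨o, ⟨ho, hk⟩, rfl⟩
      refine ⟨smul_mem_octads hg ho, ?_⟩
      rw [← hgd, ← Finset.smul_finset_inter, Finset.card_smul_finset]
      exact hk
    · rintro ⟨ho', hk⟩
      refine ⟨g⁻¹ • o', ⟨smul_mem_octads (M24.inv_mem hg) ho', ?_⟩, smul_inv_smul g o'⟩
      rw [← Finset.card_smul_finset g, Finset.smul_finset_inter, smul_inv_smul, hgd]
      exact hk
  rw [← himg]
  exact (Set.ncard_image_of_injective _ (MulAction.injective g)).symm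

theorem hexad_count (d : Finset GolayPt) (hd : d ∈ dodecads) :
    {o : Finset GolayPt | o ∈ octads ∧ (o ∩ d).card = 6}.ncard = 132 ∧
    {o : Finset GolayPt | o ∈ octads ∧ (o ∩ d).card = 2}.ncard = 132 ∧
    {o : Finset GolayPt | o ∈ octads ∧ (o ∩ d).card = 4}.ncard = 495 := by
  obtain ⟨g, hg, hgd⟩ := dodecad_to_base hd
  refine ⟨?_, ?_, ?_⟩
  · rw [count_transfer hg hgd, count0, octK6]
  · rw [count_transfer hg hgd, count0, octK2]
  · rw [count_transfer hg hgd, count0, octK4]

/-- An octad meets a dodecad in 2, 4 or 6 points. -/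
theorem octad_inter_dodecad {o d : Finset GolayPt} (ho : o ∈ octads) (hd : d ∈ dodecads) :
    (o ∩ d).card = 2 ∨ (o ∩ d).card = 4 ∨ (o ∩ d).card = 6 := by
  obtain ⟨c, hc, rfl⟩ := (mem_octads_iff o).mp ho
  obtain ⟨e, he, rfl⟩ := (mem_dodecads_iff d).mp hd
  rw [card_inter_mk]
  obtain ⟨hc1, hc2⟩ := mem_octadList.mp hc
  obtain ⟨he1, he2⟩ := mem_dodecadList.mp he
  have h1 := card_symmDiff_mk c e
  have h2 := weights _ (xor_mem_codeList hc1 he1)
  have h3 : popc (c &&& e) ≤ 8 := by
    rw [← hc2, ← card_mk, ← card_mk, mk_and]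
    exact Finset.card_le_card Finset.inter_subset_left
  rw [hc2, he2] at h1
  rcases h2 with h | h | h | h | h <;> omega

theorem hexads_steiner (d : Finset GolayPt) (hd : d ∈ dodecads) :
    IsSteinerSystem 5 6 {h : Finset {p : GolayPt // p ∈ d} |
      ∃ o ∈ octads, (o ∩ d).card = 6 ∧ h = Finset.subtype (fun p => p ∈ d) o} := by
  refine ⟨?_, ?_⟩
  · rintro b ⟨o, ho, h6, rfl⟩
    rw [Finset.card_subtype, Finset.filter_mem_eq_inter]
    exact h6
  · intro s hs
    have hs' : (s.map (Function.Embedding.subtype _)).card = 5 := by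
      rw [Finset.card_map]; exact hs
    have hsd : s.map (Function.Embedding.subtype _) ⊆ d := by
      intro p hp
      simp only [Finset.mem_map, Function.Embedding.subtype_apply] at hp
      obtain ⟨a, _, rfl⟩ := hp
      exact a.2
    obtain ⟨o, ho, hso⟩ := exists_octad_of_five _ hs'
    have h5 : 5 ≤ (o ∩ d).card := by
      rw [← hs']
      exact Finset.card_le_card (Finset.subset_inter hso hsd)
    have h6 : (o ∩ d).card = 6 := by
      rcases octad_inter_dodecad ho hd with h | h | h <;> omega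
    refine ⟨Finset.subtype (fun p => p ∈ d) o, ⟨⟨o, ho, h6, rfl⟩, ?_⟩, ?_⟩
    · intro a ha
      rw [Finset.mem_subtype]
      exact hso (Finset.mem_map_of_mem _ ha)
    · rintro b ⟨⟨o', ho', _, rfl⟩, hsb⟩
      have hso' : s.map (Function.Embedding.subtype _) ⊆ o' := by
        intro p hp
        simp only [Finset.mem_map, Function.Embedding.subtype_apply] at hp
        obtain ⟨a, ha, rfl⟩ := hp
        exact Finset.mem_subtype.mp (hsb ha)
      have : o' = o := by
        apply octad_unique ho' ho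
        rw [← hs']
        exact Finset.card_le_card (Finset.subset_inter hso' hso)
      rw [this]

end Cfsg.Agent.Lib.Helper7.M12Hexad
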