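import Mathlib
import Cfsg.Agent.Lib.Helper25.ACStmt

/-!
# S3912 / LIFT2 (helper7)

Lifting elements of 2-power order modulo a normal subgroup of odd order.
-/

set_option autoImplicit false

namespace Cfsg.Agent.Lib.Helper7.ACLIFT2

open Cfsg.Agent.Lib.Helper25.ACStmt

universe u

theorem main : Lift2.{u} := by
  intro G _ _ K _ hK y k hy
  rcases Nat.eq_zero_or_pos k with hk0 | hkpos
  · subst hk0
    rw [pow_zero, orderOf_eq_one_iff] at hy
    exact ⟨1, by rw [orderOf_one, pow_zero], by rw [map_one, hy]⟩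
  obtain ⟨g₀, rfl⟩ := QuotientGroup.mk'_surjective K y
  obtain ⟨c, hc⟩ : ∃ c, c = Nat.card ↥K := ⟨_, rfl⟩
  have hcodd : Odd c := hc ▸ hK
  have hcop : Nat.Coprime c (2 ^ k) :=
    Nat.Coprime.pow_right k (Nat.Coprime.symm (Nat.coprime_two_left.mpr hcodd))
  have h1lt : 1 < 2 ^ k := Nat.one_lt_two_pow (Nat.pos_iff_ne_zero.mp hkpos)
  obtain ⟨t, -, ht⟩ := Nat.exists_mul_mod_eq_one_of_coprime hcop h1lt
  have hg₀K : g₀ ^ 2 ^ k ∈ K := by
    have h1 : (QuotientGroup.mk' K) (g₀ ^ 2 ^ k) = 1 := by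
      rw [map_pow, ← hy, pow_orderOf_eq_one]
    exact (QuotientGroup.eq_one_iff _).mp h1
  have hKpow : (g₀ ^ 2 ^ k) ^ c = 1 := by
    have h1 : (⟨g₀ ^ 2 ^ k, hg₀K⟩ : ↥K) ^ Nat.card ↥K = 1 := pow_card_eq_one'
    rw [← hc] at h1
    have h2 := congrArg (Subtype.val) h1
    rw [Subgroup.coe_pow, Subgroup.coe_one] at h2
    exact h2
  refine ⟨g₀ ^ (c * t), ?_, ?_⟩
  · apply Nat.dvd_antisymm
    · apply orderOf_dvd_of_pow_eq_one
      rw [← pow_mul, mul_comm (c * t), ← mul_assoc, pow_mul, pow_mul, hKpow, one_pow]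
    · have h1 : orderOf ((QuotientGroup.mk' K) (g₀ ^ (c * t))) ∣ orderOf (g₀ ^ (c * t)) :=
        orderOf_map_dvd _ _
      have h2 : (QuotientGroup.mk' K) (g₀ ^ (c * t)) = (QuotientGroup.mk' K) g₀ := by
        rw [map_pow, ← pow_mod_orderOf, hy, ht, pow_one]
      rw [h2, hy] at h1
      exact h1
  · rw [map_pow, ← pow_mod_orderOf, hy, ht, pow_one]

end Cfsg.Agent.Lib.Helper7.ACLIFT2
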