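import Mathlib
import Cfsg.Agent.Lib.Helper25.ACStmt

/-!
# S3912 / ODDCORE (helper7)

A normal subgroup `K` of odd order of maximal order: `G ⧸ K` has no nontrivial normal subgroup
of odd order.
-/

set_option autoImplicit false

namespace Cfsg.Agent.Lib.Helper7.ACODDCORE

open Cfsg.Agent.Lib.Helper25.ACStmt

universe u

theorem main : OddCore.{u} := by
  intro G _ _
  classical
  have hne : Nonempty {K : Subgroup G // K.Normal ∧ Odd (Nat.card ↥K)} :=
    ⟨⟨⊥, inferInstance, by rw [Subgroup.card_bot]; exact odd_one⟩⟩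
  obtain ⟨⟨K, hKn, hKo⟩, hmax⟩ :=
    Finite.exists_max (fun K : {K : Subgroup G // K.Normal ∧ Odd (Nat.card ↥K)} => Nat.card ↥K.1)
  refine ⟨K, hKn, hKo, fun Y hY hYo => ?_⟩
  have hA₁n : (Y.comap (QuotientGroup.mk' K)).Normal := hY.comap _
  have hidx : (Y.comap (QuotientGroup.mk' K)).index = Y.index :=
    Subgroup.index_comap_of_surjective Y (QuotientGroup.mk'_surjective K)
  have h1 := Subgroup.card_mul_index (Y.comap (QuotientGroup.mk' K))
  have h2 := Subgroup.card_mul_index K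
  have h3 := Subgroup.card_mul_index Y
  have h4 : K.index = Nat.card (G ⧸ K) := Subgroup.index_eq_card K
  have hYi : Y.index ≠ 0 := Subgroup.index_ne_zero_of_finite
  have hcard : Nat.card ↥(Y.comap (QuotientGroup.mk' K)) = Nat.card ↥K * Nat.card ↥Y := by
    rw [hidx] at h1
    rw [h4, ← h3, ← mul_assoc] at h2
    exact Nat.eq_of_mul_eq_mul_right (Nat.pos_of_ne_zero hYi) (h1.trans h2.symm)
  have hle := hmax ⟨Y.comap (QuotientGroup.mk' K), hA₁n, by rw [hcard]; exact hKo.mul hYo⟩
  have hle' : Nat.card ↥K * Nat.card ↥Y ≤ Nat.card ↥K * 1 := by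
    rw [mul_one, ← hcard]
    exact hle
  have hKpos : 0 < Nat.card ↥K := Nat.card_pos
  exact Subgroup.eq_bot_of_card_le Y (Nat.le_of_mul_le_mul_left hle' hKpos)

end Cfsg.Agent.Lib.Helper7.ACODDCORE
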