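import Mathlib
import Cfsg.Agent.Lib.Helper25.ACStmt

/-!
# S3912 / TYPEII (helper7)

`P₁ ⊔ H₁` and `P₂ ⊔ H₂` are conjugate: (B) gives `H₂ = g H₁ g⁻¹`; `g P₁ g⁻¹` and `P₂` are Sylow
2-subgroups of `C = X ⊓ centralizer H₂`.
-/

set_option autoImplicit false

namespace Cfsg.Agent.Lib.Helper7.ACTYPEII

open Cfsg.Agent.Lib.Helper25.ACStmt
open scoped Pointwise

universe u

theorem main : TypeII.{u} := by
  intro G _ _ hB X hX hXm P₁ P₂ H₁ H₂ hP₁X hP₂X hP₁ hP₂ hH₁ hH₂ hH hc₁ hc₂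
  obtain ⟨m, hm, hXc⟩ := hXm
  classical
  have : Fact (Nat.Prime 2) := ⟨Nat.prime_two⟩
  have hH₁c : IsMulCommutative ↥H₁ := ⟨⟨fun a b => Subtype.ext (hH₁ a a.2 b b.2)⟩⟩
  have hH₂c : IsMulCommutative ↥H₂ := ⟨⟨fun a b => Subtype.ext (hH₂ a a.2 b b.2)⟩⟩
  obtain ⟨g, hg⟩ := hB H₁ H₂ hH₁c hH₂c hH
  have hH₂mem : ∀ h, h ∈ H₂ ↔ ∃ h₁ ∈ H₁, g * h₁ * g⁻¹ = h := by
    intro h
    rw [hg]
    constructor
    · rintro ⟨h₁, hh₁, rfl⟩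
      exact ⟨h₁, hh₁, rfl⟩
    · rintro ⟨h₁, hh₁, rfl⟩
      exact ⟨h₁, hh₁, rfl⟩
  obtain ⟨C, hC⟩ : ∃ C : Subgroup G, C = X ⊓ Subgroup.centralizer (H₂ : Set G) := ⟨_, rfl⟩
  have hCX : C ≤ X := hC ▸ inf_le_left
  have hCcent : ∀ c ∈ C, ∀ h ∈ H₂, h * c = c * h := by
    intro c hc h hh
    rw [hC] at hc
    exact (Subgroup.mem_centralizer_iff.mp (Subgroup.mem_inf.mp hc).2) h hh
  have hCmem : ∀ x ∈ X, (∀ h ∈ H₂, h * x = x * h) → x ∈ C := by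
    intro x hx hxc
    rw [hC]
    exact Subgroup.mem_inf.mpr ⟨hx, Subgroup.mem_centralizer_iff.mpr hxc⟩
  obtain ⟨P₁', hP₁'⟩ : ∃ P₁' : Subgroup G, P₁' = P₁.map (MulAut.conj g).toMonoidHom := ⟨_, rfl⟩
  have hP₁'mem : ∀ x, x ∈ P₁' ↔ ∃ p ∈ P₁, g * p * g⁻¹ = x := by
    intro x
    rw [hP₁']
    constructor
    · rintro ⟨p, hp, rfl⟩
      exact ⟨p, hp, rfl⟩
    · rintro ⟨p, hp, rfl⟩
      exact ⟨p, hp, rfl⟩
  have hP₁'card : Nat.card ↥P₁' = 8 := by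
    rw [hP₁', Subgroup.card_map_of_injective (MulAut.conj g).injective, hP₁]
  have hP₁'C : P₁' ≤ C := by
    intro x hx
    obtain ⟨p, hp, rfl⟩ := (hP₁'mem x).mp hx
    refine hCmem _ (hX.conj_mem p (hP₁X hp) g) ?_
    intro h hh
    obtain ⟨h₁, hh₁, rfl⟩ := (hH₂mem h).mp hh
    have h5 := hc₁ h₁ hh₁ p hp
    calc g * h₁ * g⁻¹ * (g * p * g⁻¹) = g * (h₁ * p) * g⁻¹ := by group
      _ = g * (p * h₁) * g⁻¹ := by rw [h5]
      _ = g * p * g⁻¹ * (g * h₁ * g⁻¹) := by group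
  have hP₂C : P₂ ≤ C := fun x hx => hCmem x (hP₂X hx) (fun h hh => hc₂ h hh x hx)
  have hCdvd : Nat.card ↥C ∣ 8 * m := hXc ▸ Subgroup.card_dvd_of_le hCX
  have key : ∀ Q : Subgroup G, Q ≤ C → Nat.card ↥Q = 8 →
      ∃ S : Sylow 2 ↥C, (S : Subgroup ↥C) = Q.subgroupOf C := by
    intro Q hQC hQ
    have hcard : Nat.card ↥(Q.subgroupOf C) = 2 ^ 3 := by
      rw [Nat.card_congr (Subgroup.subgroupOfEquivOfLe hQC).toEquiv, hQ]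
      norm_num
    have hp : IsPGroup 2 ↥(Q.subgroupOf C) := IsPGroup.of_card hcard
    have hidx : ¬ 2 ∣ (Q.subgroupOf C).index := by
      intro h2
      have h1 := Subgroup.card_mul_index (Q.subgroupOf C)
      rw [hcard] at h1
      have h3 : 2 ^ 3 * (Q.subgroupOf C).index ∣ 8 * m := h1 ▸ hCdvd
      have h4 : (Q.subgroupOf C).index ∣ m := Nat.dvd_of_mul_dvd_mul_left (by norm_num) h3
      have h5 : 2 ∣ m := h2.trans h4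
      exact (Nat.not_even_iff_odd.mpr hm) (even_iff_two_dvd.mpr h5)
    exact ⟨hp.toSylow hidx, rfl⟩
  obtain ⟨S₁, hS₁⟩ := key P₁' hP₁'C hP₁'card
  obtain ⟨S₂, hS₂⟩ := key P₂ hP₂C hP₂
  obtain ⟨c, hc⟩ := MulAction.exists_smul_eq ↥C S₁ S₂
  have hcC : (c : G) ∈ C := c.2
  have hle : P₂ ≤ P₁.map (MulAut.conj ((c : G) * g)).toMonoidHom := by
    intro x hx
    have hxC : x ∈ C := hP₂C hx
    have h1 : (⟨x, hxC⟩ : ↥C) ∈ (S₂ : Subgroup ↥C) := by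
      rw [hS₂]
      exact Subgroup.mem_subgroupOf.mpr hx
    rw [← hc] at h1
    have h2 : ((c • S₁ : Sylow 2 ↥C) : Subgroup ↥C) = MulAut.conj c • (S₁ : Subgroup ↥C) := rfl
    rw [h2, hS₁, Subgroup.mem_pointwise_smul_iff_inv_smul_mem] at h1
    have h3 : ((c : G))⁻¹ * x * (c : G) ∈ P₁' := by
      have h4 := Subgroup.mem_subgroupOf.mp h1
      simpa [MulAut.smul_def] using h4
    obtain ⟨p, hp, hpx⟩ := (hP₁'mem _).mp h3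
    refine ⟨p, hp, ?_⟩
    show (c : G) * g * p * ((c : G) * g)⁻¹ = x
    calc (c : G) * g * p * ((c : G) * g)⁻¹ = (c : G) * (g * p * g⁻¹) * (c : G)⁻¹ := by group
      _ = (c : G) * ((c : G)⁻¹ * x * (c : G)) * (c : G)⁻¹ := by rw [hpx]
      _ = x := by group
  have hPeq : P₁.map (MulAut.conj ((c : G) * g)).toMonoidHom = P₂ :=
    (Subgroup.eq_of_le_of_card_ge hle (by
      rw [Subgroup.card_map_of_injective (MulAut.conj ((c : G) * g)).injective, hP₁, hP₂])).symm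
  have hconj : ∀ h₁ ∈ H₁, (c : G) * g * h₁ * ((c : G) * g)⁻¹ = g * h₁ * g⁻¹ := by
    intro h₁ hh₁
    have h2 : g * h₁ * g⁻¹ ∈ H₂ := (hH₂mem _).mpr ⟨h₁, hh₁, rfl⟩
    have hcc := hCcent c hcC (g * h₁ * g⁻¹) h2
    calc (c : G) * g * h₁ * ((c : G) * g)⁻¹ = (c : G) * (g * h₁ * g⁻¹) * (c : G)⁻¹ := by group
      _ = (g * h₁ * g⁻¹) * (c : G) * (c : G)⁻¹ := by rw [hcc]
      _ = g * h₁ * g⁻¹ := by group
  have hHeq : H₁.map (MulAut.conj ((c : G) * g)).toMonoidHom = H₂ := by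
    ext x
    constructor
    · rintro ⟨h₁, hh₁, rfl⟩
      show (c : G) * g * h₁ * ((c : G) * g)⁻¹ ∈ H₂
      rw [hconj h₁ hh₁]
      exact (hH₂mem _).mpr ⟨h₁, hh₁, rfl⟩
    · intro hx
      obtain ⟨h₁, hh₁, rfl⟩ := (hH₂mem x).mp hx
      exact ⟨h₁, hh₁, hconj h₁ hh₁⟩
  refine ⟨(c : G) * g, ?_⟩
  rw [Subgroup.map_sup, hPeq, hHeq]

end Cfsg.Agent.Lib.Helper7.ACTYPEII
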