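import Mathlib
import Cfsg.Agent.Lib.Helper19.BTGen

set_option autoImplicit false

/-!
# S2369 piece PARCARD (second seat): the order of a minimal parabolic subgroup.
-/

namespace Cfsg.Agent.Lib.Helper7.BTPARCARD

open Cfsg.Agent.Lib.Helper19.BTGen

universe u

theorem main : ParCard.{u} := by
  intro G _ _ B P s hP hs
  set D : Set G := {g : G | ∃ b ∈ B, ∃ b' ∈ B, g = b * s * b'} with hD
  have hPeq : (P : Set G) = (B : Set G) ∪ D := by
    ext g
    simp only [SetLike.mem_coe, Set.mem_union]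
    exact hP g
  have hdisj : Disjoint (B : Set G) D := by
    rw [Set.disjoint_left]
    rintro g hgB ⟨b, hb, b', hb', rfl⟩
    apply hs
    have h1 : b⁻¹ * (b * s * b') * b'⁻¹ ∈ B :=
      B.mul_mem (B.mul_mem (B.inv_mem hb) hgB) (B.inv_mem hb')
    have h2 : b⁻¹ * (b * s * b') * b'⁻¹ = s := by group
    rwa [h2] at h1
  have h1 : Nat.card P = (P : Set G).ncard := Nat.card_coe_set_eq (P : Set G)
  have h2 : Nat.card B = (B : Set G).ncard := Nat.card_coe_set_eq (B : Set G)
  have h3 : Nat.card {g : G // ∃ b ∈ B, ∃ b' ∈ B, g = b * s * b'} = D.ncard :=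
    Nat.card_coe_set_eq D
  rw [h1, h2, h3, hPeq]
  exact Set.ncard_union_eq hdisj (Set.toFinite _) (Set.toFinite _)

end Cfsg.Agent.Lib.Helper7.BTPARCARD
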