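import Mathlib
import Cfsg.Agent.Lib.Helper19.BTGen

set_option autoImplicit false

/-!
# S2369 piece SYLCONJ (second seat): an involution is conjugate into a subgroup of 2-power order
and odd index.
-/

namespace Cfsg.Agent.Lib.Helper7.BTSYLCONJ

open Cfsg.Agent.Lib.Helper19.BTGen
open scoped Pointwise

universe u

theorem main : SylConj.{u} := by
  intro G _ _ U k hU hidx a ha
  have : Fact (Nat.Prime 2) := ⟨Nat.prime_two⟩
  have hUp : IsPGroup 2 U := IsPGroup.of_card hU
  -- `U` is a Sylow 2-subgroup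
  let P : Sylow 2 G := hUp.toSylow hidx
  have hPU : (P : Subgroup G) = U := rfl
  -- `zpowers a` is a 2-group
  have hap : IsPGroup 2 (Subgroup.zpowers a) := by
    apply IsPGroup.of_card (n := 1)
    rw [Nat.card_zpowers, ha, pow_one]
  obtain ⟨Q, hQ⟩ := hap.exists_le_sylow
  obtain ⟨g, hg⟩ := MulAction.exists_smul_eq G Q P
  refine ⟨g, ?_⟩
  have haQ : a ∈ (Q : Subgroup G) := hQ (Subgroup.mem_zpowers a)
  have h1 : MulAut.conj g • a ∈ MulAut.conj g • (Q : Subgroup G) :=
    Subgroup.smul_mem_pointwise_smul a (MulAut.conj g) (Q : Subgroup G) haQ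
  have h2 : MulAut.conj g • (Q : Subgroup G) = ((g • Q : Sylow 2 G) : Subgroup G) := rfl
  rw [h2, hg, hPU] at h1
  simpa [MulAut.smul_def] using h1

end Cfsg.Agent.Lib.Helper7.BTSYLCONJ
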