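import Mathlib
import Cfsg.Agent.Lib.Helper41.EMStmt
import Cfsg.Agent.Lib.Helper41.TMStmt
import Cfsg.Agent.Lib.Helper44.NegPairs
import Cfsg.Agent.Lib.Helper66.InvolDec

/-!
# S5990 / INVOLE (minus form; call by helper41; helper7)

An isometry of the minus form with `x * x = 1`, not scalar (`q` odd), fixes an elliptic `m`-space
for every even `m`, `2 ≤ m ≤ 2d - 2`.  `V = Ep ⊥ Em` (`Helper66.InvolDec.dec`), both nondegenerate
of dimension `≥ 1`; `A` the larger one (`a ≥ d ≥ 4`), `B` the other.  `m < a`: SUBTYPE in `A`.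
Otherwise `W = W₁ ⊥ W₂` with `W₁` not of plus type and `W₂` of plus type (`W` is not of plus type
by `CancelM`), chosen inside `A` and `B` (SUBTYPE), or `B` itself with the complementary type
in `A`.  Hypotheses: `TMStmt.Top`, `TMStmt.OrthSum` (landed: `TMWire.hTop`, `TMWire.hOrthSum`),
`EMStmt.SubTypeE`, `EMStmt.CancelM`.
-/

set_option autoImplicit false

universe u

open scoped Matrix

namespace Cfsg.Agent.Lib.Helper7.EMINVOLE

open Cfsg.Agent.Lib.Helper41.EMStmt
open Cfsg.Agent.Lib.Helper45.OMiStmt (M Aniso FxM NDegM StabM)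
open Cfsg.Agent.Lib.Helper41.TMTwoStmt (PlusM)
open Cfsg.Agent.Lib.Helper44.NegPairs (minusQ)
open Cfsg.Agent.Lib.Helper66.InvolDec
open QuadraticMap

theorem two_ne_zero_of_odd (F : Type u) [Field F] [Fintype F] (h : Odd (Fintype.card F)) :
    (2 : F) ≠ 0 := by
  apply Ring.two_ne_zero
  intro hc
  have := FiniteField.even_card_iff_char_two.mp hc
  rw [Nat.odd_iff] at h
  omega

theorem main (hTop : Cfsg.Agent.Lib.Helper41.TMStmt.Top.{u})
    (hOS : Cfsg.Agent.Lib.Helper41.TMStmt.OrthSum.{u})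
    (hST : SubTypeE.{u}) (hC : CancelM.{u}) : InvolE.{u} := by
  intro F _ _ a₀ b₀ hab hodd d m hd hm2 hmev hmd x hx hxx hns
  have h2 : (2 : F) ≠ 0 := two_ne_zero_of_odd F hodd
  have hQ : ∀ u : M d → F, minusQ (d - 1) F a₀ b₀ ((x : Matrix (M d) (M d) F) *ᵥ u)
      = minusQ (d - 1) F a₀ b₀ u := fun u => hx u u
  have hT : ∀ w : M d → F, w ≠ 0 → ∃ y, polar (minusQ (d - 1) F a₀ b₀) y w ≠ 0 := by
    intro w hw
    obtain ⟨⟨y, -, hy⟩, -⟩ := (hTop F a₀ b₀ hab d).1 w Submodule.mem_top hw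
    exact ⟨y, hy⟩
  obtain ⟨hnd₁, hnd₂, horth, -, hdim0⟩ :=
    dec (minusQ (d - 1) F a₀ b₀) h2 hT (x : Matrix (M d) (M d) F) hQ hxx
  have hcard : Fintype.card (M d) = 2 * d := by
    simp
    omega
  have hdim : Module.finrank F ↥(Ep (x : Matrix (M d) (M d) F)) +
      Module.finrank F ↥(Em (x : Matrix (M d) (M d) F)) = 2 * d := by
    rw [← hcard]
    exact hdim0
  have hxx' : ∀ v : M d → F,
      (x : Matrix (M d) (M d) F) *ᵥ ((x : Matrix (M d) (M d) F) *ᵥ v) = v := by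
    intro v
    rw [Matrix.mulVec_mulVec, hxx, Matrix.one_mulVec]
  -- both eigenspaces are nonzero
  have hposm : 1 ≤ Module.finrank F ↥(Em (x : Matrix (M d) (M d) F)) := by
    by_contra hlt
    have h0 : Module.finrank F ↥(Em (x : Matrix (M d) (M d) F)) = 0 := by omega
    have hbot : Em (x : Matrix (M d) (M d) F) = ⊥ := Submodule.finrank_eq_zero.mp h0
    have hall : ∀ v : M d → F, (x : Matrix (M d) (M d) F) *ᵥ v = v := by
      intro v
      have hmem : v - (x : Matrix (M d) (M d) F) *ᵥ v ∈ Em (x : Matrix (M d) (M d) F) := by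
        rw [mem_Em, Matrix.mulVec_sub, hxx']
        abel
      rw [hbot, Submodule.mem_bot] at hmem
      exact (sub_eq_zero.mp hmem).symm
    have hX1 : (x : Matrix (M d) (M d) F) = 1 := by
      apply Matrix.mulVec_injective
      funext v
      rw [hall v, Matrix.one_mulVec]
    exact hns 1 (by rw [one_smul]; exact hX1)
  have hposp : 1 ≤ Module.finrank F ↥(Ep (x : Matrix (M d) (M d) F)) := by
    by_contra hlt
    have h0 : Module.finrank F ↥(Ep (x : Matrix (M d) (M d) F)) = 0 := by omega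
    have hbot : Ep (x : Matrix (M d) (M d) F) = ⊥ := Submodule.finrank_eq_zero.mp h0
    have hall : ∀ v : M d → F, (x : Matrix (M d) (M d) F) *ᵥ v = -v := by
      intro v
      have hmem : v + (x : Matrix (M d) (M d) F) *ᵥ v ∈ Ep (x : Matrix (M d) (M d) F) := by
        rw [mem_Ep, Matrix.mulVec_add, hxx']
        abel
      rw [hbot, Submodule.mem_bot] at hmem
      exact eq_neg_of_add_eq_zero_right hmem
    have hX1 : (x : Matrix (M d) (M d) F) = -1 := by
      apply Matrix.mulVec_injective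
      funext v
      rw [hall v, Matrix.neg_mulVec, Matrix.one_mulVec]
    exact hns (-1) (by rw [neg_one_smul]; exact hX1)
  -- stability of sums
  have hstabsup : ∀ W₁ W₂ : Submodule F (M d → F), StabM (x : Matrix (M d) (M d) F) W₁ →
      StabM (x : Matrix (M d) (M d) F) W₂ → StabM (x : Matrix (M d) (M d) F) (W₁ ⊔ W₂) := by
    intro W₁ W₂ h₁ h₂
    show (W₁ ⊔ W₂).map (Matrix.toLin' (x : Matrix (M d) (M d) F)) ≤ W₁ ⊔ W₂
    rw [Submodule.map_sup]
    exact sup_le_sup h₁ h₂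
  -- non-plus ⊥ plus is elliptic
  have hcomb : ∀ W₁ W₂ : Submodule F (M d → F), NDegM d F a₀ b₀ W₁ → ¬ PlusM d F a₀ b₀ W₁ →
      NDegM d F a₀ b₀ W₂ → PlusM d F a₀ b₀ W₂ →
      (∀ u ∈ W₁, ∀ v ∈ W₂, polar (Cfsg.quadFormMinus (d - 1) F a₀ b₀) u v = 0) →
      StabM (x : Matrix (M d) (M d) F) W₁ → StabM (x : Matrix (M d) (M d) F) W₂ →
      Module.finrank F ↥W₁ + Module.finrank F ↥W₂ = m →
      ∃ W : Submodule F (M d → F), MemEM d F a₀ b₀ m W ∧ StabM (x : Matrix (M d) (M d) F) W := by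
    intro W₁ W₂ hN₁ hnp₁ hN₂ hp₂ horth₁₂ hs₁ hs₂ hsum
    obtain ⟨hN, -, hdimW⟩ := hOS F a₀ b₀ hab d W₁ W₂ hN₁ hN₂ horth₁₂
    have horth₂₁ : ∀ u ∈ W₂, ∀ v ∈ W₁,
        polar (Cfsg.quadFormMinus (d - 1) F a₀ b₀) u v = 0 := by
      intro u hu v hv
      rw [polar_comm]
      exact horth₁₂ v hv u hu
    have hfin : Module.finrank F ↥(W₁ ⊔ W₂) = m := by
      rw [hdimW]
      exact hsum
    have hnp : ¬ Cfsg.Geo.IsPlusTypeOn (Cfsg.quadFormMinus (d - 1) F a₀ b₀) (W₁ ⊔ W₂) := by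
      intro hplus
      have hplus' : PlusM d F a₀ b₀ (W₂ ⊔ W₁) := by
        rw [sup_comm]
        exact hplus
      exact hnp₁ (hC F a₀ b₀ hab d W₂ W₁ hN₂ hN₁ horth₂₁ hplus' hp₂)
    exact ⟨W₁ ⊔ W₂, (⟨hfin, hN, hnp⟩ : _ ∧ _ ∧ _), hstabsup W₁ W₂ hs₁ hs₂⟩
  -- the general construction
  have key : ∀ A B : Submodule F (M d → F), NDegM d F a₀ b₀ A → NDegM d F a₀ b₀ B →
      (∀ u ∈ A, ∀ v ∈ B, polar (Cfsg.quadFormMinus (d - 1) F a₀ b₀) u v = 0) →
      Module.finrank F ↥A + Module.finrank F ↥B = 2 * d →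
      1 ≤ Module.finrank F ↥B → Module.finrank F ↥B ≤ Module.finrank F ↥A →
      (∀ W : Submodule F (M d → F), W ≤ A → StabM (x : Matrix (M d) (M d) F) W) →
      (∀ W : Submodule F (M d → F), W ≤ B → StabM (x : Matrix (M d) (M d) F) W) →
      ∃ W : Submodule F (M d → F), MemEM d F a₀ b₀ m W ∧ StabM (x : Matrix (M d) (M d) F) W := by
    intro A B hA hB hAB hsum hB1 hBA hsA hsB
    have horthsub : ∀ WA WB : Submodule F (M d → F), WA ≤ A → WB ≤ B →
        ∀ u ∈ WA, ∀ v ∈ WB, polar (Cfsg.quadFormMinus (d - 1) F a₀ b₀) u v = 0 :=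
      fun WA WB hWA hWB u hu v hv => hAB u (hWA hu) v (hWB hv)
    obtain ⟨j, hj⟩ := hmev
    by_cases h1 : m < Module.finrank F ↥A
    · obtain ⟨W, hWA, hMem⟩ := (hST F a₀ b₀ hab d m A hA ⟨j, hj⟩ h1).2 hm2
      exact ⟨W, hMem, hsA W hWA⟩
    · rcases Nat.even_or_odd (Module.finrank F ↥A) with hae | hao
      · obtain ⟨k, hk⟩ := hae
        by_cases h3 : m - Module.finrank F ↥A + 2 < Module.finrank F ↥B
        · obtain ⟨WA, hWAA, hWAdim, hWAnd, hWAnp⟩ :=
            (hST F a₀ b₀ hab d (Module.finrank F ↥A - 2) A hA ⟨k - 1, by omega⟩ (by omega)).2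
              (by omega)
          obtain ⟨WB, hWBB, hWBdim, hWBnd, hWBplus⟩ :=
            (hST F a₀ b₀ hab d (m - Module.finrank F ↥A + 2) B hB ⟨j - k + 1, by omega⟩ h3).1
          exact hcomb WA WB hWAnd hWAnp hWBnd hWBplus (horthsub WA WB hWAA hWBB)
            (hsA WA hWAA) (hsB WB hWBB) (by omega)
        · by_cases hBp : PlusM d F a₀ b₀ B
          · obtain ⟨WA, hWAA, hWAdim, hWAnd, hWAnp⟩ :=
              (hST F a₀ b₀ hab d (Module.finrank F ↥A - 2) A hA ⟨k - 1, by omega⟩ (by omega)).2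
                (by omega)
            exact hcomb WA B hWAnd hWAnp hB hBp (horthsub WA B hWAA le_rfl)
              (hsA WA hWAA) (hsB B le_rfl) (by omega)
          · obtain ⟨WA, hWAA, hWAdim, hWAnd, hWAplus⟩ :=
              (hST F a₀ b₀ hab d (Module.finrank F ↥A - 2) A hA ⟨k - 1, by omega⟩ (by omega)).1
            have horthBA : ∀ u ∈ B, ∀ v ∈ WA,
                polar (Cfsg.quadFormMinus (d - 1) F a₀ b₀) u v = 0 := by
              intro u hu v hv
              rw [polar_comm]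
              exact hAB v (hWAA hv) u hu
            exact hcomb B WA hB hBp hWAnd hWAplus horthBA (hsB B le_rfl) (hsA WA hWAA)
              (by omega)
      · obtain ⟨k, hk⟩ := hao
        obtain ⟨WA, hWAA, hWAdim, hWAnd, hWAnp⟩ :=
          (hST F a₀ b₀ hab d (Module.finrank F ↥A - 1) A hA ⟨k, by omega⟩ (by omega)).2
            (by omega)
        obtain ⟨WB, hWBB, hWBdim, hWBnd, hWBplus⟩ :=
          (hST F a₀ b₀ hab d (m - Module.finrank F ↥A + 1) B hB ⟨j - k, by omega⟩ (by omega)).1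
        exact hcomb WA WB hWAnd hWAnp hWBnd hWBplus (horthsub WA WB hWAA hWBB)
          (hsA WA hWAA) (hsB WB hWBB) (by omega)
  by_cases hle : Module.finrank F ↥(Em (x : Matrix (M d) (M d) F)) ≤
      Module.finrank F ↥(Ep (x : Matrix (M d) (M d) F))
  · exact key _ _ hnd₁ hnd₂ horth hdim hposm hle
      (fun W hW => map_le_of_le_Ep _ W hW) (fun W hW => map_le_of_le_Em _ W hW)
  · have horth' : ∀ u ∈ Em (x : Matrix (M d) (M d) F), ∀ v ∈ Ep (x : Matrix (M d) (M d) F),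
        polar (Cfsg.quadFormMinus (d - 1) F a₀ b₀) u v = 0 := by
      intro u hu v hv
      rw [polar_comm]
      exact horth v hv u hu
    exact key _ _ hnd₂ hnd₁ horth' (by omega) hposp (by omega)
      (fun W hW => map_le_of_le_Em _ W hW) (fun W hW => map_le_of_le_Ep _ W hW)

end Cfsg.Agent.Lib.Helper7.EMINVOLE
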