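import Mathlib
import Cfsg.Agent.Lib.Helper45.EPStmt
import Cfsg.Agent.Lib.Helper44.TPStmt
import Cfsg.Agent.Lib.Helper66.InvolDec

/-!
# S5988 / INVOLE (call by helper45; second seat helper7)

An isometry of the plus form with `x * x = 1` (`q` odd) fixes an elliptic `m`-space (`m < d`):
one of the two eigenspaces is nondegenerate of dimension `> m` (`TPStmt.InvDec`, landed as
`Helper66.TPINVDEC.main`), it contains an elliptic `m`-space (`SubTypeE`), and every subspace of
an eigenspace is invariant.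
-/

set_option autoImplicit false

universe u

open scoped Matrix

namespace Cfsg.Agent.Lib.Helper7.EPINVOLE

open Cfsg.Agent.Lib.Helper45.EPStmt
open Cfsg.Agent.Lib.Helper94.OPStmt (P NP FxP NDegP StabP)
open Cfsg.Agent.Lib.Helper66.InvolDec

theorem main (hID : Cfsg.Agent.Lib.Helper44.TPStmt.InvDec.{u}) (hST : SubTypeE.{u}) :
    InvolE.{u} := by
  intro F _ _ hodd d m hm2 hmev hmd x hx hxx
  have hx2 : x ^ 2 = 1 := by
    apply Units.ext
    rw [pow_two, Units.val_mul, hxx, Units.val_one]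
  obtain ⟨hnd₁, hnd₂, -, -, hdim, -⟩ := hID F hodd d x hx hx2
  have hnd₁' : NDegP d F (Ep (x : Matrix (P d) (P d) F)) := hnd₁
  have hnd₂' : NDegP d F (Em (x : Matrix (P d) (P d) F)) := hnd₂
  have hdim' : Module.finrank F ↥(Ep (x : Matrix (P d) (P d) F)) +
      Module.finrank F ↥(Em (x : Matrix (P d) (P d) F)) = 2 * d := hdim
  have hcase : m < Module.finrank F ↥(Ep (x : Matrix (P d) (P d) F)) ∨
      m < Module.finrank F ↥(Em (x : Matrix (P d) (P d) F)) := by omega
  rcases hcase with h | h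
  · obtain ⟨W, hWU, hMem⟩ := (hST F d m (Ep (x : Matrix (P d) (P d) F)) hnd₁' hmev h).2 hm2
    exact ⟨W, hMem, map_le_of_le_Ep _ W hWU⟩
  · obtain ⟨W, hWU, hMem⟩ := (hST F d m (Em (x : Matrix (P d) (P d) F)) hnd₂' hmev h).2 hm2
    exact ⟨W, hMem, map_le_of_le_Em _ W hWU⟩

end Cfsg.Agent.Lib.Helper7.EPINVOLE
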