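import Mathlib
import Cfsg.Agent.Lib.Helper45.EPStmt
import Cfsg.Agent.Lib.Helper44.TPStmt
import Cfsg.Agent.Lib.Helper44.NegPairs

/-!
# S5988 / NEGSQFIXB2 (call by helper45; second seat helper7)

`q ≡ 3 (mod 4)`, `x * x = -1`, `m ≡ 2 (mod 4)`, `m ≤ 2 d`: `x` fixes an elliptic `m`-space.
Planes `⟨v, x v⟩` with `Q v ≠ 0` are invariant and anisotropic (`Q (a v + b x v) = (a² + b²) Q v`);
an orthogonal sum `W'` of `(m - 2) / 2` of them is of plus type (NEGSQFIXB1), and `W' ⊥ ⟨v, x v⟩`
is not (`TPStmt.Cancel`).  Hypotheses: `TPStmt.Perp`, `TPStmt.OrthSum`, `TPStmt.Cancel` (landed)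
and `EPStmt.NegSqFixB1`.
-/

set_option autoImplicit false

universe u

open scoped Matrix

namespace Cfsg.Agent.Lib.Helper7.EPNEGSQFIXB2

open Cfsg.Agent.Lib.Helper45.EPStmt
open Cfsg.Agent.Lib.Helper94.OPStmt (P NP FxP NDegP StabP)
open Cfsg.Agent.Lib.Helper44.NegPairs (plusQ)
open QuadraticMap

theorem two_ne_zero_of_card (F : Type u) [Field F] [Fintype F] (h : Fintype.card F % 4 = 3) :
    (2 : F) ≠ 0 := by
  apply Ring.two_ne_zero
  intro hc
  have := FiniteField.even_card_iff_char_two.mp hc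
  omega

theorem sq_add_sq_eq_zero (F : Type u) [Field F] [Fintype F] (h : Fintype.card F % 4 = 3)
    (a b : F) (hab : a ^ 2 + b ^ 2 = 0) : a = 0 ∧ b = 0 := by
  have hns : ¬ IsSquare (-1 : F) := by
    rw [FiniteField.isSquare_neg_one_iff]
    intro h'
    exact h' h
  by_cases hb : b = 0
  · subst hb
    refine ⟨?_, rfl⟩
    have h0 : a ^ 2 = 0 := by
      rw [← hab]
      ring
    exact pow_eq_zero_iff (two_ne_zero) |>.mp h0
  · exfalso
    apply hns
    refine ⟨a / b, ?_⟩
    rw [div_mul_div_comm, eq_div_iff (mul_ne_zero hb hb)]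
    linear_combination (-1 : F) * hab

theorem main (hPerp : Cfsg.Agent.Lib.Helper44.TPStmt.Perp.{u})
    (hOS : Cfsg.Agent.Lib.Helper44.TPStmt.OrthSum.{u})
    (hC : Cfsg.Agent.Lib.Helper44.TPStmt.Cancel.{u})
    (hB1 : NegSqFixB1.{u}) : NegSqFixB2.{u} := by
  intro F _ _ hq d m hm hmd x hx hxx
  have h2 : (2 : F) ≠ 0 := two_ne_zero_of_card F hq
  have hQ : ∀ u : P d → F, plusQ d F ((x : Matrix (P d) (P d) F) *ᵥ u) = plusQ d F u :=
    fun u => hx u u
  have hpol : ∀ u v : P d → F,
      polar (plusQ d F) ((x : Matrix (P d) (P d) F) *ᵥ u) ((x : Matrix (P d) (P d) F) *ᵥ v)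
        = polar (plusQ d F) u v := by
    intro u v
    unfold polar
    rw [← Matrix.mulVec_add, hQ, hQ, hQ]
  have hxx' : ∀ v : P d → F,
      (x : Matrix (P d) (P d) F) *ᵥ ((x : Matrix (P d) (P d) F) *ᵥ v) = -v := by
    intro v
    rw [Matrix.mulVec_mulVec, hxx, Matrix.neg_mulVec, Matrix.one_mulVec]
  have horth : ∀ v : P d → F,
      polar (plusQ d F) v ((x : Matrix (P d) (P d) F) *ᵥ v) = 0 := by
    intro v
    have h1 := hpol v ((x : Matrix (P d) (P d) F) *ᵥ v)
    rw [hxx', polar_neg_right] at h1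
    have hc := polar_comm (plusQ d F) ((x : Matrix (P d) (P d) F) *ᵥ v) v
    have h3 : (2 : F) * polar (plusQ d F) v ((x : Matrix (P d) (P d) F) *ᵥ v) = 0 := by
      linear_combination -h1 - hc
    rcases mul_eq_zero.1 h3 with h | h
    · exact absurd h h2
    · exact h
  have hform : ∀ (v : P d → F) (a b : F),
      plusQ d F (a • v + b • ((x : Matrix (P d) (P d) F) *ᵥ v))
        = (a ^ 2 + b ^ 2) * plusQ d F v := by
    intro v a b
    have h1 : plusQ d F (a • v + b • ((x : Matrix (P d) (P d) F) *ᵥ v))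
        = plusQ d F (a • v) + plusQ d F (b • ((x : Matrix (P d) (P d) F) *ᵥ v))
          + polar (plusQ d F) (a • v) (b • ((x : Matrix (P d) (P d) F) *ᵥ v)) := by
      unfold polar
      ring
    rw [h1, QuadraticMap.map_smul, QuadraticMap.map_smul, hQ, polar_smul_left, polar_smul_right,
      horth]
    simp only [smul_eq_mul]
    ring
  have haniso : ∀ (v : P d → F), plusQ d F v ≠ 0 →
      ∀ w ∈ Submodule.span F {v, (x : Matrix (P d) (P d) F) *ᵥ v}, w ≠ 0 → plusQ d F w ≠ 0 := by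
    intro v hv w hw hw0 hQw
    obtain ⟨a, b, rfl⟩ := Submodule.mem_span_pair.mp hw
    rw [hform] at hQw
    rcases mul_eq_zero.mp hQw with h | h
    · obtain ⟨ha, hb⟩ := sq_add_sq_eq_zero F hq a b h
      apply hw0
      rw [ha, hb, zero_smul, zero_smul, add_zero]
    · exact hv h
  have hplane : ∀ (v : P d → F), plusQ d F v ≠ 0 →
      StabP (x : Matrix (P d) (P d) F)
        (Submodule.span F {v, (x : Matrix (P d) (P d) F) *ᵥ v}) ∧
      NDegP d F (Submodule.span F {v, (x : Matrix (P d) (P d) F) *ᵥ v}) ∧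
      Module.finrank F ↥(Submodule.span F {v, (x : Matrix (P d) (P d) F) *ᵥ v}) = 2 := by
    intro v hv
    refine ⟨?_, ?_, ?_⟩
    · rintro _ ⟨w, hw, rfl⟩
      obtain ⟨a, b, rfl⟩ := Submodule.mem_span_pair.mp hw
      rw [Matrix.toLin'_apply, Matrix.mulVec_add, Matrix.mulVec_smul, Matrix.mulVec_smul, hxx']
      apply Submodule.mem_span_pair.mpr
      refine ⟨-b, a, ?_⟩
      rw [smul_neg, neg_smul, add_comm]
    · intro w hw hw0
      have hne := haniso v hv w hw hw0
      have hself : polar (plusQ d F) w w = 2 * plusQ d F w := by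
        have e : w + w = (2 : F) • w := (two_smul F w).symm
        unfold polar
        rw [e, QuadraticMap.map_smul, smul_eq_mul]
        ring
      have hself' : polar (plusQ d F) w w ≠ 0 := by
        rw [hself]
        exact mul_ne_zero h2 hne
      exact ⟨⟨w, hw, hself'⟩, ⟨w, hw, hself'⟩⟩
    · have hli : LinearIndependent F ![v, (x : Matrix (P d) (P d) F) *ᵥ v] := by
        rw [LinearIndependent.pair_iff]
        intro s t hst
        have h0 : plusQ d F (s • v + t • ((x : Matrix (P d) (P d) F) *ᵥ v)) = 0 := by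
          rw [hst, QuadraticMap.map_zero]
        rw [hform] at h0
        rcases mul_eq_zero.mp h0 with h | h
        · exact sq_add_sq_eq_zero F hq s t h
        · exact absurd h hv
      have h1 := finrank_span_eq_card hli
      rw [Matrix.range_cons_cons_empty] at h1
      rw [h1]
      simp
  have hexv : ∀ Y : Submodule F (P d → F), NDegP d F Y → 0 < Module.finrank F ↥Y →
      ∃ v ∈ Y, plusQ d F v ≠ 0 := by
    intro Y hY hpos
    obtain ⟨y, hyY, hy0⟩ : ∃ y, y ∈ Y ∧ y ≠ 0 := by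
      have hne : Y ≠ ⊥ := by
        intro h0
        rw [h0, finrank_bot] at hpos
        exact lt_irrefl 0 hpos
      exact Submodule.exists_mem_ne_zero_of_ne_bot hne
    obtain ⟨⟨w, hwY, hw⟩, -⟩ := hY y hyY hy0
    by_cases h1 : plusQ d F y = 0
    · by_cases h3 : plusQ d F w = 0
      · refine ⟨w + y, Y.add_mem hwY hyY, ?_⟩
        have e : plusQ d F (w + y) = plusQ d F w + plusQ d F y + polar (plusQ d F) w y := by
          unfold polar
          ring
        rw [e, h1, h3, zero_add, zero_add]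
        exact hw
      · exact ⟨w, hwY, h3⟩
    · exact ⟨y, hyY, h1⟩
  have hstep : ∀ W' : Submodule F (P d → F), StabP (x : Matrix (P d) (P d) F) W' →
      NDegP d F W' → Module.finrank F ↥W' < 2 * d →
      ∃ v : P d → F, plusQ d F v ≠ 0 ∧
        (∀ u ∈ W', ∀ w ∈ Submodule.span F {v, (x : Matrix (P d) (P d) F) *ᵥ v},
          polar (Cfsg.quadFormPlus d F) u w = 0) := by
    intro W' hS hN hlt
    obtain ⟨Y, hperp, hYN, -, hdim, hstab⟩ := hPerp F d W' hN
    have hYS : StabP (x : Matrix (P d) (P d) F) Y := hstab x hx hS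
    have hdimY : Module.finrank F ↥W' + Module.finrank F ↥Y = 2 * d := hdim
    have hposY : 0 < Module.finrank F ↥Y := by omega
    obtain ⟨v, hvY, hv⟩ := hexv Y hYN hposY
    refine ⟨v, hv, ?_⟩
    intro u hu w hw
    have hXv : (x : Matrix (P d) (P d) F) *ᵥ v ∈ Y := by
      have h0 := hYS (Submodule.mem_map_of_mem hvY)
      rwa [Matrix.toLin'_apply] at h0
    have hle : Submodule.span F {v, (x : Matrix (P d) (P d) F) *ᵥ v} ≤ Y := by
      rw [Submodule.span_le]
      intro z hz
      rcases hz with rfl | hz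
      · exact hvY
      · rw [Set.mem_singleton_iff] at hz
        rw [hz]
        exact hXv
    exact hperp u hu w (hle hw)
  have hind : ∀ k : ℕ, 2 * k ≤ 2 * d → ∃ W' : Submodule F (P d → F),
      StabP (x : Matrix (P d) (P d) F) W' ∧ NDegP d F W' ∧ Module.finrank F ↥W' = 2 * k := by
    intro k
    induction k with
    | zero =>
      intro _
      refine ⟨⊥, ?_, ?_, ?_⟩
      · show (⊥ : Submodule F (P d → F)).map (Matrix.toLin' (x : Matrix (P d) (P d) F)) ≤ ⊥
        rw [Submodule.map_bot]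
      · intro w hw hw0
        exact absurd ((Submodule.mem_bot F).mp hw) hw0
      · rw [finrank_bot]
    | succ k ih =>
      intro hk
      obtain ⟨W', hS, hN, hdim⟩ := ih (by omega)
      obtain ⟨v, hv, hperp⟩ := hstep W' hS hN (by omega)
      obtain ⟨hAS, hAN, hAdim⟩ := hplane v hv
      obtain ⟨hN', -, hdim'⟩ := hOS F d W' (Submodule.span F {v, (x : Matrix (P d) (P d) F) *ᵥ v})
        hN hAN hperp
      refine ⟨W' ⊔ Submodule.span F {v, (x : Matrix (P d) (P d) F) *ᵥ v}, ?_, hN', ?_⟩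
      · show (W' ⊔ Submodule.span F {v, (x : Matrix (P d) (P d) F) *ᵥ v}).map
            (Matrix.toLin' (x : Matrix (P d) (P d) F)) ≤ _
        rw [Submodule.map_sup]
        exact sup_le_sup hS hAS
      · rw [hdim', hdim, hAdim]
        ring
  obtain ⟨W', hS, hN, hdim⟩ := hind ((m - 2) / 2) (by omega)
  have hdim2 : Module.finrank F ↥W' = m - 2 := by
    rw [hdim]
    omega
  obtain ⟨v, hv, hperp⟩ := hstep W' hS hN (by omega)
  obtain ⟨hAS, hAN, hAdim⟩ := hplane v hv
  obtain ⟨hN', -, hdim'⟩ := hOS F d W' (Submodule.span F {v, (x : Matrix (P d) (P d) F) *ᵥ v})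
    hN hAN hperp
  have hfin : Module.finrank F ↥(W' ⊔ Submodule.span F {v, (x : Matrix (P d) (P d) F) *ᵥ v})
      = m := by
    rw [hdim', hdim2, hAdim]
    omega
  have hnp : ¬ Cfsg.Geo.IsPlusTypeOn (Cfsg.quadFormPlus d F)
      (W' ⊔ Submodule.span F {v, (x : Matrix (P d) (P d) F) *ᵥ v}) := by
    intro hplus
    have hW'plus : PlusP d F W' := hB1 F hq d x hx hxx W' hN hS (by rw [hdim2]; omega)
    have hAplus := hC F d W' (Submodule.span F {v, (x : Matrix (P d) (P d) F) *ᵥ v}) hN hAN hperp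
      hplus hW'plus
    obtain ⟨U, hUA, hUts, hUdim⟩ := hAplus
    rw [hAdim] at hUdim
    have hUpos : 0 < Module.finrank F ↥U := by omega
    obtain ⟨u, huU, hu0⟩ : ∃ u, u ∈ U ∧ u ≠ 0 := by
      have hne : U ≠ ⊥ := by
        intro h0
        rw [h0, finrank_bot] at hUpos
        exact lt_irrefl 0 hUpos
      exact Submodule.exists_mem_ne_zero_of_ne_bot hne
    exact haniso v hv u (hUA huU) hu0 (hUts u huU)
  have hstabW : StabP (x : Matrix (P d) (P d) F)
      (W' ⊔ Submodule.span F {v, (x : Matrix (P d) (P d) F) *ᵥ v}) := by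
    show (W' ⊔ Submodule.span F {v, (x : Matrix (P d) (P d) F) *ᵥ v}).map
        (Matrix.toLin' (x : Matrix (P d) (P d) F)) ≤ _
    rw [Submodule.map_sup]
    exact sup_le_sup hS hAS
  exact ⟨W' ⊔ Submodule.span F {v, (x : Matrix (P d) (P d) F) *ᵥ v},
    (⟨hfin, hN', hnp⟩ : _ ∧ _ ∧ _), hstabW⟩

end Cfsg.Agent.Lib.Helper7.EPNEGSQFIXB2
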