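import Mathlib
import Cfsg.Agent.Lib.Helper40.GFStmt
import Cfsg.Agent.Lib.Helper44.FinSq

/-!
# S5886 / ALL1B (second seat; helper7)

`k = 2`: one special `F`-transvection in `c.M` gives all special ones (from `SpanNorm`).

Relative to the given special pair `(z₀, φ₀)` and `w₀` with `φ₀ w₀ = 1`:
`A = {a | (z₀, a • φ₀) ∈ c.M}` contains `1`, is closed under addition, under multiplication by
norm-one elements (conjugate by a dilation), by squares of `F` (rescale `z₀` and conjugate by a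
map of determinant `1`), hence by `F` (sums of two squares) and by `span F {norm one} = L`.  A
general pair `(z, φ)` is the image of `(z₀, a • φ₀)` under an `L`-linear map of determinant `1`.
-/

set_option autoImplicit false

namespace Cfsg.Agent.Lib.Helper7.GFALL1B

open Cfsg.Agent.Lib.Helper40.GFStmt

universe u

/-- conjugation of an `F`-transvection by an `L`-linear map in `c.M` -/
theorem conj_ftv {F L : Type u} [Field F] [Field L] [Algebra F L] {k : ℕ} (c : Ctx F L k)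
    (τ : L →ₗ[F] F) (e : V k L ≃ₗ[F] V k L) (he : e ∈ c.M)
    (z : V k L) (φ : V k L →ₗ[L] L) (hz : IsFtv τ e z φ) (h : V k L ≃ₗ[L] V k L)
    (hh : Algebra.norm F (LinearMap.det (h : V k L →ₗ[L] V k L)) = 1) :
    ∃ e' ∈ c.M, ∀ x : V k L, e' x = x + τ (φ (h.symm x)) • h z := by
  have hH := c.hsub h hh
  refine ⟨h.restrictScalars F * e * (h.restrictScalars F)⁻¹,
    c.M.mul_mem (c.M.mul_mem hH he) (c.M.inv_mem hH), fun x => ?_⟩
  have h1 : (h.restrictScalars F)⁻¹ x = h.symm x := rfl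
  rw [LinearEquiv.mul_apply, LinearEquiv.mul_apply, h1, hz (h.symm x), map_add, map_smul]
  show h (h.symm x) + τ (φ (h.symm x)) • h z = _
  rw [LinearEquiv.apply_symm_apply]

theorem main (hSpan : SpanNorm.{u}) : All1B.{u} := by
  intro F L _ _ _ _ c hr τ hsp z φ hφz
  classical
  obtain ⟨e₀, he₀, z₀, φ₀, hz₀, hφ₀, hφ₀z₀, hft₀⟩ := hsp
  by_cases hz : z = 0
  · refine ⟨1, c.M.one_mem, fun x => ?_⟩
    rw [hz, smul_zero, add_zero]
    rfl
  by_cases hφ : φ = 0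
  · refine ⟨1, c.M.one_mem, fun x => ?_⟩
    rw [hφ, LinearMap.zero_apply, map_zero, zero_smul, add_zero]
    rfl
  have hex : ∀ χ : V 2 L →ₗ[L] L, χ ≠ 0 → ∃ w, χ w = 1 := by
    intro χ hχ
    obtain ⟨x, hx⟩ : ∃ x, χ x ≠ 0 := by
      by_contra hcon
      push Not at hcon
      exact hχ (LinearMap.ext hcon)
    exact ⟨(χ x)⁻¹ • x, by rw [map_smul, smul_eq_mul, inv_mul_cancel₀ hx]⟩
  obtain ⟨w₀, hw₀⟩ := hex φ₀ hφ₀
  obtain ⟨w, hw⟩ := hex φ hφ
  -- the maps `x ↦ μ • (x + ((d - 1) * φ₀ x) • w₀)`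
  have hstep : ∀ μ d : L, μ ≠ 0 → d ≠ 0 → ∃ h : V 2 L ≃ₗ[L] V 2 L,
      LinearMap.det (h : V 2 L →ₗ[L] V 2 L) = μ ^ 2 * d ∧ h z₀ = μ • z₀ ∧
      ∀ x, φ₀ (h x) = μ * d * φ₀ x := by
    intro μ d hμ hd
    have hu : IsUnit (1 + ((d - 1) • φ₀) w₀) := by
      rw [LinearMap.smul_apply, hw₀, smul_eq_mul, mul_one, add_sub_cancel]
      exact isUnit_iff_ne_zero.mpr hd
    refine ⟨(LinearEquiv.dilatransvection hu).trans (LinearEquiv.smulOfNeZero L (V 2 L) μ hμ),
      ?_, ?_, ?_⟩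
    · have h1 : (((LinearEquiv.dilatransvection hu).trans
          (LinearEquiv.smulOfNeZero L (V 2 L) μ hμ) : V 2 L ≃ₗ[L] V 2 L) : V 2 L →ₗ[L] V 2 L)
          = μ • (LinearMap.transvection ((d - 1) • φ₀) w₀) := by
        apply LinearMap.ext
        intro x
        rfl
      rw [h1, LinearMap.det_smul, LinearMap.transvection.det, Module.finrank_fin_fun,
        LinearMap.smul_apply, hw₀, smul_eq_mul, mul_one, add_sub_cancel]
    · show μ • (LinearEquiv.dilatransvection hu z₀) = μ • z₀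
      rw [LinearEquiv.dilatransvection.apply, LinearMap.smul_apply, hφ₀z₀, smul_zero, zero_smul,
        add_zero]
    · intro x
      show φ₀ (μ • (LinearEquiv.dilatransvection hu x)) = _
      rw [LinearEquiv.dilatransvection.apply, map_smul, map_add, map_smul, hw₀,
        LinearMap.smul_apply, smul_eq_mul, smul_eq_mul, smul_eq_mul]
      ring
  have hA1 : ∃ e ∈ c.M, IsFtv τ e z₀ ((1 : L) • φ₀) := ⟨e₀, he₀, by rwa [one_smul]⟩
  have hA0 : ∃ e ∈ c.M, IsFtv τ e z₀ ((0 : L) • φ₀) := ⟨1, c.M.one_mem, fun x => by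
    rw [zero_smul, LinearMap.zero_apply, map_zero, zero_smul, add_zero]
    rfl⟩
  have hAadd : ∀ a a' : L, (∃ e ∈ c.M, IsFtv τ e z₀ (a • φ₀)) →
      (∃ e ∈ c.M, IsFtv τ e z₀ (a' • φ₀)) → ∃ e ∈ c.M, IsFtv τ e z₀ ((a + a') • φ₀) := by
    rintro a a' ⟨e, he, hx⟩ ⟨e', he', hx'⟩
    refine ⟨e * e', c.M.mul_mem he he', fun x => ?_⟩
    rw [LinearEquiv.mul_apply, hx', hx]
    have h00 : (a • φ₀) z₀ = 0 := by
      rw [LinearMap.smul_apply, hφ₀z₀, smul_zero]
    have h0 : (a • φ₀) (τ ((a' • φ₀) x) • z₀) = 0 := by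
      rw [smulF, map_smul, h00, smul_zero]
    have h1 : (a • φ₀) (x + τ ((a' • φ₀) x) • z₀) = (a • φ₀) x := by
      rw [map_add, h0, add_zero]
    rw [h1, add_smul, LinearMap.add_apply, map_add, add_smul]
    abel
  have hAnorm : ∀ a d : L, Algebra.norm F d = 1 → (∃ e ∈ c.M, IsFtv τ e z₀ (a • φ₀)) →
      ∃ e ∈ c.M, IsFtv τ e z₀ ((d * a) • φ₀) := by
    rintro a d hd ⟨e, he, hx⟩
    have hd0 : d ≠ 0 := by
      rintro rfl
      rw [Algebra.norm_zero] at hd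
      exact zero_ne_one hd
    obtain ⟨h, hdet, hhz, hhφ⟩ := hstep 1 d⁻¹ one_ne_zero (inv_ne_zero hd0)
    have hN : Algebra.norm F (LinearMap.det (h : V 2 L →ₗ[L] V 2 L)) = 1 := by
      have h5 := map_mul (Algebra.norm F) d d⁻¹
      rw [mul_inv_cancel₀ hd0, map_one, hd, one_mul] at h5
      rw [hdet, one_pow, one_mul, ← h5]
    obtain ⟨e', he', hx'⟩ := conj_ftv c τ e he z₀ (a • φ₀) hx h hN
    refine ⟨e', he', fun x => ?_⟩
    rw [hx' x, hhz, one_smul]
    have h2 : φ₀ (h.symm x) = d * φ₀ x := by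
      have h3 := hhφ (h.symm x)
      rw [LinearEquiv.apply_symm_apply, one_mul] at h3
      rw [h3, ← mul_assoc, mul_inv_cancel₀ hd0, one_mul]
    rw [LinearMap.smul_apply, LinearMap.smul_apply, h2, smul_eq_mul, smul_eq_mul]
    congr 3
    ring
  have hAsq : ∀ (a : L) (s : F), s ≠ 0 → (∃ e ∈ c.M, IsFtv τ e z₀ (a • φ₀)) →
      ∃ e ∈ c.M, IsFtv τ e z₀ ((algebraMap F L s ^ 2 * a) • φ₀) := by
    rintro a s hs ⟨e, he, hx⟩
    obtain ⟨S, hS⟩ : ∃ S : L, S = algebraMap F L s := ⟨_, rfl⟩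
    rw [← hS]
    have hS0 : S ≠ 0 := by
      rw [hS]
      exact (map_ne_zero (algebraMap F L)).mpr hs
    have hx1 : IsFtv τ e (s⁻¹ • z₀) ((S * a) • φ₀) := by
      intro x
      rw [hx x, smul_smul, LinearMap.smul_apply, LinearMap.smul_apply, smul_eq_mul, smul_eq_mul]
      have h4 : τ (S * a * φ₀ x) = s * τ (a * φ₀ x) := by
        rw [mul_assoc, hS, ← Algebra.smul_def, map_smul, smul_eq_mul]
      rw [h4, mul_right_comm, mul_inv_cancel₀ hs, one_mul]
    obtain ⟨h, hdet, hhz, hhφ⟩ := hstep S (S⁻¹ ^ 2) hS0 (pow_ne_zero 2 (inv_ne_zero hS0))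
    have hN : Algebra.norm F (LinearMap.det (h : V 2 L →ₗ[L] V 2 L)) = 1 := by
      rw [hdet, ← mul_pow, mul_inv_cancel₀ hS0, one_pow, map_one]
    obtain ⟨e', he', hx'⟩ := conj_ftv c τ e he (s⁻¹ • z₀) ((S * a) • φ₀) hx1 h hN
    refine ⟨e', he', fun x => ?_⟩
    rw [hx' x]
    have h1 : h (s⁻¹ • z₀) = z₀ := by
      rw [smulF, map_smul, hhz, smul_smul, map_inv₀, ← hS, inv_mul_cancel₀ hS0, one_smul]
    have h2 : φ₀ (h.symm x) = S * φ₀ x := by
      have h3 := hhφ (h.symm x)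
      rw [LinearEquiv.apply_symm_apply] at h3
      rw [h3]
      field_simp
    rw [h1, LinearMap.smul_apply, LinearMap.smul_apply, h2, smul_eq_mul, smul_eq_mul]
    congr 3
    ring
  have hF : Finite F := Finite.of_injective (algebraMap F L) (algebraMap F L).injective
  have hAF : ∀ (a : L) (f : F), (∃ e ∈ c.M, IsFtv τ e z₀ (a • φ₀)) →
      ∃ e ∈ c.M, IsFtv τ e z₀ ((f • a) • φ₀) := by
    intro a f ha
    have := Fintype.ofFinite F
    obtain ⟨s, t, hst⟩ := Cfsg.Agent.Lib.Helper44.FinSq.exists_sq_add_sq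
      (one_ne_zero (α := F)) (one_ne_zero (α := F)) f
    have hsq' : ∀ s : F, ∃ e ∈ c.M, IsFtv τ e z₀ ((algebraMap F L s ^ 2 * a) • φ₀) := by
      intro s
      by_cases hs : s = 0
      · rw [hs, map_zero, zero_pow two_ne_zero, zero_mul]
        exact hA0
      · exact hAsq a s hs ha
    have h1 := hAadd _ _ (hsq' s) (hsq' t)
    have h2 : algebraMap F L s ^ 2 * a + algebraMap F L t ^ 2 * a = f • a := by
      rw [← hst, Algebra.smul_def, map_add, map_mul, map_mul, map_one, map_pow, map_pow]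
      ring
    rwa [h2] at h1
  have hall : ∀ d : L, ∀ a : L, (∃ e ∈ c.M, IsFtv τ e z₀ (a • φ₀)) →
      ∃ e ∈ c.M, IsFtv τ e z₀ ((d * a) • φ₀) := by
    intro d
    have hd : d ∈ Submodule.span F {d : L | Algebra.norm F d = 1} := by
      rw [hSpan F L hr]
      exact Submodule.mem_top
    induction hd using Submodule.span_induction with
    | mem d hd => exact fun a ha => hAnorm a d hd ha
    | zero =>
      intro a _
      rw [zero_mul]
      exact hA0
    | add d d' _ _ ih ih' =>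
      intro a ha
      rw [add_mul]
      exact hAadd _ _ (ih a ha) (ih' a ha)
    | smul f d _ ih =>
      intro a ha
      rw [smul_mul_assoc]
      exact hAF _ f (ih a ha)
  have hAall : ∀ a : L, ∃ e ∈ c.M, IsFtv τ e z₀ (a • φ₀) := by
    intro a
    have h := hall a 1 hA1
    rwa [mul_one] at h
  -- transfer to `(z, φ)`
  have hli₀ : LinearIndependent L ![z₀, w₀] := by
    rw [LinearIndependent.pair_iff' hz₀]
    intro a ha
    have h1 := congrArg φ₀ ha
    rw [map_smul, hφ₀z₀, smul_zero, hw₀] at h1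
    exact zero_ne_one h1
  have hli : LinearIndependent L ![z, w] := by
    rw [LinearIndependent.pair_iff' hz]
    intro a ha
    have h1 := congrArg φ ha
    rw [map_smul, hφz, smul_zero, hw] at h1
    exact zero_ne_one h1
  have hcard : Fintype.card (Fin 2) = Module.finrank L (V 2 L) := by
    rw [Module.finrank_fin_fun, Fintype.card_fin]
  obtain ⟨b₀, hb₀⟩ : ∃ b₀ : Module.Basis (Fin 2) L (V 2 L), ⇑b₀ = ![z₀, w₀] :=
    ⟨basisOfLinearIndependentOfCardEqFinrank hli₀ hcard,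
      coe_basisOfLinearIndependentOfCardEqFinrank hli₀ hcard⟩
  obtain ⟨b, hb⟩ : ∃ b : Module.Basis (Fin 2) L (V 2 L), ⇑b = ![z, w] :=
    ⟨basisOfLinearIndependentOfCardEqFinrank hli hcard,
      coe_basisOfLinearIndependentOfCardEqFinrank hli hcard⟩
  obtain ⟨h', hh'z, hh'w⟩ : ∃ h' : V 2 L ≃ₗ[L] V 2 L, h' z₀ = z ∧ h' w₀ = w := by
    refine ⟨b₀.equiv b (Equiv.refl _), ?_, ?_⟩
    · have h1 := Module.Basis.equiv_apply b₀ 0 b (Equiv.refl _)
      rw [hb₀, hb] at h1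
      exact h1
    · have h1 := Module.Basis.equiv_apply b₀ 1 b (Equiv.refl _)
      rw [hb₀, hb] at h1
      exact h1
  have hφh' : ∀ x, φ (h' x) = φ₀ x := by
    have h1 : φ ∘ₗ (h' : V 2 L →ₗ[L] V 2 L) = φ₀ := by
      apply b₀.ext
      intro i
      rw [hb₀]
      fin_cases i
      · show φ (h' z₀) = φ₀ z₀
        rw [hh'z, hφz, hφ₀z₀]
      · show φ (h' w₀) = φ₀ w₀
        rw [hh'w, hw, hw₀]
    intro x
    rw [← h1]
    rfl
  obtain ⟨D, hD⟩ : ∃ D : L, D = LinearMap.det (h' : V 2 L →ₗ[L] V 2 L) := ⟨_, rfl⟩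
  have hD0 : D ≠ 0 := by
    rw [hD]
    exact (LinearEquiv.isUnit_det' h').ne_zero
  obtain ⟨δ, hδdet, hδz, hδφ⟩ := hstep 1 D⁻¹ one_ne_zero (inv_ne_zero hD0)
  have hN : Algebra.norm F
      (LinearMap.det ((δ.trans h' : V 2 L ≃ₗ[L] V 2 L) : V 2 L →ₗ[L] V 2 L)) = 1 := by
    have h1 : ((δ.trans h' : V 2 L ≃ₗ[L] V 2 L) : V 2 L →ₗ[L] V 2 L)
        = (h' : V 2 L →ₗ[L] V 2 L) ∘ₗ (δ : V 2 L →ₗ[L] V 2 L) := rfl
    rw [h1, LinearMap.det_comp, hδdet, ← hD, one_pow, one_mul, mul_inv_cancel₀ hD0, map_one]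
  obtain ⟨e₁, he₁, hx₁⟩ := hAall D⁻¹
  obtain ⟨e', he', hx'⟩ := conj_ftv c τ e₁ he₁ z₀ (D⁻¹ • φ₀) hx₁ (δ.trans h') hN
  refine ⟨e', he', fun x => ?_⟩
  rw [hx' x]
  have h1 : (δ.trans h') z₀ = z := by
    show h' (δ z₀) = z
    rw [hδz, one_smul, hh'z]
  have h2 : (D⁻¹ • φ₀) ((δ.trans h').symm x) = φ x := by
    obtain ⟨y, hy⟩ : ∃ y, y = (δ.trans h').symm x := ⟨_, rfl⟩
    rw [← hy]
    have hxy : x = h' (δ y) := by
      rw [hy]
      exact ((δ.trans h').apply_symm_apply x).symm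
    rw [hxy, hφh', hδφ, LinearMap.smul_apply, smul_eq_mul, one_mul]
  rw [h1, h2]

end Cfsg.Agent.Lib.Helper7.GFALL1B
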