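import Cfsg.Agent.Lib.Helper8.Rank3Aut

/-!
# Outer automorphism group of order two for a permutation group acting on a class of involutions

Abstract part of the computation of `Out(J2)` (helper7).  `P` is a permutation group on `Ω`
generated by permutations `d (p t)`, where `d : Ω → Perm Ω` is equivariant (`g d_i g⁻¹ = d_{g i}`),
injective, and the set of all `d i` is the set of squares of the elements of order four.  Then
every automorphism of `P` is induced by a permutation normalising `P`; the normaliser is bounded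
by a fingerprint set, and an explicit normalising permutation outside `P` gives `|Out P| = 2`.
-/

set_option autoImplicit false

namespace Cfsg.Agent.Lib.Helper7.J2OutAbs

open Cfsg.Agent.Lib.Helper8.Rank3Aut Cfsg.Agent.Lib.Helper35.PermAut

variable {Ω : Type*} [Fintype Ω] [DecidableEq Ω]

/-- Equivariance on the generators gives equivariance on the generated group. -/
theorem equivariant {ι : Type*} (d : Ω → Equiv.Perm Ω) (p : ι → Ω)
    (hdeq : ∀ t i, d (p t) * d i * (d (p t))⁻¹ = d (d (p t) i)) :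
    ∀ g ∈ Subgroup.closure (Set.range fun t => d (p t)), ∀ i, g * d i * g⁻¹ = d (g i) := by
  intro g hg
  induction hg using Subgroup.closure_induction with
  | mem x hx =>
    obtain ⟨t, rfl⟩ := hx
    exact hdeq t
  | one => intro i; simp
  | mul x y _ _ hx hy =>
    intro i
    have e : x * y * d i * (x * y)⁻¹ = x * (y * d i * y⁻¹) * x⁻¹ := by group
    rw [e, hy i, hx (y i)]
    rfl
  | inv x _ hx =>
    intro i
    have h := hx (x⁻¹ i)
    rw [show x (x⁻¹ i) = i from by simp] at h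
    rw [← h]
    group

/-- A permutation conjugating a finite group into itself normalises it. -/
theorem conj_back (P : Subgroup (Equiv.Perm Ω)) (π : Equiv.Perm Ω)
    (h : ∀ g ∈ P, π * g * π⁻¹ ∈ P) : ∀ g ∈ P, π⁻¹ * g * π ∈ P := by
  intro g hg
  let f : P → P := fun x => ⟨π * x * π⁻¹, h x x.2⟩
  have hf : Function.Injective f := by
    intro x y hxy
    have e : π * (x : Equiv.Perm Ω) * π⁻¹ = π * y * π⁻¹ := congrArg Subtype.val hxy
    apply Subtype.ext
    calc (x : Equiv.Perm Ω) = π⁻¹ * (π * x * π⁻¹) * π := by group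
      _ = π⁻¹ * (π * y * π⁻¹) * π := by rw [e]
      _ = y := by group
  obtain ⟨x, hx⟩ := (Finite.injective_iff_surjective.mp hf) ⟨g, hg⟩
  have e : π * (x : Equiv.Perm Ω) * π⁻¹ = g := congrArg Subtype.val hx
  have e2 : π⁻¹ * g * π = x := by rw [← e]; group
  rw [e2]
  exact x.2

theorem mem_normalizer_of_conj (P : Subgroup (Equiv.Perm Ω)) (π : Equiv.Perm Ω)
    (h : ∀ g ∈ P, π * g * π⁻¹ ∈ P) : π ∈ Subgroup.normalizer (P : Set (Equiv.Perm Ω)) := by
  rw [Subgroup.mem_normalizer_iff]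
  intro g
  refine ⟨h g, fun hg => ?_⟩
  have := conj_back P π h _ hg
  have e : π⁻¹ * (π * g * π⁻¹) * π = g := by group
  rwa [e] at this

/-- The outer automorphism group has order two. -/
theorem out_two_of_class {ι X : Type*} (o : Ω) (d : Ω → Equiv.Perm Ω) (p : ι → Ω)
    (P : Subgroup (Equiv.Perm Ω)) (hP : P = Subgroup.closure (Set.range fun t => d (p t)))
    (hdeq : ∀ t i, d (p t) * d i * (d (p t))⁻¹ = d (d (p t) i))
    (hinj0 : ∀ k, d k = d o → k = o)
    (htr : ∀ i, ∃ g ∈ P, g o = i)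
    (hfix : ∀ j, j ≠ o → ∃ h ∈ P, h o = o ∧ h j ≠ j)
    (hdo : d o ∈ P) (hdo1 : d o ≠ 1) (hdo2 : d o * d o = 1)
    (y0 : Equiv.Perm Ω) (hy0 : y0 ∈ P) (hy0sq : y0 * y0 = d o)
    (hsq : ∀ h ∈ P, h o = o → h * h * (h * h) = 1 → h * h ≠ 1 → ∃ j, h * h = d j)
    (hodd : Odd (Fintype.card Ω))
    (m : ℕ) (hcard : Nat.card P = m)
    (fp : Equiv.Perm Ω → X) (Cset : Finset X)
    (hfp_mem : ∀ π : Equiv.Perm Ω, (∀ i j, π (d i j) = d (π i) (π j)) → π o = o → fp π ∈ Cset)
    (hfp_inj : ∀ π π' : Equiv.Perm Ω, fp π = fp π' → ∀ t, π (p t) = π' (p t))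
    (hC : Fintype.card Ω * Cset.card ≤ 2 * m)
    (π0 : Equiv.Perm Ω) (hπ0 : ∀ t, π0 * d (p t) * π0⁻¹ ∈ P) (hπ0n : π0 ∉ P) :
    Nat.card (Cfsg.Out P) = 2 := by
  classical
  have heq : ∀ g ∈ P, ∀ i, g * d i * g⁻¹ = d (g i) := by
    subst hP
    exact equivariant d p hdeq
  have hdmem : ∀ i, d i ∈ P := by
    intro i
    obtain ⟨g, hg, rfl⟩ := htr i
    rw [← heq g hg o]
    exact P.mul_mem (P.mul_mem hg hdo) (P.inv_mem hg)
  have hdinj : Function.Injective d := by
    intro i j hij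
    obtain ⟨g, hg, rfl⟩ := htr i
    have h1 := heq g⁻¹ (P.inv_mem hg) j
    have h2 := heq g⁻¹ (P.inv_mem hg) (g o)
    rw [hij] at h2
    have h3 : d (g⁻¹ j) = d o := by
      rw [← h1, h2]
      simp
    have h4 := hinj0 _ h3
    rw [← h4]
    simp
  have hd1 : ∀ i, d i ≠ 1 := by
    intro i hi
    obtain ⟨g, hg, rfl⟩ := htr i
    rw [← heq g hg o] at hi
    apply hdo1
    calc d o = g⁻¹ * (g * d o * g⁻¹) * g := by group
      _ = 1 := by rw [hi]; group
  have hd2 : ∀ i, d i * d i = 1 := by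
    intro i
    obtain ⟨g, hg, rfl⟩ := htr i
    rw [← heq g hg o]
    calc g * d o * g⁻¹ * (g * d o * g⁻¹) = g * (d o * d o) * g⁻¹ := by group
      _ = 1 := by rw [hdo2]; group
  -- the class of the `d i` is invariant under automorphisms
  have hD : ∀ (φ : MulAut P) (i : Ω), ∃ j, ((φ ⟨d i, hdmem i⟩ : P) : Equiv.Perm Ω) = d j := by
    intro φ i
    obtain ⟨g, hg, rfl⟩ := htr i
    let z : P := ⟨g * y0 * g⁻¹, P.mul_mem (P.mul_mem hg hy0) (P.inv_mem hg)⟩
    have hz : z * z = ⟨d (g o), hdmem _⟩ := by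
      apply Subtype.ext
      show g * y0 * g⁻¹ * (g * y0 * g⁻¹) = d (g o)
      rw [← heq g hg o, ← hy0sq]
      group
    obtain ⟨w, hw⟩ : ∃ w : Equiv.Perm Ω, w = ((φ z : P) : Equiv.Perm Ω) := ⟨_, rfl⟩
    have hww : w * w = ((φ ⟨d (g o), hdmem _⟩ : P) : Equiv.Perm Ω) := by
      rw [← hz, map_mul, hw]
      rfl
    have hsq1 : (⟨d (g o), hdmem _⟩ : P) * ⟨d (g o), hdmem _⟩ = 1 := Subtype.ext (hd2 _)
    have hw4 : w * w * (w * w) = 1 := by
      rw [hww]
      have h : φ ⟨d (g o), hdmem _⟩ * φ ⟨d (g o), hdmem _⟩ = 1 := by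
        rw [← map_mul, hsq1, map_one]
      exact congrArg Subtype.val h
    have hw2 : w * w ≠ 1 := by
      rw [hww]
      intro h
      have h' : φ ⟨d (g o), hdmem _⟩ = 1 := Subtype.ext h
      have h'' := (MulEquiv.map_eq_one_iff φ).mp h'
      exact hd1 _ (congrArg Subtype.val h'')
    have hfixpt : ∃ x, w x = x := by
      have hpow : w ^ 2 ^ 2 = 1 := by
        have e : w ^ 2 ^ 2 = w * w * (w * w) := by
          show w ^ 4 = w * w * (w * w)
          simp [pow_succ, mul_assoc]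
        rw [e, hw4]
      haveI : Fact (Nat.Prime 2) := ⟨Nat.prime_two⟩
      have h := card_fixed_modEq_univ w hpow
      by_contra hne
      simp only [not_exists] at hne
      have h0 : (Finset.univ.filter (fun y => w y = y)).card = 0 := by
        rw [Finset.card_eq_zero, Finset.filter_eq_empty_iff]
        intro y _
        exact hne y
      rw [h0] at h
      have h1 := Nat.odd_iff.mp hodd
      have h2 : Fintype.card Ω % 2 = 0 % 2 := h
      omega
    obtain ⟨x, hx⟩ := hfixpt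
    obtain ⟨g', hg', rfl⟩ := htr x
    have hwP : w ∈ P := by rw [hw]; exact (φ z).2
    have hw'P : g'⁻¹ * w * g' ∈ P := P.mul_mem (P.mul_mem (P.inv_mem hg') hwP) hg'
    have hw'o : (g'⁻¹ * w * g') o = o := by
      show g'⁻¹ (w (g' o)) = o
      rw [hx]
      simp
    have hw'4 : g'⁻¹ * w * g' * (g'⁻¹ * w * g') * (g'⁻¹ * w * g' * (g'⁻¹ * w * g')) = 1 := by
      have e : g'⁻¹ * w * g' * (g'⁻¹ * w * g') * (g'⁻¹ * w * g' * (g'⁻¹ * w * g'))
          = g'⁻¹ * (w * w * (w * w)) * g' := by group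
      rw [e, hw4]
      group
    have hw'2 : g'⁻¹ * w * g' * (g'⁻¹ * w * g') ≠ 1 := by
      intro h
      apply hw2
      have e : w * w = g' * (g'⁻¹ * w * g' * (g'⁻¹ * w * g')) * g'⁻¹ := by group
      rw [e, h]
      group
    obtain ⟨j, hj⟩ := hsq _ hw'P hw'o hw'4 hw'2
    refine ⟨g' j, ?_⟩
    rw [← hww, ← heq g' hg' j, ← hj]
    group
  -- automorphisms are induced by permutations
  have haut' : ∀ φ : MulAut P, ∃ σ : Equiv.Perm Ω,
      (∀ g : P, ((φ g : P) : Equiv.Perm Ω) = σ * g * σ⁻¹) ∧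
      ∀ i, ((φ ⟨d i, hdmem i⟩ : P) : Equiv.Perm Ω) = d (σ i) := by
    intro φ
    choose σ0 hσ0 using hD φ
    have hσinj : Function.Injective σ0 := by
      intro i i' h
      have h1 := hσ0 i
      have h2 := hσ0 i'
      rw [h] at h1
      have h3 : φ ⟨d i, hdmem i⟩ = φ ⟨d i', hdmem i'⟩ := Subtype.ext (h1.trans h2.symm)
      have h4 := φ.injective h3
      exact hdinj (congrArg Subtype.val h4)
    let σ : Equiv.Perm Ω := Equiv.ofBijective σ0 (Finite.injective_iff_bijective.mp hσinj)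
    have hσ : ∀ i, σ i = σ0 i := fun i => rfl
    have key : ∀ (g : P) (i : Ω),
        ((φ g : P) : Equiv.Perm Ω) (σ i) = σ ((g : Equiv.Perm Ω) i) := by
      intro g i
      apply hdinj
      rw [← heq _ (φ g).2 (σ i), hσ, ← hσ0 i, hσ, ← hσ0 ((g : Equiv.Perm Ω) i)]
      have e : (⟨d ((g : Equiv.Perm Ω) i), hdmem _⟩ : P) = g * ⟨d i, hdmem i⟩ * g⁻¹ :=
        Subtype.ext (heq g g.2 i).symm
      rw [e, map_mul, map_mul, map_inv]
      rfl
    refine ⟨σ, fun g => ?_, fun i => hσ0 i⟩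
    ext x
    have h := key g (σ⁻¹ x)
    rw [show σ (σ⁻¹ x) = x from by simp] at h
    rw [h]
    rfl
  -- trivial centraliser
  have hcent : ∀ c : Equiv.Perm Ω, (∀ g ∈ P, c * g = g * c) → c = 1 := by
    intro c hc
    have hco : c o = o := by
      by_contra hne
      obtain ⟨h, hh, hho, hhj⟩ := hfix (c o) hne
      apply hhj
      have e := congrArg (fun f : Equiv.Perm Ω => f o) (hc h hh)
      simp only [Equiv.Perm.coe_mul, Function.comp_apply] at e
      rw [hho] at e
      exact e.symm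
    ext x
    obtain ⟨g, hg, rfl⟩ := htr x
    have e := congrArg (fun f : Equiv.Perm Ω => f o) (hc g hg)
    simp only [Equiv.Perm.coe_mul, Function.comp_apply] at e
    rw [hco] at e
    simpa using e
  -- normalising permutations respect `d`
  have hN : ∀ π : Equiv.Perm Ω, (∀ g ∈ P, π * g * π⁻¹ ∈ P) → ∀ i, π * d i * π⁻¹ = d (π i) := by
    intro π h1 i
    have h2 := conj_back P π h1
    obtain ⟨σ, hσ1, hσ2⟩ := haut' (nconj P π h1 h2)
    have hσπ : σ = π := by
      have hc : π⁻¹ * σ = 1 := by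
        apply hcent
        intro g hg
        have e : π * g * π⁻¹ = σ * g * σ⁻¹ := hσ1 ⟨g, hg⟩
        calc π⁻¹ * σ * g = π⁻¹ * (σ * g * σ⁻¹) * σ := by group
          _ = π⁻¹ * (π * g * π⁻¹) * σ := by rw [← e]
          _ = g * (π⁻¹ * σ) := by group
      calc σ = π * (π⁻¹ * σ) := by group
        _ = π := by rw [hc, mul_one]
    have h := hσ2 i
    rw [hσπ] at h
    exact h
  have hNop : ∀ π : Equiv.Perm Ω, (∀ g ∈ P, π * g * π⁻¹ ∈ P) →
      ∀ i j, π (d i j) = d (π i) (π j) := by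
    intro π h1 i j
    rw [← hN π h1 i]
    show π (d i j) = π (d i (π⁻¹ (π j)))
    simp
  -- the normaliser
  obtain ⟨N, hNdef⟩ : ∃ N : Subgroup (Equiv.Perm Ω),
      N = Subgroup.normalizer (P : Set (Equiv.Perm Ω)) := ⟨_, rfl⟩
  have hNconj : ∀ π ∈ N, ∀ g ∈ P, π * g * π⁻¹ ∈ P := by
    intro π hπ g hg
    rw [hNdef] at hπ
    exact (Subgroup.mem_normalizer_iff.mp hπ g).mp hg
  have hPN : P ≤ N := by rw [hNdef]; exact Subgroup.le_normalizer
  have hnorm : ∀ π : Equiv.Perm Ω, (∀ g ∈ P, π * g * π⁻¹ ∈ P) → π ∈ N := by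
    intro π h
    rw [hNdef]
    exact mem_normalizer_of_conj P π h
  -- upper bound
  have hstab : Nat.card ↥(N ⊓ MulAction.stabilizer (Equiv.Perm Ω) o) ≤ Cset.card := by
    have hmem : ∀ x : ↥(N ⊓ MulAction.stabilizer (Equiv.Perm Ω) o),
        fp (x : Equiv.Perm Ω) ∈ Cset := by
      intro x
      have hx := x.2
      rw [Subgroup.mem_inf, MulAction.mem_stabilizer_iff] at hx
      exact hfp_mem _ (hNop _ (hNconj _ hx.1)) hx.2
    let f : ↥(N ⊓ MulAction.stabilizer (Equiv.Perm Ω) o) → ↥Cset := fun x => ⟨fp x, hmem x⟩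
    have hf : Function.Injective f := by
      intro x y hxy
      have e : fp (x : Equiv.Perm Ω) = fp (y : Equiv.Perm Ω) := congrArg Subtype.val hxy
      have hpt := hfp_inj _ _ e
      have hx := x.2
      have hy := y.2
      rw [Subgroup.mem_inf] at hx hy
      have hρN : (y : Equiv.Perm Ω)⁻¹ * x ∈ N := N.mul_mem (N.inv_mem hy.1) hx.1
      have hρ : (y : Equiv.Perm Ω)⁻¹ * x = 1 := by
        apply hcent
        have hcl : P ≤ Subgroup.centralizer ({(y : Equiv.Perm Ω)⁻¹ * x} : Set (Equiv.Perm Ω)) := by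
          rw [hP, Subgroup.closure_le]
          rintro _ ⟨t, rfl⟩
          rw [SetLike.mem_coe, Subgroup.mem_centralizer_iff]
          intro h hh
          rw [Set.mem_singleton_iff] at hh
          subst hh
          have e1 := hN _ (hNconj _ hρN) (p t)
          have e2 : ((y : Equiv.Perm Ω)⁻¹ * x) (p t) = p t := by
            show (y : Equiv.Perm Ω)⁻¹ ((x : Equiv.Perm Ω) (p t)) = p t
            rw [hpt t]
            simp
          rw [e2] at e1
          calc (y : Equiv.Perm Ω)⁻¹ * x * d (p t)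
              = ((y : Equiv.Perm Ω)⁻¹ * x * d (p t) * ((y : Equiv.Perm Ω)⁻¹ * x)⁻¹) *
                ((y : Equiv.Perm Ω)⁻¹ * x) := by group
            _ = d (p t) * ((y : Equiv.Perm Ω)⁻¹ * x) := by rw [e1]
        intro g hg
        have := hcl hg
        rw [Subgroup.mem_centralizer_iff] at this
        exact this _ rfl
      apply Subtype.ext
      calc (x : Equiv.Perm Ω) = y * ((y : Equiv.Perm Ω)⁻¹ * x) := by group
        _ = y := by rw [hρ, mul_one]
    have h1 := Nat.card_le_card_of_injective f hf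
    rwa [Nat.card_eq_fintype_card (α := ↥Cset), Fintype.card_coe] at h1
  have hNle : Nat.card N ≤ 2 * m := by
    rw [card_eq_mul_orb N o]
    calc Nat.card ↥(N ⊓ MulAction.stabilizer (Equiv.Perm Ω) o) * (orb N o).card
        ≤ Cset.card * Fintype.card Ω := Nat.mul_le_mul hstab (Finset.card_le_univ _)
      _ = Fintype.card Ω * Cset.card := Nat.mul_comm _ _
      _ ≤ 2 * m := hC
  -- the outer permutation
  have hπ0P : ∀ g ∈ P, π0 * g * π0⁻¹ ∈ P := by
    intro g hg
    rw [hP] at hg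
    induction hg using Subgroup.closure_induction with
    | mem x hx =>
      obtain ⟨t, rfl⟩ := hx
      exact hπ0 t
    | one => simp [P.one_mem]
    | mul x y _ _ hx hy =>
      have e : π0 * (x * y) * π0⁻¹ = (π0 * x * π0⁻¹) * (π0 * y * π0⁻¹) := by group
      rw [e]
      exact P.mul_mem hx hy
    | inv x _ hx =>
      have e : π0 * x⁻¹ * π0⁻¹ = (π0 * x * π0⁻¹)⁻¹ := by group
      rw [e]
      exact P.inv_mem hx
  have hπ0N : π0 ∈ N := hnorm π0 hπ0P
  have hcardN : Nat.card N = 2 * Nat.card P := by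
    obtain ⟨k, hk⟩ := Subgroup.card_dvd_of_le hPN
    have hPpos : 0 < Nat.card P := Nat.card_pos
    have hk1 : k ≠ 1 := by
      intro h1
      rw [h1, mul_one] at hk
      have := Subgroup.eq_of_le_of_card_ge hPN (le_of_eq hk)
      exact hπ0n (this ▸ hπ0N)
    have hk0 : k ≠ 0 := by
      intro h0
      rw [h0, mul_zero] at hk
      have : 0 < Nat.card N := Nat.card_pos
      omega
    have hk2 : k ≤ 2 := by
      rw [hk, hcard] at hNle
      rw [hcard] at hPpos
      by_contra hgt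
      have hgt' : 3 ≤ k := by omega
      have : m * 3 ≤ m * k := Nat.mul_le_mul_left m hgt'
      omega
    have : k = 2 := by omega
    rw [hk, this, mul_comm]
  exact out_two P N hPN hcardN hnorm hcent (fun α => (haut' α).imp fun σ h => h.1)

end Cfsg.Agent.Lib.Helper7.J2OutAbs
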