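import Cfsg.Agent.Lib.Helper7.J2OutFn

/-!
# Kernel checks for the outer automorphism group of the Hall–Janko group, part 1 (helper7)
-/

set_option autoImplicit false
set_option maxRecDepth 100000

namespace Cfsg.Agent.Lib.Helper7.J2OutChk1

open Cfsg.Agent.Lib.Helper7.J2OutData Cfsg.Agent.Lib.Helper7.J2OutFn

theorem chk1_ok : rng 0 315 chk1 = true := by decide +kernel

theorem chk2_0a : rng 0 105 (chk2 0) = true := by decide +kernel

theorem chk2_0b : rng 105 105 (chk2 0) = true := by decide +kernel

theorem chk2_0c : rng 210 105 (chk2 0) = true := by decide +kernel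

theorem chk2_1a : rng 0 105 (chk2 131) = true := by decide +kernel

theorem chk2_1b : rng 105 105 (chk2 131) = true := by decide +kernel

theorem chk2_1c : rng 210 105 (chk2 131) = true := by decide +kernel

theorem chk2_2a : rng 0 105 (chk2 61) = true := by decide +kernel

theorem chk2_2b : rng 105 105 (chk2 61) = true := by decide +kernel

theorem chk2_2c : rng 210 105 (chk2 61) = true := by decide +kernel

theorem chk2_3a : rng 0 105 (chk2 254) = true := by decide +kernel

theorem chk2_3b : rng 105 105 (chk2 254) = true := by decide +kernel

theorem chk2_3c : rng 210 105 (chk2 254) = true := by decide +kernel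

theorem chk2_ok {p : Nat} (hp : p = 0 ∨ p = 131 ∨ p = 61 ∨ p = 254) {i : Nat} (hi : i < 315) :
    chk2 p i = true := by
  rcases hp with rfl | rfl | rfl | rfl
  · by_cases h1 : i < 105
    · exact rng_spec chk2_0a (Nat.zero_le _) (by omega)
    by_cases h2 : i < 210
    · exact rng_spec chk2_0b (by omega) (by omega)
    · exact rng_spec chk2_0c (by omega) (by omega)
  · by_cases h1 : i < 105
    · exact rng_spec chk2_1a (Nat.zero_le _) (by omega)
    by_cases h2 : i < 210
    · exact rng_spec chk2_1b (by omega) (by omega)
    · exact rng_spec chk2_1c (by omega) (by omega)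
  · by_cases h1 : i < 105
    · exact rng_spec chk2_2a (Nat.zero_le _) (by omega)
    by_cases h2 : i < 210
    · exact rng_spec chk2_2b (by omega) (by omega)
    · exact rng_spec chk2_2c (by omega) (by omega)
  · by_cases h1 : i < 105
    · exact rng_spec chk2_3a (Nat.zero_le _) (by omega)
    by_cases h2 : i < 210
    · exact rng_spec chk2_3b (by omega) (by omega)
    · exact rng_spec chk2_3c (by omega) (by omega)

theorem chk3_ok : chk3 = true := by decide +kernel

theorem chk4_ok : chk4 = true := by decide +kernel

theorem chk5_ok : chk5 = true := by decide +kernel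

end Cfsg.Agent.Lib.Helper7.J2OutChk1
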