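import Cfsg.Agent.Lib.Helper7.J2OutFn

/-!
# Kernel checks for the outer automorphism group of the Hall–Janko group, part 2 (helper7)
-/

set_option autoImplicit false
set_option maxRecDepth 100000

namespace Cfsg.Agent.Lib.Helper7.J2OutChk2

open Cfsg.Agent.Lib.Helper7.J2OutData Cfsg.Agent.Lib.Helper7.J2OutFn

theorem chkU : chkW U Uw 0 = true := by decide +kernel

theorem chkH : chkW Hh Hw 0 = true := by decide +kernel

theorem Uw_length : Uw.length = 160 := by decide +kernel

theorem Hw_length : Hw.length = 12 := by decide +kernel

theorem chk6a_ok : chk6a = true := by decide +kernel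

theorem chk6b_ok : chk6b = true := by decide +kernel

theorem chk8a_ok : chk8a = true := by decide +kernel

theorem chk8b_ok : chk8b = true := by decide +kernel

theorem chk8c_ok : rng 0 160 chk8c = true := by decide +kernel

theorem pi_zero : dg Pi 0 = 0 := by decide +kernel

theorem op_zero_one : opN 0 1 = 8 := by decide +kernel

theorem jdx_y0 : dg Jdx (12 * 26 + 2) = 0 := by decide +kernel

end Cfsg.Agent.Lib.Helper7.J2OutChk2
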