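import Cfsg.Agent.Lib.Helper7.J2OutFn

/-!
# Kernel checks for the outer automorphism group of the Hall–Janko group, part 3 (helper7)

The squares of the 1920 elements of the stabiliser of a point.
-/

set_option autoImplicit false
set_option maxRecDepth 100000

namespace Cfsg.Agent.Lib.Helper7.J2OutChk3

open Cfsg.Agent.Lib.Helper7.J2OutData Cfsg.Agent.Lib.Helper7.J2OutFn

theorem chk7_0 : rng 0 20 chk7 = true := by decide +kernel

theorem chk7_1 : rng 20 20 chk7 = true := by decide +kernel

theorem chk7_2 : rng 40 20 chk7 = true := by decide +kernel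

theorem chk7_3 : rng 60 20 chk7 = true := by decide +kernel

theorem chk7_4 : rng 80 20 chk7 = true := by decide +kernel

theorem chk7_5 : rng 100 20 chk7 = true := by decide +kernel

theorem chk7_6 : rng 120 20 chk7 = true := by decide +kernel

theorem chk7_7 : rng 140 20 chk7 = true := by decide +kernel

theorem chk7_ok {a : Nat} (ha : a < 160) : chk7 a = true := by
  by_cases c0 : a < 20
  · exact rng_spec chk7_0 (by omega) (by omega)
  by_cases c1 : a < 40
  · exact rng_spec chk7_1 (by omega) (by omega)
  by_cases c2 : a < 60
  · exact rng_spec chk7_2 (by omega) (by omega)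
  by_cases c3 : a < 80
  · exact rng_spec chk7_3 (by omega) (by omega)
  by_cases c4 : a < 100
  · exact rng_spec chk7_4 (by omega) (by omega)
  by_cases c5 : a < 120
  · exact rng_spec chk7_5 (by omega) (by omega)
  by_cases c6 : a < 140
  · exact rng_spec chk7_6 (by omega) (by omega)
  exact rng_spec chk7_7 (by omega) (by omega)

end Cfsg.Agent.Lib.Helper7.J2OutChk3
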