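import Cfsg.Agent.Lib.Helper7.J2OutFn

/-!
# Kernel checks for the outer automorphism group of the Hall–Janko group, part 4 (helper7)

The enumeration of the candidate images of the generators.
-/

set_option autoImplicit false
set_option maxRecDepth 100000

namespace Cfsg.Agent.Lib.Helper7.J2OutChk4

open Cfsg.Agent.Lib.Helper7.J2OutData Cfsg.Agent.Lib.Helper7.J2OutFn

theorem chkC_0 : chkC 0 = true := by decide +kernel

theorem chkC_1 : chkC 10 = true := by decide +kernel

theorem chkC_2 : chkC 20 = true := by decide +kernel

theorem chkC_3 : chkC 30 = true := by decide +kernel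

theorem chkC_4 : chkC 40 = true := by decide +kernel

theorem chkC_5 : chkC 50 = true := by decide +kernel

theorem chkC_6 : chkC 60 = true := by decide +kernel

theorem chkC_7 : chkC 70 = true := by decide +kernel

theorem chk9a_ok : chk9a = true := by decide +kernel

theorem A3_length : A3.length = 160 := by decide +kernel

theorem kap01 : kap 0 131 = 3 := by decide +kernel

theorem kap02 : kap 0 61 = 4 := by decide +kernel

theorem kap03 : kap 0 254 = 3 := by decide +kernel

theorem kap12 : kap 131 61 = 3 := by decide +kernel

theorem kap13 : kap 131 254 = 5 := by decide +kernel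

theorem kap23 : kap 61 254 = 5 := by decide +kernel

theorem relR_ok : relR 131 61 254 = true := by decide +kernel

end Cfsg.Agent.Lib.Helper7.J2OutChk4
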