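import Cfsg.Agent.Lib.Helper7.J2OutFn

/-!
# Kernel checks for the outer automorphism group of the Hall–Janko group, part 5 (helper7)

The enumeration of the candidate images of the generators.
-/

set_option autoImplicit false
set_option maxRecDepth 100000

namespace Cfsg.Agent.Lib.Helper7.J2OutChk5

open Cfsg.Agent.Lib.Helper7.J2OutData Cfsg.Agent.Lib.Helper7.J2OutFn

theorem chkC_8 : chkC 80 = true := by decide +kernel

theorem chkC_9 : chkC 90 = true := by decide +kernel

theorem chkC_10 : chkC 100 = true := by decide +kernel

theorem chkC_11 : chkC 110 = true := by decide +kernel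

theorem chkC_12 : chkC 120 = true := by decide +kernel

theorem chkC_13 : chkC 130 = true := by decide +kernel

theorem chkC_14 : chkC 140 = true := by decide +kernel

theorem chkC_15 : chkC 150 = true := by decide +kernel

end Cfsg.Agent.Lib.Helper7.J2OutChk5
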