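import Mathlib
import Cfsg.Agent.Lib.Helper7.J2OutData

/-!
# Boolean checks for the outer automorphism group of the Hall–Janko group (helper7)

Definitions of the table lookups and of the Boolean certificates checked by the kernel in
`J2OutChk*`, with the lemmas turning them into statements.
-/

set_option autoImplicit false

namespace Cfsg.Agent.Lib.Helper7.J2OutFn

open Cfsg.Agent.Lib.Helper7.J2OutData

/-- An entry of a table packed nine bits per entry. -/
def dg (T k : Nat) : Nat := (T >>> (9 * k)) &&& 511

/-- Bounded universal quantifier. -/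
def allLt : Nat → (Nat → Bool) → Bool
  | 0, _ => true
  | n + 1, f => f n && allLt n f

theorem allLt_iff {n : Nat} {f : Nat → Bool} : allLt n f = true ↔ ∀ i, i < n → f i = true := by
  induction n with
  | zero => simp [allLt]
  | succ n ih =>
    rw [allLt, Bool.and_eq_true, ih]
    constructor
    · rintro ⟨h1, h2⟩ i hi
      rcases Nat.lt_succ_iff_lt_or_eq.mp hi with h | h
      · exact h2 i h
      · rw [h]; exact h1
    · intro h
      exact ⟨h n (Nat.lt_succ_self n), fun i hi => h i (Nat.lt_succ_of_lt hi)⟩

/-- Bounded existential quantifier. -/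
def anyLt : Nat → (Nat → Bool) → Bool
  | 0, _ => false
  | n + 1, f => f n || anyLt n f

theorem anyLt_iff {n : Nat} {f : Nat → Bool} : anyLt n f = true ↔ ∃ i, i < n ∧ f i = true := by
  induction n with
  | zero => simp [anyLt]
  | succ n ih =>
    rw [anyLt, Bool.or_eq_true, ih]
    constructor
    · rintro (h | ⟨i, hi, h⟩)
      · exact ⟨n, Nat.lt_succ_self n, h⟩
      · exact ⟨i, Nat.lt_succ_of_lt hi, h⟩
    · rintro ⟨i, hi, h⟩
      rcases Nat.lt_succ_iff_lt_or_eq.mp hi with h' | h'
      · exact Or.inr ⟨i, h', h⟩
      · left; rw [← h']; exact h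

/-- Evaluation of a function at a number brought to a canonical form (this makes the kernel
share the computation of the rows of the big tables). -/
def force {α : Type} (n : Nat) (f : Nat → α) : α :=
  match n with
  | 0 => f 0
  | k + 1 => f (k + 1)

theorem force_eq {α : Type} (n : Nat) (f : Nat → α) : force n f = f n := by
  cases n <;> rfl

/-- The row `i` of a table with rows of 315 entries of nine bits. -/
def rowOf (T i : Nat) : Nat := Nat.land (Nat.shiftRight T (Nat.mul 2835 i)) (2 ^ 2835 - 1)

/-- The entry `(i, j)` of a table with rows of 315 entries of nine bits. -/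
def dg2 (T i j : Nat) : Nat :=
  force i fun i' => Nat.land (Nat.shiftRight (rowOf T i') (Nat.mul 9 j)) 511

/-- A range of a bounded universal quantifier. -/
def rng (lo n : Nat) (f : Nat → Bool) : Bool := allLt n fun i => f (lo + i)

theorem rng_spec {lo n : Nat} {f : Nat → Bool} (h : rng lo n f = true) {i : Nat} (h1 : lo ≤ i)
    (h2 : i < lo + n) : f i = true := by
  have h3 := allLt_iff.mp h (i - lo) (by omega)
  rwa [show lo + (i - lo) = i by omega] at h3

/-- The operation `(i, j) ↦ d_i(j)`. -/
def opN (i j : Nat) : Nat := dg2 Q i j

/-- The four generating points. -/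
def pN (t : Nat) : Nat :=
  match t with
  | 0 => 0
  | 1 => 131
  | 2 => 61
  | _ => 254

/-- The images of the four generating points under the outer automorphism. -/
def qN (t : Nat) : Nat :=
  match t with
  | 0 => 0
  | 1 => 131
  | 2 => 34
  | _ => 299

/-- The values are in range and the rows are involutions. -/
def chk1 (i : Nat) : Bool :=
  allLt 315 fun j => Nat.blt (opN i j) 315 && Nat.beq (opN i (opN i j)) j

/-- Equivariance of the operation under the row `p`. -/
def chk2 (p i : Nat) : Bool :=
  allLt 315 fun x => Nat.beq (opN p (opN i (opN p x))) (opN (opN p i) x)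

/-- The spanning tree. -/
def chk3 : Bool :=
  allLt 315 fun i => i == 0 || (decide (dg Par i < 315) && decide (dg Dep (dg Par i) < dg Dep i)
    && opN (pN (dg Lab i)) (dg Par i) == i)

/-- The row `0` differs from all the others. -/
def chk4 : Bool :=
  allLt 315 fun k => k == 0 || anyLt 315 fun x => opN 0 x != opN k x

/-- No other point is fixed by the stabiliser of `0`. -/
def chk5 : Bool :=
  allLt 315 fun j => j == 0 || anyLt 315 fun k => opN k 0 == 0 && opN k j != j

/-- Evaluation of a word in the generators at a point. -/
def evalW (w : List Nat) (x : Nat) : Nat := w.foldr (fun t acc => opN (pN t) acc) x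

/-- The rows of the table `T` are the words `ws`. -/
def chkW (T : Nat) : List (List Nat) → Nat → Bool
  | [], _ => true
  | w :: ws, a => (allLt 315 fun x => Nat.beq (evalW w x) (dg2 T a x)) && chkW T ws (a + 1)

theorem chkW_spec (T : Nat) : ∀ (ws : List (List Nat)) (a0 : Nat), chkW T ws a0 = true →
    ∀ a, a < ws.length → ∀ x, x < 315 → evalW (ws.getD a []) x = dg2 T (a0 + a) x
  | [], _, _, a, ha, _, _ => by simp at ha
  | w :: ws, a0, h, a, ha, x, hx => by
    rw [chkW, Bool.and_eq_true] at h
    cases a with
    | zero =>
      have h1 := Nat.eq_of_beq_eq_true (allLt_iff.mp h.1 x hx)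
      simpa using h1
    | succ a =>
      have h2 := chkW_spec T ws (a0 + 1) h.2 a (by simpa using ha) x hx
      rw [List.getD_cons_succ, h2]
      congr 1
      omega

/-- Entry of the transversal. -/
def uT (a x : Nat) : Nat := dg2 U a x

/-- Entry of the table of the two-point stabiliser. -/
def hT (b x : Nat) : Nat := dg2 Hh b x

/-- The element `(a, b)` of the stabiliser of `0`. -/
def hh (a b x : Nat) : Nat := uT a (hT b x)

def chk6a : Bool := allLt 160 fun a => uT a 0 == 0 && dg Ainv (uT a 131) == a

def chk6b : Bool := allLt 12 fun b => hT b 0 == 0 && hT b 131 == 131 && dg Binv (hT b 1) == b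

/-- The square of the element `(a, b)`: trivial (`511`), not an involution (`510`), or the row
`j` of the operation. -/
def sqOK (a b j : Nat) : Bool :=
  if j == 511 then allLt 315 fun x => Nat.beq (hh a b (hh a b x)) x
  else if j == 510 then anyLt 315 fun x => hh a b (hh a b (hh a b (hh a b x))) != x
  else decide (j < 315) && allLt 315 fun x => Nat.beq (hh a b (hh a b x)) (opN j x)

def chk7 (a : Nat) : Bool := allLt 12 fun b => sqOK a b (dg Jdx (12 * a + b))

/-- The tables `Pi` and `PiInv` are mutually inverse permutations. -/
def chk8a : Bool :=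
  allLt 315 fun x => decide (dg Pi x < 315) && decide (dg PiInv x < 315) &&
    dg PiInv (dg Pi x) == x && dg Pi (dg PiInv x) == x

/-- `Pi` conjugates the generators to rows of the operation. -/
def chk8b : Bool :=
  allLt 4 fun t => allLt 315 fun x => dg Pi (opN (pN t) (dg PiInv x)) == opN (qN t) x

/-- `Pi` is not in the stabiliser of `0`. -/
def chk8c (a : Nat) : Bool :=
  allLt 12 fun b => anyLt 315 fun x => dg Pi x != hh a b x

/-- The type of a pair of points. -/
def kap (i j : Nat) : Nat :=
  if opN i j = j then 2 else if opN i j = opN j i then 3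
  else if opN (opN i j) j = j then 4 else 5

def chk9a : Bool :=
  allLt 315 fun q => (kap 0 q != 3 || A3.contains q) && (kap 0 q != 4 || A4.contains q)

/-- Selection of one of four points. -/
def sel (q1 q2 q3 t : Nat) : Nat :=
  match t with
  | 0 => 0
  | 1 => q1
  | 2 => q2
  | _ => q3

/-- Evaluation of a word in four rows at the point `0`. -/
def valG (s : Nat → Nat) (w : List Nat) : Nat := w.foldr (fun t acc => opN (s t) acc) 0

/-- A relation satisfied by the generators. -/
def relR (q1 q2 q3 : Nat) : Bool :=
  valG (sel q1 q2 q3) [3, 1, 0, 2, 3, 1, 2] == valG (sel q1 q2 q3) [1, 3, 2, 3, 0, 1, 2]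

/-- The candidates with a given first point. -/
def candsOf (q1 : Nat) : List (Nat × Nat × Nat) :=
  (A4.filter fun q2 => kap q1 q2 == 3).flatMap fun q2 =>
    (A3.filter fun q3 => kap q1 q3 == 5 && kap q2 q3 == 5 && relR q1 q2 q3).map
      fun q3 => (q1, q2, q3)

/-- The candidate images of the generating points under a normalising permutation fixing `0`. -/
def cands : List (Nat × Nat × Nat) := A3.flatMap candsOf

/-- Ten of the first points have at most 24 candidates each. -/
def chkC (lo : Nat) : Bool :=
  allLt 10 fun k => Nat.ble (candsOf (A3.getD (lo + k) 0)).length 24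

end Cfsg.Agent.Lib.Helper7.J2OutFn
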