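import Cfsg.Agent.Lib.Helper7.J2OutMain
import Cfsg.Agent.Lib.Helper60.J2Perm

/-!
# The outer automorphism group of the Hall–Janko group has order two (helper7)

Link between the permutation model of `J2` on its 315 reflections (helper60's `j2Perm`) and the
operation table of `J2OutData`.
-/

set_option autoImplicit false
set_option maxRecDepth 100000

namespace Cfsg.Agent.Lib.Helper7.J2OutLink

open Cfsg.Agent.Lib.Helper7.J2OutData Cfsg.Agent.Lib.Helper7.J2OutFn
  Cfsg.Agent.Lib.Helper7.J2OutMain Cfsg.Agent.H60J2

/-- The four rows of helper60's table are rows of the operation table. -/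
def linkOK : Bool :=
  allLt 4 fun t => allLt 315 fun x => ((j2Tab.getD t []).getD x 0) % 315 == opN (pN t) x

theorem linkOK_true : linkOK = true := by decide +kernel

theorem link (t : Fin 4) : j2Perm t = dF (pF t) := by
  apply Equiv.ext
  intro x
  apply Fin.ext
  have h := allLt_iff.mp (allLt_iff.mp linkOK_true t.1 t.2) x.1 x.2
  rw [beq_iff_eq] at h
  exact h

theorem closure_eq : Subgroup.closure (Set.range j2Perm) = Pg := by
  have h : j2Perm = fun t => dF (pF t) := funext link
  rw [h]
  rfl

/-- The outer automorphism group of the Hall–Janko group has order two. -/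
theorem out_j2 : Nat.card (Cfsg.Out Cfsg.Spor.J2) = 2 := by
  obtain ⟨e⟩ := j2_equiv
  rw [Cfsg.Agent.Lib.Helper8.Rank3Aut.card_out_congr' e]
  have hc := j2Perm_card
  rw [closure_eq] at hc ⊢
  exact out_card hc

end Cfsg.Agent.Lib.Helper7.J2OutLink
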