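import Cfsg.Agent.Lib.Helper7.J2OutAbs
import Cfsg.Agent.Lib.Helper7.J2OutChk1
import Cfsg.Agent.Lib.Helper7.J2OutChk2
import Cfsg.Agent.Lib.Helper7.J2OutChk3
import Cfsg.Agent.Lib.Helper7.J2OutChk4
import Cfsg.Agent.Lib.Helper7.J2OutChk5

/-!
# The outer automorphism group of the Hall–Janko group as a permutation group (helper7)

`Pg` is the group generated by four rows of the operation table `opN` on `Fin 315`.  Assuming
that it has order `604800`, its outer automorphism group has order two.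
-/

set_option autoImplicit false

namespace Cfsg.Agent.Lib.Helper7.J2OutMain

open Cfsg.Agent.Lib.Helper7.J2OutData Cfsg.Agent.Lib.Helper7.J2OutFn
  Cfsg.Agent.Lib.Helper7.J2OutChk1 Cfsg.Agent.Lib.Helper7.J2OutChk2
  Cfsg.Agent.Lib.Helper7.J2OutChk3 Cfsg.Agent.Lib.Helper7.J2OutChk4
  Cfsg.Agent.Lib.Helper7.J2OutChk5
  Cfsg.Agent.Lib.Helper7.J2OutAbs Cfsg.Agent.Lib.Helper35.PermAut

attribute [local irreducible] opN

theorem opN_spec {i j : Nat} (hi : i < 315) (hj : j < 315) :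
    opN i j < 315 ∧ opN i (opN i j) = j := by
  have h := allLt_iff.mp (rng_spec chk1_ok (Nat.zero_le i) (by omega)) j hj
  rw [Bool.and_eq_true] at h
  exact ⟨by simpa using h.1, Nat.eq_of_beq_eq_true h.2⟩

theorem opN_lt {i j : Nat} (hi : i < 315) (hj : j < 315) : opN i j < 315 := (opN_spec hi hj).1

/-- The operation on `Fin 315`. -/
def opF (i j : Fin 315) : Fin 315 := ⟨opN i.1 j.1, opN_lt i.2 j.2⟩

theorem opF_val (i j : Fin 315) : (opF i j).1 = opN i.1 j.1 := rfl

theorem opF_invol (i j : Fin 315) : opF i (opF i j) = j := Fin.ext (opN_spec i.2 j.2).2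

/-- The involution attached to a point. -/
def dF (i : Fin 315) : Equiv.Perm (Fin 315) := ⟨opF i, opF i, opF_invol i, opF_invol i⟩

theorem dF_apply (i j : Fin 315) : dF i j = opF i j := rfl

theorem dF_inv_apply (i j : Fin 315) : (dF i)⁻¹ j = opF i j := rfl

theorem pN_lt (t : Nat) : pN t < 315 := by
  unfold pN
  split <;> norm_num

/-- The generating points. -/
def pG (t : Nat) : Fin 315 := ⟨pN t, pN_lt t⟩

/-- The four generating points. -/
def pF (t : Fin 4) : Fin 315 := pG t.1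

/-- The group generated by the four involutions. -/
def Pg : Subgroup (Equiv.Perm (Fin 315)) :=
  Subgroup.closure (Set.range fun t : Fin 4 => dF (pF t))

theorem pN_cases (t : Nat) : pN t = 0 ∨ pN t = 131 ∨ pN t = 61 ∨ pN t = 254 := by
  rcases t with _ | _ | _ | t
  · exact Or.inl rfl
  · exact Or.inr (Or.inl rfl)
  · exact Or.inr (Or.inr (Or.inl rfl))
  · exact Or.inr (Or.inr (Or.inr rfl))

theorem hdeq (t : Fin 4) (i : Fin 315) :
    dF (pF t) * dF i * (dF (pF t))⁻¹ = dF (dF (pF t) i) := by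
  apply Equiv.ext
  intro x
  apply Fin.ext
  exact Nat.eq_of_beq_eq_true (allLt_iff.mp (chk2_ok (pN_cases t.1) i.2) x.1 x.2)

theorem pG_mem_gens (t : Nat) : dF (pG t) ∈ Pg := by
  have key : ∃ t' : Fin 4, pF t' = pG t := by
    rcases t with _ | _ | _ | t
    · exact ⟨0, rfl⟩
    · exact ⟨1, rfl⟩
    · exact ⟨2, rfl⟩
    · exact ⟨3, rfl⟩
  obtain ⟨t', ht'⟩ := key
  rw [← ht']
  exact Subgroup.subset_closure ⟨t', rfl⟩

theorem tr_aux : ∀ n : Nat, ∀ i : Fin 315, dg Dep i.1 ≤ n → ∃ g ∈ Pg, g 0 = i := by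
  intro n
  induction n with
  | zero =>
    intro i hi
    have h := allLt_iff.mp chk3_ok i.1 i.2
    rw [Bool.or_eq_true, beq_iff_eq] at h
    rcases h with h | h
    · exact ⟨1, Pg.one_mem, Fin.ext h.symm⟩
    · simp only [Bool.and_eq_true, decide_eq_true_eq] at h
      omega
  | succ n ih =>
    intro i hi
    have h := allLt_iff.mp chk3_ok i.1 i.2
    rw [Bool.or_eq_true, beq_iff_eq] at h
    rcases h with h | h
    · exact ⟨1, Pg.one_mem, Fin.ext h.symm⟩
    · simp only [Bool.and_eq_true, decide_eq_true_eq, beq_iff_eq] at h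
      obtain ⟨⟨h1, h2⟩, h3⟩ := h
      obtain ⟨g, hg, hg0⟩ := ih ⟨dg Par i.1, h1⟩ (by simp only; omega)
      refine ⟨dF (pG (dg Lab i.1)) * g, Pg.mul_mem (pG_mem_gens _) hg, ?_⟩
      rw [Equiv.Perm.mul_apply, hg0]
      exact Fin.ext h3

theorem tr (i : Fin 315) : ∃ g ∈ Pg, g 0 = i := tr_aux _ i le_rfl

theorem dF_zero_mem : dF 0 ∈ Pg := Subgroup.subset_closure ⟨0, rfl⟩

theorem dF_mem (i : Fin 315) : dF i ∈ Pg := by
  obtain ⟨g, hg, rfl⟩ := tr i
  rw [← equivariant dF pF hdeq g hg 0]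
  exact Pg.mul_mem (Pg.mul_mem hg dF_zero_mem) (Pg.inv_mem hg)

theorem hfix (j : Fin 315) (hj : j ≠ 0) : ∃ h ∈ Pg, h 0 = 0 ∧ h j ≠ j := by
  have h := allLt_iff.mp chk5_ok j.1 j.2
  rw [Bool.or_eq_true, beq_iff_eq, anyLt_iff] at h
  rcases h with h | ⟨k, hk, h⟩
  · exact absurd (Fin.ext h) hj
  · simp only [Bool.and_eq_true, beq_iff_eq, bne_iff_ne, ne_eq] at h
    exact ⟨dF ⟨k, hk⟩, dF_mem _, Fin.ext h.1, fun e => h.2 (congrArg Fin.val e)⟩

theorem hinj0 (k : Fin 315) (hk : dF k = dF 0) : k = 0 := by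
  have h := allLt_iff.mp chk4_ok k.1 k.2
  rw [Bool.or_eq_true, beq_iff_eq, anyLt_iff] at h
  rcases h with h | ⟨x, hx, h⟩
  · exact Fin.ext h
  · exfalso
    rw [bne_iff_ne] at h
    apply h
    have e := congrArg (fun f : Equiv.Perm (Fin 315) => (f ⟨x, hx⟩).1) hk
    exact e.symm

theorem dF_zero_ne_one : dF 0 ≠ 1 := by
  intro h
  have h1 : opN 0 1 = 8 := op_zero_one
  have h2 : (dF 0 (1 : Fin 315)).1 = 1 :=
    congrArg (fun f : Equiv.Perm (Fin 315) => (f 1).1) h
  have h3 : (dF 0 (1 : Fin 315)).1 = opN 0 1 := rfl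
  omega

theorem dF_zero_sq : dF 0 * dF 0 = 1 := by
  apply Equiv.ext
  intro x
  exact opF_invol 0 x

/-! ### The stabiliser of a point -/

/-- The permutation attached to a word in the generators. -/
def wperm (w : List Nat) : Equiv.Perm (Fin 315) := (w.map fun t => dF (pG t)).prod

theorem wperm_mem (w : List Nat) : wperm w ∈ Pg := by
  apply Subgroup.list_prod_mem
  intro x hx
  rw [List.mem_map] at hx
  obtain ⟨t, -, rfl⟩ := hx
  exact pG_mem_gens t

theorem wperm_val (w : List Nat) (x : Fin 315) : (wperm w x).1 = evalW w x.1 := by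
  induction w with
  | nil => rfl
  | cons t w ih =>
    have e : wperm (t :: w) = dF (pG t) * wperm w := by
      simp [wperm]
    rw [e, Equiv.Perm.mul_apply]
    show opN (pN t) (wperm w x).1 = opN (pN t) (evalW w x.1)
    rw [ih]

/-- The elements of the transversal. -/
def uP (a : Nat) : Equiv.Perm (Fin 315) := wperm (Uw.getD a [])

/-- The elements of the two-point stabiliser. -/
def hP (b : Nat) : Equiv.Perm (Fin 315) := wperm (Hw.getD b [])

theorem uP_val {a : Nat} (ha : a < 160) (x : Fin 315) : (uP a x).1 = uT a x.1 := by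
  have h := chkW_spec U Uw 0 chkU a (by rw [Uw_length]; exact ha) x.1 x.2
  rw [Nat.zero_add] at h
  unfold uP
  rw [wperm_val, h]
  rfl

theorem hP_val {b : Nat} (hb : b < 12) (x : Fin 315) : (hP b x).1 = hT b x.1 := by
  have h := chkW_spec Hh Hw 0 chkH b (by rw [Hw_length]; exact hb) x.1 x.2
  rw [Nat.zero_add] at h
  unfold hP
  rw [wperm_val, h]
  rfl

/-- The elements of the stabiliser of `0`. -/
def el (a b : Nat) : Equiv.Perm (Fin 315) := uP a * hP b

theorem el_mem (a b : Nat) : el a b ∈ Pg := Pg.mul_mem (wperm_mem _) (wperm_mem _)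

theorem el_val {a b : Nat} (ha : a < 160) (hb : b < 12) (x : Fin 315) :
    (el a b x).1 = hh a b x.1 := by
  show (uP a (hP b x)).1 = uT a (hT b x.1)
  rw [uP_val ha, hP_val hb]

theorem uT_spec {a : Nat} (ha : a < 160) : uT a 0 = 0 ∧ dg Ainv (uT a 131) = a := by
  have h := allLt_iff.mp chk6a_ok a ha
  simp only [Bool.and_eq_true, beq_iff_eq] at h
  exact h

theorem hT_spec {b : Nat} (hb : b < 12) :
    hT b 0 = 0 ∧ hT b 131 = 131 ∧ dg Binv (hT b 1) = b := by
  have h := allLt_iff.mp chk6b_ok b hb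
  simp only [Bool.and_eq_true, beq_iff_eq] at h
  exact ⟨h.1.1, h.1.2, h.2⟩

theorem el_zero {a b : Nat} (ha : a < 160) (hb : b < 12) : el a b 0 = 0 := by
  apply Fin.ext
  rw [el_val ha hb]
  show uT a (hT b 0) = 0
  rw [(hT_spec hb).1, (uT_spec ha).1]

theorem el_inj {a b a' b' : Nat} (ha : a < 160) (hb : b < 12) (ha' : a' < 160) (hb' : b' < 12)
    (h : el a b = el a' b') : a = a' ∧ b = b' := by
  have e1 : (el a b ⟨131, by norm_num⟩).1 = (el a' b' ⟨131, by norm_num⟩).1 := by rw [h]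
  rw [el_val ha hb, el_val ha' hb'] at e1
  have e2 : uT a 131 = uT a' 131 := by
    have e1' : uT a (hT b 131) = uT a' (hT b' 131) := e1
    rwa [(hT_spec hb).2.1, (hT_spec hb').2.1] at e1'
  have haa : a = a' := by
    calc a = dg Ainv (uT a 131) := (uT_spec ha).2.symm
      _ = dg Ainv (uT a' 131) := by rw [e2]
      _ = a' := (uT_spec ha').2
  subst haa
  refine ⟨rfl, ?_⟩
  have e3 : hP b = hP b' := mul_left_cancel h
  have e4 : (hP b ⟨1, by norm_num⟩).1 = (hP b' ⟨1, by norm_num⟩).1 := by rw [e3]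
  rw [hP_val hb, hP_val hb'] at e4
  have e4' : hT b 1 = hT b' 1 := e4
  calc b = dg Binv (hT b 1) := (hT_spec hb).2.2.symm
    _ = dg Binv (hT b' 1) := by rw [e4']
    _ = b' := (hT_spec hb').2.2

/-- The stabiliser of `0`. -/
def P0 : Subgroup (Equiv.Perm (Fin 315)) :=
  Pg ⊓ MulAction.stabilizer (Equiv.Perm (Fin 315)) (0 : Fin 315)

theorem orb_eq : orb Pg (0 : Fin 315) = Finset.univ := by
  ext i
  simp only [Finset.mem_univ, iff_true]
  exact mem_orb.mpr (tr i)

theorem card_P0 (hcard : Nat.card Pg = 604800) : Nat.card P0 = 1920 := by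
  have h := card_eq_mul_orb Pg (0 : Fin 315)
  rw [orb_eq, Finset.card_univ, Fintype.card_fin, hcard] at h
  show Nat.card ↥(Pg ⊓ MulAction.stabilizer (Equiv.Perm (Fin 315)) (0 : Fin 315)) = 1920
  omega

theorem exists_el (hcard : Nat.card Pg = 604800) (h : Equiv.Perm (Fin 315)) (hP : h ∈ Pg)
    (h0 : h 0 = 0) : ∃ a, a < 160 ∧ ∃ b, b < 12 ∧ h = el a b := by
  let f : Fin 160 × Fin 12 → P0 := fun ab => ⟨el ab.1.1 ab.2.1,
    Subgroup.mem_inf.mpr ⟨el_mem _ _, MulAction.mem_stabilizer_iff.mpr (el_zero ab.1.2 ab.2.2)⟩⟩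
  have hf : Function.Injective f := by
    rintro ⟨a, b⟩ ⟨a', b'⟩ hab
    have e : el a.1 b.1 = el a'.1 b'.1 := congrArg Subtype.val hab
    obtain ⟨e1, e2⟩ := el_inj a.2 b.2 a'.2 b'.2 e
    exact Prod.ext (Fin.ext e1) (Fin.ext e2)
  have hb : Function.Bijective f := by
    apply hf.bijective_of_nat_card_le
    have h1 := card_P0 hcard
    have h2 : Nat.card (Fin 160 × Fin 12) = 160 * 12 := by
      rw [Nat.card_prod, Nat.card_fin, Nat.card_fin]
    omega
  obtain ⟨⟨a, b⟩, hab⟩ := hb.2 ⟨h, Subgroup.mem_inf.mpr ⟨hP, MulAction.mem_stabilizer_iff.mpr h0⟩⟩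
  exact ⟨a.1, a.2, b.1, b.2, (congrArg Subtype.val hab).symm⟩

theorem el_sq_val {a b : Nat} (ha : a < 160) (hb : b < 12) (x : Fin 315) :
    ((el a b * el a b) x).1 = hh a b (hh a b x.1) := by
  rw [Equiv.Perm.mul_apply, el_val ha hb, el_val ha hb]

theorem sq_of_sqOK {a b j : Nat} (ha : a < 160) (hb : b < 12) (h : sqOK a b j = true) :
    (j = 511 ∧ el a b * el a b = 1) ∨
      (j = 510 ∧ el a b * el a b * (el a b * el a b) ≠ 1) ∨
      (∃ hj : j < 315, el a b * el a b = dF ⟨j, hj⟩) := by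
  unfold sqOK at h
  split_ifs at h with c1 c2
  · left
    refine ⟨beq_iff_eq.mp c1, ?_⟩
    apply Equiv.ext
    intro x
    apply Fin.ext
    rw [el_sq_val ha hb]
    exact Nat.eq_of_beq_eq_true (allLt_iff.mp h x.1 x.2)
  · right; left
    refine ⟨beq_iff_eq.mp c2, ?_⟩
    obtain ⟨x, hx, hx'⟩ := anyLt_iff.mp h
    rw [bne_iff_ne] at hx'
    intro e
    apply hx'
    have e1 : ((el a b * el a b * (el a b * el a b)) ⟨x, hx⟩).1 =
        hh a b (hh a b (hh a b (hh a b x))) := by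
      rw [Equiv.Perm.mul_apply, el_sq_val ha hb, el_sq_val ha hb]
    rw [← e1, e]
    rfl
  · right; right
    rw [Bool.and_eq_true, decide_eq_true_eq] at h
    refine ⟨h.1, ?_⟩
    apply Equiv.ext
    intro x
    apply Fin.ext
    rw [el_sq_val ha hb]
    exact Nat.eq_of_beq_eq_true (allLt_iff.mp h.2 x.1 x.2)

theorem sqOK_all {a b : Nat} (ha : a < 160) (hb : b < 12) :
    sqOK a b (dg Jdx (12 * a + b)) = true :=
  allLt_iff.mp (chk7_ok ha) b hb

theorem hsq (hcard : Nat.card Pg = 604800) (h : Equiv.Perm (Fin 315)) (hP : h ∈ Pg)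
    (h0 : h 0 = 0) (h4 : h * h * (h * h) = 1) (h2 : h * h ≠ 1) : ∃ j, h * h = dF j := by
  obtain ⟨a, ha, b, hb, rfl⟩ := exists_el hcard h hP h0
  rcases sq_of_sqOK ha hb (sqOK_all ha hb) with ⟨-, e⟩ | ⟨-, e⟩ | ⟨hj, e⟩
  · exact absurd e h2
  · exact absurd h4 e
  · exact ⟨_, e⟩

theorem y0_sq : el 26 2 * el 26 2 = dF 0 := by
  have h := sqOK_all (a := 26) (b := 2) (by norm_num) (by norm_num)
  rw [jdx_y0] at h
  rcases sq_of_sqOK (by norm_num) (by norm_num) h with ⟨e, -⟩ | ⟨e, -⟩ | ⟨hj, e⟩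
  · omega
  · omega
  · exact e

/-! ### The fingerprint of a normalising permutation -/

/-- The images of the four generating points. -/
def fp (π : Equiv.Perm (Fin 315)) : Nat × Nat × Nat × Nat :=
  ((π (pG 0)).1, (π (pG 1)).1, (π (pG 2)).1, (π (pG 3)).1)

/-- The candidate fingerprints. -/
def Cset : Finset (Nat × Nat × Nat × Nat) := (cands.map fun c => ((0 : Nat), c)).toFinset

theorem length_flatMap_le {α β : Type} (l : List α) (f : α → List β) (c : Nat)
    (h : ∀ x ∈ l, (f x).length ≤ c) : (l.flatMap f).length ≤ c * l.length := by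
  induction l with
  | nil => simp
  | cons a l ih =>
    have h1 := h a (by simp)
    have h2 := ih (fun x hx => h x (by simp [hx]))
    simp only [List.flatMap_cons, List.length_append, List.length_cons]
    rw [Nat.mul_succ]
    omega

theorem chkC_all : ∀ c, c < 16 → chkC (10 * c) = true := by
  intro c hc
  interval_cases c
  · exact chkC_0
  · exact chkC_1
  · exact chkC_2
  · exact chkC_3
  · exact chkC_4
  · exact chkC_5
  · exact chkC_6
  · exact chkC_7
  · exact chkC_8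
  · exact chkC_9
  · exact chkC_10
  · exact chkC_11
  · exact chkC_12
  · exact chkC_13
  · exact chkC_14
  · exact chkC_15

theorem candsOf_le {q : Nat} (hq : q ∈ A3) : (candsOf q).length ≤ 24 := by
  obtain ⟨n, hn, rfl⟩ := List.getElem_of_mem hq
  rw [A3_length] at hn
  have h := allLt_iff.mp (chkC_all (n / 10) (by omega)) (n % 10) (Nat.mod_lt _ (by norm_num))
  rw [show 10 * (n / 10) + n % 10 = n from Nat.div_add_mod n 10] at h
  have h' := Nat.le_of_ble_eq_true h
  have e : A3.getD n 0 = A3[n] := by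
    rw [List.getD_eq_getElem?_getD, List.getElem?_eq_getElem (by rw [A3_length]; exact hn)]
    rfl
  rw [e] at h'
  exact h'

theorem cands_length : cands.length ≤ 3840 := by
  have h := length_flatMap_le A3 candsOf 24 (fun x hx => candsOf_le hx)
  rw [A3_length] at h
  exact h

theorem Cset_card : Cset.card ≤ 3840 := by
  have h := List.toFinset_card_le (cands.map fun c => ((0 : Nat), c))
  rw [List.length_map] at h
  exact h.trans cands_length

theorem fp_inj (π π' : Equiv.Perm (Fin 315)) (h : fp π = fp π') (t : Fin 4) :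
    π (pF t) = π' (pF t) := by
  simp only [fp, Prod.mk.injEq] at h
  obtain ⟨h0, h1, h2, h3⟩ := h
  fin_cases t
  · exact Fin.ext h0
  · exact Fin.ext h1
  · exact Fin.ext h2
  · exact Fin.ext h3

/-- The type of a pair of points. -/
def kapF (i j : Fin 315) : Nat :=
  if opF i j = j then 2 else if opF i j = opF j i then 3
  else if opF (opF i j) j = j then 4 else 5

theorem kapF_val (i j : Fin 315) : kapF i j = kap i.1 j.1 := by
  unfold kapF kap
  simp only [Fin.ext_iff, opF_val]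

theorem kapF_map (π : Equiv.Perm (Fin 315)) (hπ : ∀ i j, π (opF i j) = opF (π i) (π j))
    (i j : Fin 315) : kapF (π i) (π j) = kapF i j := by
  unfold kapF
  simp only [← hπ, EmbeddingLike.apply_eq_iff_eq]

theorem kap_map (π : Equiv.Perm (Fin 315)) (hπ : ∀ i j, π (opF i j) = opF (π i) (π j))
    (i j : Fin 315) : kap (π i).1 (π j).1 = kap i.1 j.1 := by
  rw [← kapF_val, ← kapF_val, kapF_map π hπ]

/-- Evaluation of a word at the point `0`. -/
def valF (s : Nat → Fin 315) (w : List Nat) : Fin 315 :=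
  w.foldr (fun t acc => opF (s t) acc) 0

theorem valF_val (s : Nat → Fin 315) (w : List Nat) :
    (valF s w).1 = valG (fun t => (s t).1) w := by
  induction w with
  | nil => rfl
  | cons t w ih =>
    show opN (s t).1 (valF s w).1 = opN (s t).1 (valG (fun t => (s t).1) w)
    rw [ih]

theorem valF_map (π : Equiv.Perm (Fin 315)) (hπ : ∀ i j, π (opF i j) = opF (π i) (π j))
    (h0 : π 0 = 0) (s : Nat → Fin 315) (w : List Nat) :
    π (valF s w) = valF (fun t => π (s t)) w := by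
  induction w with
  | nil => exact h0
  | cons t w ih =>
    show π (opF (s t) (valF s w)) = opF (π (s t)) (valF (fun t => π (s t)) w)
    rw [hπ, ih]

theorem A_mem {q : Nat} (hq : q < 315) : (kap 0 q = 3 → q ∈ A3) ∧ (kap 0 q = 4 → q ∈ A4) := by
  have h := allLt_iff.mp chk9a_ok q hq
  simp only [Bool.and_eq_true, Bool.or_eq_true, bne_iff_ne, ne_eq, List.contains_iff_mem] at h
  exact ⟨fun h3 => h.1.resolve_left (fun hn => hn h3), fun h4 => h.2.resolve_left (fun hn => hn h4)⟩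

theorem pG_zero : pG 0 = 0 := rfl

theorem sel_eq (π : Equiv.Perm (Fin 315)) (h0 : π 0 = 0) :
    sel (π (pG 1)).1 (π (pG 2)).1 (π (pG 3)).1 = fun t => (π (pG t)).1 := by
  funext t
  rcases t with _ | _ | _ | t
  · exact (congrArg Fin.val (show π (pG 0) = 0 from h0)).symm
  · rfl
  · rfl
  · rfl

theorem sel_base : sel 131 61 254 = fun t => (pG t).1 := by
  funext t
  rcases t with _ | _ | _ | t <;> rfl

theorem relR_base :
    valF pG [3, 1, 0, 2, 3, 1, 2] = valF pG [1, 3, 2, 3, 0, 1, 2] := by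
  apply Fin.ext
  rw [valF_val, valF_val]
  have h := relR_ok
  unfold relR at h
  rw [beq_iff_eq, sel_base] at h
  exact h

theorem fp_mem (π : Equiv.Perm (Fin 315)) (hπ : ∀ i j, π (dF i j) = dF (π i) (π j))
    (h0 : π 0 = 0) : fp π ∈ Cset := by
  have hπ' : ∀ i j, π (opF i j) = opF (π i) (π j) := hπ
  have e0 : (π (pG 0)).1 = 0 := congrArg Fin.val (show π (pG 0) = 0 from h0)
  have k01 : kap 0 (π (pG 1)).1 = 3 := by
    have h := kap_map π hπ' 0 (pG 1)
    rw [h0] at h
    exact h.trans kap01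
  have k02 : kap 0 (π (pG 2)).1 = 4 := by
    have h := kap_map π hπ' 0 (pG 2)
    rw [h0] at h
    exact h.trans kap02
  have k03 : kap 0 (π (pG 3)).1 = 3 := by
    have h := kap_map π hπ' 0 (pG 3)
    rw [h0] at h
    exact h.trans kap03
  have k12 : kap (π (pG 1)).1 (π (pG 2)).1 = 3 := (kap_map π hπ' (pG 1) (pG 2)).trans kap12
  have k13 : kap (π (pG 1)).1 (π (pG 3)).1 = 5 := (kap_map π hπ' (pG 1) (pG 3)).trans kap13
  have k23 : kap (π (pG 2)).1 (π (pG 3)).1 = 5 := (kap_map π hπ' (pG 2) (pG 3)).trans kap23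
  have m1 : (π (pG 1)).1 ∈ A3 := (A_mem (π (pG 1)).2).1 k01
  have m2 : (π (pG 2)).1 ∈ A4 := (A_mem (π (pG 2)).2).2 k02
  have m3 : (π (pG 3)).1 ∈ A3 := (A_mem (π (pG 3)).2).1 k03
  have hR : relR (π (pG 1)).1 (π (pG 2)).1 (π (pG 3)).1 = true := by
    unfold relR
    rw [beq_iff_eq, sel_eq π h0]
    have e : ∀ w, valG (fun t => (π (pG t)).1) w = (π (valF pG w)).1 := by
      intro w
      rw [valF_map π hπ' h0, valF_val]
    rw [e, e, relR_base]
  show ((π (pG 0)).1, (π (pG 1)).1, (π (pG 2)).1, (π (pG 3)).1) ∈ Cset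
  rw [e0]
  unfold Cset
  rw [List.mem_toFinset, List.mem_map]
  refine ⟨((π (pG 1)).1, (π (pG 2)).1, (π (pG 3)).1), ?_, rfl⟩
  unfold cands
  rw [List.mem_flatMap]
  refine ⟨_, m1, ?_⟩
  unfold candsOf
  rw [List.mem_flatMap]
  refine ⟨_, List.mem_filter.mpr ⟨m2, by simpa using k12⟩, ?_⟩
  rw [List.mem_map]
  refine ⟨_, List.mem_filter.mpr ⟨m3, ?_⟩, rfl⟩
  simp only [Bool.and_eq_true, beq_iff_eq]
  exact ⟨⟨k13, k23⟩, hR⟩

/-! ### The outer automorphism -/

theorem pi_spec {x : Nat} (hx : x < 315) :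
    dg Pi x < 315 ∧ dg PiInv x < 315 ∧ dg PiInv (dg Pi x) = x ∧ dg Pi (dg PiInv x) = x := by
  have h := allLt_iff.mp chk8a_ok x hx
  simp only [Bool.and_eq_true, decide_eq_true_eq, beq_iff_eq] at h
  exact ⟨h.1.1.1, h.1.1.2, h.1.2, h.2⟩

/-- A permutation normalising the group and not in it. -/
def piF : Equiv.Perm (Fin 315) where
  toFun x := ⟨dg Pi x.1, (pi_spec x.2).1⟩
  invFun x := ⟨dg PiInv x.1, (pi_spec x.2).2.1⟩
  left_inv x := Fin.ext (pi_spec x.2).2.2.1
  right_inv x := Fin.ext (pi_spec x.2).2.2.2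

theorem qN_lt (t : Nat) : qN t < 315 := by
  unfold qN
  split <;> norm_num

/-- The images of the generating points under `piF`. -/
def qG (t : Nat) : Fin 315 := ⟨qN t, qN_lt t⟩

theorem piF_conj (t : Fin 4) : piF * dF (pF t) * piF⁻¹ = dF (qG t.1) := by
  apply Equiv.ext
  intro x
  apply Fin.ext
  have h := allLt_iff.mp (allLt_iff.mp chk8b_ok t.1 t.2) x.1 x.2
  rw [beq_iff_eq] at h
  exact h

theorem piF_not_mem (hcard : Nat.card Pg = 604800) : piF ∉ Pg := by
  intro hmem
  have h0 : piF 0 = 0 := Fin.ext pi_zero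
  obtain ⟨a, ha, b, hb, e⟩ := exists_el hcard piF hmem h0
  obtain ⟨x, hx, hne⟩ :=
    anyLt_iff.mp (allLt_iff.mp (rng_spec chk8c_ok (Nat.zero_le a) (by omega)) b hb)
  rw [bne_iff_ne] at hne
  apply hne
  have h1 := el_val ha hb ⟨x, hx⟩
  rw [← e] at h1
  exact h1

/-- The outer automorphism group of `Pg` has order two. -/
theorem out_card (hcard : Nat.card Pg = 604800) : Nat.card (Cfsg.Out Pg) = 2 := by
  refine out_two_of_class (ι := Fin 4) (0 : Fin 315) dF pF Pg rfl hdeq hinj0 tr hfix dF_zero_mem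
    dF_zero_ne_one dF_zero_sq (el 26 2) (el_mem 26 2) y0_sq (hsq hcard) ⟨157, by simp⟩ 604800
    hcard fp Cset fp_mem fp_inj ?_ piF ?_ (piF_not_mem hcard)
  · rw [Fintype.card_fin]
    have h := Cset_card
    omega
  · intro t
    rw [piF_conj]
    exact dF_mem _

end Cfsg.Agent.Lib.Helper7.J2OutMain
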