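import Cfsg.Agent.Lib.Helper7.M24Main

set_option autoImplicit false

namespace Cfsg.Agent.Lib.Helper7.L23Data

open Cfsg Cfsg.Agent.Lib.Helper7.GolayBase Cfsg.Agent.Lib.Helper7.GolayPerm Cfsg.Agent.Lib.Helper7.M24Data

/-- Table of the map `t ↦ 2 t`. -/
def m2T : List Nat := [0, 2, 4, 6, 8, 10, 12, 14, 16, 18, 20, 22, 1, 3, 5, 7, 9, 11, 13, 15, 17, 19, 21, 23]

/-- Table of the map `t ↦ 12 t`, the inverse of `t ↦ 2 t`. -/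
def m2InvT : List Nat := [0, 12, 1, 13, 2, 14, 3, 15, 4, 16, 5, 17, 6, 18, 7, 19, 8, 20, 9, 21, 10, 22, 11, 23]

/-- Straight-line program for the table of `t ↦ 2 t`. -/
def rows : List (Nat × Nat × List Nat) := [
  (90, 164, [0, 2, 4, 20, 21, 18, 1, 16, 15, 6, 10, 14, 19, 9, 17, 5, 3, 7, 12, 22, 11, 13, 8, 23]),
  (254, 186, [0, 2, 4, 6, 1, 5, 15, 14, 17, 9, 8, 7, 20, 22, 11, 3, 13, 10, 18, 19, 21, 12, 16, 23]),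
  (254, 228, [0, 2, 4, 6, 18, 10, 1, 22, 19, 8, 21, 14, 12, 7, 5, 3, 17, 11, 15, 13, 9, 16, 20, 23]),
  (254, 239, [0, 2, 4, 6, 8, 10, 12, 14, 16, 18, 20, 22, 1, 3, 5, 7, 9, 11, 13, 15, 17, 19, 21, 23])]

theorem rows_chk : chk M24Data.tabs [] rows = true := by decide +kernel

/-- The nonzero squares modulo 23. -/
def sqL : List Nat := [1, 2, 3, 4, 6, 8, 9, 12, 13, 16, 18]

/-- For each index: 1 for a nonzero square, 2 for a non-square, 0 for the two fixed points. -/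
def kindL : List Nat := [0, 1, 1, 1, 1, 2, 1, 2, 1, 1, 2, 2, 1, 1, 2, 2, 1, 2, 1, 2, 2, 2, 2, 0]

/-- The exponent `e` with index `= ± 2 ^ e`. -/
def expL : List Nat := [0, 0, 1, 8, 2, 6, 9, 4, 3, 5, 7, 10, 10, 7, 5, 3, 4, 9, 6, 2, 8, 1, 0, 0]

/-- Inverses modulo 23. -/
def inv23 : List Nat := [0, 1, 12, 8, 6, 14, 4, 10, 3, 18, 7, 21, 2, 16, 5, 20, 13, 19, 9, 17, 15, 11, 22]

/-- The tables of the elements of `M24` fixing two points and normalising the group of order 11. -/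
def N55L : List (List Nat) := [
  [0, 1, 2, 3, 4, 5, 6, 7, 8, 9, 10, 11, 12, 13, 14, 15, 16, 17, 18, 19, 20, 21, 22, 23],
  [0, 2, 4, 6, 8, 10, 12, 14, 16, 18, 20, 22, 1, 3, 5, 7, 9, 11, 13, 15, 17, 19, 21, 23],
  [0, 3, 6, 9, 12, 15, 18, 21, 1, 4, 7, 10, 13, 16, 19, 22, 2, 5, 8, 11, 14, 17, 20, 23],
  [0, 4, 8, 12, 16, 20, 1, 5, 9, 13, 17, 21, 2, 6, 10, 14, 18, 22, 3, 7, 11, 15, 19, 23],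
  [0, 6, 12, 18, 1, 7, 13, 19, 2, 8, 14, 20, 3, 9, 15, 21, 4, 10, 16, 22, 5, 11, 17, 23],
  [0, 8, 16, 1, 9, 17, 2, 10, 18, 3, 11, 19, 4, 12, 20, 5, 13, 21, 6, 14, 22, 7, 15, 23],
  [0, 9, 18, 4, 13, 22, 8, 17, 3, 12, 21, 7, 16, 2, 11, 20, 6, 15, 1, 10, 19, 5, 14, 23],
  [0, 12, 1, 13, 2, 14, 3, 15, 4, 16, 5, 17, 6, 18, 7, 19, 8, 20, 9, 21, 10, 22, 11, 23],
  [0, 13, 3, 16, 6, 19, 9, 22, 12, 2, 15, 5, 18, 8, 21, 11, 1, 14, 4, 17, 7, 20, 10, 23],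
  [0, 16, 9, 2, 18, 11, 4, 20, 13, 6, 22, 15, 8, 1, 17, 10, 3, 19, 12, 5, 21, 14, 7, 23],
  [0, 18, 13, 8, 3, 21, 16, 11, 6, 1, 19, 14, 9, 4, 22, 17, 12, 7, 2, 20, 15, 10, 5, 23],
  [0, 1, 8, 4, 18, 5, 9, 22, 6, 16, 17, 10, 3, 12, 15, 20, 2, 7, 13, 14, 21, 19, 11, 23],
  [0, 2, 16, 8, 13, 10, 18, 21, 12, 9, 11, 20, 6, 1, 7, 17, 4, 14, 3, 5, 19, 15, 22, 23],
  [0, 3, 1, 12, 8, 15, 4, 20, 18, 2, 5, 7, 9, 13, 22, 14, 6, 21, 16, 19, 17, 11, 10, 23],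
  [0, 4, 9, 16, 3, 20, 13, 19, 1, 18, 22, 17, 12, 2, 14, 11, 8, 5, 6, 10, 15, 7, 21, 23],
  [0, 6, 2, 1, 16, 7, 8, 17, 13, 4, 10, 14, 18, 3, 21, 5, 12, 19, 9, 15, 11, 22, 20, 23],
  [0, 8, 18, 9, 6, 17, 3, 15, 2, 13, 21, 11, 1, 4, 5, 22, 16, 10, 12, 20, 7, 14, 19, 23],
  [0, 9, 3, 13, 1, 22, 12, 14, 8, 6, 15, 21, 4, 16, 20, 19, 18, 17, 2, 11, 5, 10, 7, 23],
  [0, 12, 4, 2, 9, 14, 16, 11, 3, 8, 20, 5, 13, 6, 19, 10, 1, 15, 18, 7, 22, 21, 17, 23],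
  [0, 13, 12, 6, 4, 19, 2, 10, 9, 1, 14, 15, 16, 18, 11, 7, 3, 22, 8, 21, 20, 17, 5, 23],
  [0, 16, 13, 18, 12, 11, 6, 7, 4, 3, 19, 22, 2, 8, 10, 21, 9, 20, 1, 17, 14, 5, 15, 23],
  [0, 18, 6, 3, 2, 21, 1, 5, 16, 12, 7, 19, 8, 9, 17, 15, 13, 11, 4, 22, 10, 20, 14, 23],
  [0, 1, 16, 12, 3, 5, 8, 17, 2, 6, 11, 22, 13, 18, 19, 14, 9, 10, 4, 21, 15, 20, 7, 23],
  [0, 2, 9, 1, 6, 10, 16, 11, 4, 12, 22, 21, 3, 13, 15, 5, 18, 20, 8, 19, 7, 17, 14, 23],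
  [0, 3, 2, 13, 9, 15, 1, 5, 6, 18, 10, 20, 16, 8, 11, 19, 4, 7, 12, 17, 22, 14, 21, 23],
  [0, 4, 18, 2, 12, 20, 9, 22, 8, 1, 21, 19, 6, 3, 7, 10, 13, 17, 16, 15, 14, 11, 5, 23],
  [0, 6, 4, 3, 18, 7, 2, 10, 12, 13, 20, 17, 9, 16, 22, 15, 8, 14, 1, 11, 21, 5, 19, 23],
  [0, 8, 13, 4, 1, 17, 18, 21, 16, 2, 19, 15, 12, 6, 14, 20, 3, 11, 9, 7, 5, 22, 10, 23],
  [0, 9, 6, 16, 4, 22, 3, 15, 18, 8, 7, 14, 2, 1, 10, 11, 12, 21, 13, 5, 20, 19, 17, 23],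
  [0, 12, 8, 6, 13, 14, 4, 20, 1, 3, 17, 11, 18, 9, 21, 7, 16, 5, 2, 22, 19, 10, 15, 23],
  [0, 13, 1, 18, 16, 19, 12, 14, 3, 9, 5, 10, 8, 4, 17, 21, 2, 15, 6, 20, 11, 7, 22, 23],
  [0, 16, 3, 8, 2, 11, 13, 19, 9, 4, 15, 7, 1, 12, 5, 17, 6, 22, 18, 14, 10, 21, 20, 23],
  [0, 18, 12, 9, 8, 21, 6, 7, 13, 16, 14, 5, 4, 2, 20, 22, 1, 19, 3, 10, 17, 15, 11, 23],
  [0, 1, 9, 13, 12, 5, 2, 10, 16, 8, 22, 7, 18, 4, 21, 19, 6, 11, 3, 20, 14, 15, 17, 23],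
  [0, 2, 18, 3, 1, 10, 4, 20, 9, 16, 21, 14, 13, 8, 19, 15, 12, 22, 6, 17, 5, 7, 11, 23],
  [0, 3, 4, 16, 13, 15, 6, 7, 2, 1, 20, 21, 8, 12, 17, 11, 18, 10, 9, 14, 19, 22, 5, 23],
  [0, 4, 13, 6, 2, 20, 8, 17, 18, 9, 19, 5, 3, 16, 15, 7, 1, 21, 12, 11, 10, 14, 22, 23],
  [0, 6, 8, 9, 3, 7, 12, 14, 4, 2, 17, 19, 16, 1, 11, 22, 13, 20, 18, 5, 15, 21, 10, 23],
  [0, 8, 3, 12, 4, 17, 16, 11, 13, 18, 15, 10, 6, 9, 7, 14, 2, 19, 1, 22, 20, 5, 21, 23],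
  [0, 9, 12, 2, 16, 22, 18, 21, 6, 3, 14, 17, 1, 13, 5, 10, 8, 7, 4, 19, 11, 20, 15, 23],
  [0, 12, 16, 18, 6, 14, 1, 5, 8, 4, 11, 15, 9, 2, 22, 21, 3, 17, 13, 10, 7, 19, 20, 23],
  [0, 13, 2, 8, 18, 19, 3, 15, 1, 12, 10, 22, 4, 6, 20, 17, 9, 5, 16, 7, 21, 11, 14, 23],
  [0, 16, 6, 1, 8, 11, 9, 22, 3, 13, 7, 20, 12, 18, 14, 5, 4, 15, 2, 21, 17, 10, 19, 23],
  [0, 18, 1, 4, 9, 21, 13, 19, 12, 6, 5, 11, 2, 3, 10, 20, 16, 14, 8, 15, 22, 17, 7, 23],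
  [0, 1, 6, 18, 13, 5, 16, 11, 9, 2, 7, 17, 4, 3, 20, 21, 8, 22, 12, 15, 19, 14, 10, 23],
  [0, 2, 12, 13, 3, 10, 9, 22, 18, 4, 14, 11, 8, 6, 17, 19, 16, 21, 1, 7, 15, 5, 20, 23],
  [0, 3, 18, 8, 16, 15, 2, 10, 4, 6, 21, 5, 12, 9, 14, 17, 1, 20, 13, 22, 11, 19, 7, 23],
  [0, 4, 1, 3, 6, 20, 18, 21, 13, 8, 5, 22, 16, 12, 11, 15, 9, 19, 2, 14, 7, 10, 17, 23],
  [0, 6, 13, 16, 9, 7, 4, 20, 8, 12, 19, 10, 1, 18, 5, 11, 2, 17, 3, 21, 22, 15, 14, 23],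
  [0, 8, 2, 6, 12, 17, 13, 19, 3, 16, 10, 21, 9, 1, 22, 7, 18, 15, 4, 5, 14, 20, 11, 23],
  [0, 9, 8, 1, 2, 22, 6, 7, 12, 18, 17, 15, 13, 4, 19, 5, 3, 14, 16, 20, 10, 11, 21, 23],
  [0, 12, 3, 9, 18, 14, 8, 17, 16, 1, 15, 20, 2, 13, 10, 22, 4, 11, 6, 19, 21, 7, 5, 23],
  [0, 13, 9, 4, 8, 19, 1, 5, 2, 3, 22, 14, 6, 16, 7, 20, 12, 10, 18, 11, 17, 21, 15, 23],
  [0, 16, 4, 12, 1, 11, 3, 15, 6, 9, 20, 19, 18, 2, 21, 14, 13, 7, 8, 10, 5, 17, 22, 23],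
  [0, 18, 16, 2, 4, 21, 12, 14, 1, 13, 11, 7, 3, 8, 15, 10, 6, 5, 9, 17, 20, 22, 19, 23]]

/-- The tables among them mapping `1` to `1` or to `22`. -/
def N5L : List (List Nat) := [
  [0, 1, 2, 3, 4, 5, 6, 7, 8, 9, 10, 11, 12, 13, 14, 15, 16, 17, 18, 19, 20, 21, 22, 23],
  [0, 1, 8, 4, 18, 5, 9, 22, 6, 16, 17, 10, 3, 12, 15, 20, 2, 7, 13, 14, 21, 19, 11, 23],
  [0, 1, 16, 12, 3, 5, 8, 17, 2, 6, 11, 22, 13, 18, 19, 14, 9, 10, 4, 21, 15, 20, 7, 23],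
  [0, 1, 9, 13, 12, 5, 2, 10, 16, 8, 22, 7, 18, 4, 21, 19, 6, 11, 3, 20, 14, 15, 17, 23],
  [0, 1, 6, 18, 13, 5, 16, 11, 9, 2, 7, 17, 4, 3, 20, 21, 8, 22, 12, 15, 19, 14, 10, 23]]

end Cfsg.Agent.Lib.Helper7.L23Data
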