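import Cfsg.Agent.Lib.Helper7.M24Main

set_option autoImplicit false

namespace Cfsg.Agent.Lib.Helper7.M21Data

open Cfsg Cfsg.Agent.Lib.Helper7.GolayBase Cfsg.Agent.Lib.Helper7.GolayPerm Cfsg.Agent.Lib.Helper7.M24Data

/-- Straight-line program for the transvection generators of the three-point stabiliser. -/
def rows : List (Nat × Nat × List Nat) := [
  (223, 252, [0, 1, 2, 11, 4, 8, 9, 15, 5, 6, 21, 3, 17, 13, 18, 7, 16, 12, 14, 20, 19, 10, 22, 23]),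
  (210, 230, [0, 1, 2, 20, 6, 15, 17, 14, 16, 12, 8, 22, 4, 21, 10, 11, 7, 9, 13, 5, 18, 3, 19, 23]),
  (254, 236, [0, 1, 2, 20, 4, 15, 12, 8, 7, 17, 14, 19, 6, 13, 10, 5, 16, 9, 21, 11, 3, 18, 22, 23]),
  (225, 252, [0, 1, 2, 19, 4, 7, 17, 5, 15, 12, 18, 20, 9, 13, 21, 8, 16, 6, 10, 3, 11, 14, 22, 23]),
  (149, 168, [0, 1, 13, 3, 21, 6, 4, 2, 19, 14, 20, 15, 18, 11, 8, 7, 5, 10, 17, 22, 12, 16, 9, 23]),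
  (254, 230, [0, 1, 13, 3, 4, 8, 17, 15, 5, 12, 14, 11, 9, 2, 10, 7, 22, 6, 21, 19, 20, 18, 16, 23]),
  (160, 202, [0, 1, 22, 3, 18, 15, 11, 17, 19, 2, 4, 9, 8, 20, 21, 13, 5, 12, 14, 7, 16, 10, 6, 23]),
  (254, 216, [0, 1, 22, 3, 4, 15, 9, 8, 7, 6, 18, 11, 17, 16, 21, 5, 13, 12, 10, 19, 20, 14, 2, 23]),
  (157, 222, [0, 1, 16, 3, 19, 18, 6, 15, 13, 21, 8, 4, 2, 10, 9, 17, 12, 7, 22, 11, 20, 14, 5, 23]),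
  (254, 228, [0, 1, 16, 3, 22, 7, 19, 10, 11, 8, 20, 15, 14, 4, 18, 17, 13, 9, 6, 12, 21, 5, 2, 23]),
  (254, 250, [0, 1, 16, 3, 4, 7, 12, 5, 15, 17, 21, 11, 6, 22, 18, 8, 2, 9, 14, 19, 20, 10, 13, 23]),
  (234, 5, [0, 1, 2, 3, 11, 5, 10, 9, 13, 7, 6, 4, 22, 8, 14, 21, 18, 17, 16, 20, 19, 15, 12, 23]),
  (246, 5, [0, 1, 2, 3, 19, 5, 13, 16, 10, 18, 8, 20, 15, 6, 14, 12, 7, 17, 9, 4, 11, 22, 21, 23]),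
  (248, 5, [0, 1, 2, 3, 20, 5, 8, 18, 6, 16, 13, 19, 21, 10, 14, 22, 9, 17, 7, 11, 4, 12, 15, 23]),
  (161, 198, [0, 1, 5, 3, 11, 17, 12, 10, 22, 8, 15, 20, 18, 21, 14, 7, 13, 2, 6, 19, 4, 16, 9, 23]),
  (254, 228, [0, 1, 5, 3, 6, 2, 11, 21, 19, 15, 4, 10, 16, 20, 17, 7, 22, 14, 12, 13, 8, 9, 18, 23]),
  (254, 216, [0, 1, 5, 3, 4, 2, 10, 16, 13, 18, 6, 11, 21, 8, 17, 22, 7, 14, 9, 19, 20, 12, 15, 23]),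
  (137, 212, [0, 1, 17, 3, 19, 14, 6, 9, 8, 7, 10, 20, 21, 13, 5, 22, 18, 2, 16, 4, 11, 12, 15, 23]),
  (254, 246, [0, 1, 17, 3, 4, 14, 13, 18, 10, 16, 8, 11, 22, 6, 5, 21, 9, 2, 7, 19, 20, 15, 12, 23]),
  (164, 200, [0, 1, 14, 3, 7, 2, 10, 21, 6, 22, 8, 16, 11, 13, 5, 19, 12, 17, 15, 18, 9, 4, 20, 23]),
  (254, 228, [0, 1, 14, 3, 15, 17, 7, 13, 18, 8, 9, 21, 4, 16, 2, 19, 6, 5, 10, 12, 22, 20, 11, 23]),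
  (254, 236, [0, 1, 14, 3, 4, 17, 8, 9, 6, 7, 13, 11, 15, 10, 2, 12, 18, 5, 16, 19, 20, 22, 21, 23]),
  (250, 5, [0, 1, 2, 3, 13, 5, 19, 21, 11, 15, 20, 8, 18, 4, 14, 9, 22, 17, 12, 6, 10, 7, 16, 23]),
  (253, 5, [0, 1, 2, 3, 16, 5, 21, 19, 12, 20, 15, 18, 8, 22, 14, 10, 4, 17, 11, 7, 9, 6, 13, 23]),
  (179, 5, [0, 1, 2, 3, 22, 5, 7, 6, 18, 10, 9, 12, 11, 16, 14, 20, 13, 17, 8, 21, 15, 19, 4, 23]),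
  (182, 228, [0, 1, 2, 5, 9, 3, 8, 18, 7, 22, 4, 21, 19, 15, 17, 16, 20, 14, 6, 11, 13, 12, 10, 23]),
  (254, 216, [0, 1, 2, 5, 4, 3, 21, 19, 11, 10, 9, 8, 18, 13, 17, 20, 16, 14, 12, 7, 15, 6, 22, 23]),
  (224, 230, [0, 1, 2, 14, 7, 17, 4, 22, 10, 8, 18, 20, 15, 21, 3, 11, 19, 5, 9, 13, 12, 16, 6, 23]),
  (254, 238, [0, 1, 2, 14, 4, 17, 7, 6, 12, 15, 20, 18, 8, 13, 3, 9, 16, 5, 11, 21, 10, 19, 22, 23]),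
  (190, 230, [0, 1, 2, 17, 6, 14, 13, 16, 15, 8, 18, 9, 10, 19, 5, 11, 21, 3, 20, 4, 12, 22, 7, 23]),
  (254, 246, [0, 1, 2, 17, 4, 14, 19, 21, 18, 20, 15, 12, 11, 13, 5, 10, 16, 3, 8, 6, 9, 7, 22, 23])]

theorem rows_chk : chk M24Data.tabs [] rows = true := by decide +kernel

/-- Coordinates over the field with four elements of the 21 points outside the base triple
(the three base points get a dummy value). -/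
def cvL : List (List Nat) := [
  [1, 0, 0],
  [1, 0, 0],
  [0, 0, 1],
  [0, 1, 0],
  [1, 0, 0],
  [0, 1, 1],
  [1, 2, 1],
  [1, 2, 2],
  [1, 1, 1],
  [1, 3, 2],
  [1, 3, 1],
  [1, 1, 0],
  [1, 1, 3],
  [1, 0, 1],
  [0, 1, 2],
  [1, 3, 3],
  [1, 0, 2],
  [0, 1, 3],
  [1, 1, 2],
  [1, 2, 0],
  [1, 3, 0],
  [1, 2, 3],
  [1, 0, 3],
  [1, 0, 0]]

/-- Tables of the transvections `1 + c E_ij`, at position `12 i + 4 j + c`. -/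
def gtL : List (List Nat) := [
  [],
  [],
  [],
  [],
  [],
  [0, 1, 2, 11, 4, 8, 9, 15, 5, 6, 21, 3, 17, 13, 18, 7, 16, 12, 14, 20, 19, 10, 22, 23],
  [0, 1, 2, 20, 4, 15, 12, 8, 7, 17, 14, 19, 6, 13, 10, 5, 16, 9, 21, 11, 3, 18, 22, 23],
  [0, 1, 2, 19, 4, 7, 17, 5, 15, 12, 18, 20, 9, 13, 21, 8, 16, 6, 10, 3, 11, 14, 22, 23],
  [],
  [0, 1, 13, 3, 4, 8, 17, 15, 5, 12, 14, 11, 9, 2, 10, 7, 22, 6, 21, 19, 20, 18, 16, 23],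
  [0, 1, 22, 3, 4, 15, 9, 8, 7, 6, 18, 11, 17, 16, 21, 5, 13, 12, 10, 19, 20, 14, 2, 23],
  [0, 1, 16, 3, 4, 7, 12, 5, 15, 17, 21, 11, 6, 22, 18, 8, 2, 9, 14, 19, 20, 10, 13, 23],
  [],
  [0, 1, 2, 3, 11, 5, 10, 9, 13, 7, 6, 4, 22, 8, 14, 21, 18, 17, 16, 20, 19, 15, 12, 23],
  [0, 1, 2, 3, 19, 5, 13, 16, 10, 18, 8, 20, 15, 6, 14, 12, 7, 17, 9, 4, 11, 22, 21, 23],
  [0, 1, 2, 3, 20, 5, 8, 18, 6, 16, 13, 19, 21, 10, 14, 22, 9, 17, 7, 11, 4, 12, 15, 23],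
  [],
  [],
  [],
  [],
  [],
  [0, 1, 5, 3, 4, 2, 10, 16, 13, 18, 6, 11, 21, 8, 17, 22, 7, 14, 9, 19, 20, 12, 15, 23],
  [0, 1, 17, 3, 4, 14, 13, 18, 10, 16, 8, 11, 22, 6, 5, 21, 9, 2, 7, 19, 20, 15, 12, 23],
  [0, 1, 14, 3, 4, 17, 8, 9, 6, 7, 13, 11, 15, 10, 2, 12, 18, 5, 16, 19, 20, 22, 21, 23],
  [],
  [0, 1, 2, 3, 13, 5, 19, 21, 11, 15, 20, 8, 18, 4, 14, 9, 22, 17, 12, 6, 10, 7, 16, 23],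
  [0, 1, 2, 3, 16, 5, 21, 19, 12, 20, 15, 18, 8, 22, 14, 10, 4, 17, 11, 7, 9, 6, 13, 23],
  [0, 1, 2, 3, 22, 5, 7, 6, 18, 10, 9, 12, 11, 16, 14, 20, 13, 17, 8, 21, 15, 19, 4, 23],
  [],
  [0, 1, 2, 5, 4, 3, 21, 19, 11, 10, 9, 8, 18, 13, 17, 20, 16, 14, 12, 7, 15, 6, 22, 23],
  [0, 1, 2, 14, 4, 17, 7, 6, 12, 15, 20, 18, 8, 13, 3, 9, 16, 5, 11, 21, 10, 19, 22, 23],
  [0, 1, 2, 17, 4, 14, 19, 21, 18, 20, 15, 12, 11, 13, 5, 10, 16, 3, 8, 6, 9, 7, 22, 23],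
  [],
  [],
  [],
  []]

end Cfsg.Agent.Lib.Helper7.M21Data
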