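import Cfsg.Agent.Lib.Helper7.M22Fn2

set_option autoImplicit false

namespace Cfsg.Agent.Lib.Helper7.M22Cert0

open Cfsg Cfsg.Agent.Lib.Helper7.M22Fn2

set_option maxRecDepth 100000 in
theorem cert : [0, 1, 2, 3, 4, 5, 6, 7, 8, 9, 10, 11, 12, 13, 14, 15, 16, 17, 18, 19].all certRow = true := by decide +kernel

end Cfsg.Agent.Lib.Helper7.M22Cert0
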