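import Cfsg.Agent.Lib.Helper7.M22Fn2

set_option autoImplicit false

namespace Cfsg.Agent.Lib.Helper7.M22Chk3

open Cfsg Cfsg.Agent.Lib.Helper7.GolayBase Cfsg.Agent.Lib.Helper7.GolayPerm
  Cfsg.Agent.Lib.Helper7.GolayCode
  Cfsg.Agent.Lib.Helper7.QuartetStab Cfsg.Agent.Lib.Helper7.L23Base
  Cfsg.Agent.Lib.Helper7.L23Norm Cfsg.Agent.Lib.Helper7.M22Data Cfsg.Agent.Lib.Helper7.M22TL
  Cfsg.Agent.Lib.Helper7.M22Fn Cfsg.Agent.Lib.Helper7.M22Data2 Cfsg.Agent.Lib.Helper7.M22Fn2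

set_option maxRecDepth 100000

theorem Rp_eq : [R1p, R2p, R3p, R4p, R5p, R6p] = [pk R1, pk R2, pk R3, pk R4, pk R5, pk R6] := by
  decide +kernel

theorem R_lt : ∀ r ∈ [R1, R2, R3, R4, R5, R6], (∀ y ∈ r, y < 32) ∧ r.getD 1 0 < 24 ∧
    r.getD 2 0 < 24 ∧ r.getD 3 0 < 24 := by decide +kernel

theorem SLbig_eq : (List.range 128).map (getP SLbig) = SL.map pk := by decide +kernel

theorem TLbig_eq : (List.range 3465).map (getP TLbig) = TL.map pk := by decide +kernel

theorem RLp_eq : RLp = [0, pk R1, pk R2, pk R3, pk R4, pk R5] := by decide +kernel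

theorem CERT_length : ∀ i < 60, (CERT.getD i []).length = 128 := by decide +kernel

theorem CNT_eq : ∀ i < 60, ∀ j < 5,
    (CERT.getD i []).countP (fun c => c.1 == j + 1) = (CNT.getD i []).getD j 0 := by
  decide +kernel

theorem N_dvd : ∀ i < 5, ∀ j < 5,
    (DC.map (fun d => (CNT.getD d.1 []).getD i 0 * (CNT.getD d.1 []).getD j 0)).sum % 256 = 0 := by
  decide +kernel

/-- The table of a product of a Sylow element and a coset representative. -/
def pairT (m k : Nat) : List Nat := tmul (SL.getD m idT) (TL.getD k idT)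

theorem C1_pow : ∀ e ∈ C1L, powT e 5 = idT := by decide +kernel

theorem C2_pow : ∀ e ∈ C2L, powT e 7 = idT := by decide +kernel

theorem C4_pow : ∀ e ∈ C4L, powT e 11 = idT := by decide +kernel

/-- Is the set of fixed indices the octad `O6`? -/
def fixT (e : List Nat) : Bool := (List.range 24).all (fun i => (e.getD i 0 == i) == O6.testBit i)

theorem C6_spec : ∀ e ∈ C6L, powT e 6 = idT ∧ (e = idT ∨ tmul e e ≠ idT ∨ fixT e = true) := by
  decide +kernel

theorem conj3_chk : ∀ c ∈ conj3, tmul (pairT c.2.1 c.2.2) R6 = tmul c.1 (pairT c.2.1 c.2.2) ∧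
    c.2.2 < 3465 := by
  decide +kernel

theorem conj3_cover : ∀ e ∈ C6L, e = idT ∨ powT e 3 ≠ idT ∨ e ∈ conj3.map (fun c => c.1) := by
  decide +kernel

theorem z5_chk : tmul (pairT 100 823) R1 = tmul (tmul R1 R1) (pairT 100 823) := by decide +kernel

theorem z7_chk : tmul (pairT 114 1262) R2 = tmul (tmul R2 R2) (pairT 114 1262) := by decide +kernel

theorem z11_chk : tmul (pairT 125 1986) R4 = tmul (powT R4 3) (pairT 125 1986) := by
  decide +kernel

theorem w0_chk : (∀ i < 24, O6.testBit i = true → (pairT 0 3146).getD i 0 = i) ∧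
    tmul (pairT 0 3146) R6 ≠ tmul R6 (pairT 0 3146) := by decide +kernel

theorem u6_chk : tmul (pairT 98 3102) (pairT 98 3102) = idT ∧ pairT 98 3102 ≠ idT ∧
    tmul (pairT 98 3102) R6 = tmul R6 (pairT 98 3102) := by decide +kernel

theorem R_ord : powT R1 5 = idT ∧ R1 ≠ idT ∧ powT R2 7 = idT ∧ R2 ≠ idT ∧ tmul R2 R3 = idT ∧
    powT R4 11 = idT ∧ R4 ≠ idT ∧ tmul R4 R5 = idT ∧ powT R6 3 = idT ∧ R6 ≠ idT := by
  decide +kernel

theorem O6_mem : O6 ∈ GolayRigid.octadList :=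
  GolayRigid.mem_octadList.mpr ⟨inCode_sound (by decide +kernel), by decide +kernel⟩

theorem O6_bits : O6.testBit 0 = true ∧ O6.testBit 23 = true := by decide +kernel

end Cfsg.Agent.Lib.Helper7.M22Chk3
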