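import Mathlib
import Cfsg.Agent.Lib.Helper68.MixStmt

set_option autoImplicit false

/-! S4017 piece CQY (second seat): `p`-elements of `C = C_G(Q)` commute with `y` (from NTOP).

`N = N_G(Q)` is a proper subgroup of even order, so `|N| = 2^a p^k`; a Sylow `p`-subgroup `P` of
`N` containing `y` is a complement of `Q` in `N`.  Write `x = q w` (`q ∈ Q`, `w ∈ P`); `x`
commutes with `q`, so `q = x w⁻¹` has order a power of `p` and a power of `2`: `q = 1`, `x ∈ P`.
`P` lies in an abelian Sylow `p`-subgroup of `G`. -/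

namespace Cfsg.Agent.Lib.Helper7.MixCQY

open Subgroup Cfsg.Agent.Lib.Helper68.MixStmt

universe u

theorem main (hNT : NTOP.{u}) : CQY.{u} := by
  classical
  intro G _ _ p a Q y hB x hxC hxp
  have hp := hB.hp
  have : Fact p.Prime := ⟨hp⟩
  have hp2 : p ≠ 2 := by
    intro h
    have h1 := hB.hpa
    have h2 := hB.ha
    rw [h] at h1
    have h4 : 4 ∣ 2 ^ a := by
      calc 4 = 2 ^ 2 := by norm_num
        _ ∣ 2 ^ a := pow_dvd_pow 2 h2
    omega
  have hNtop : normalizer (Q : Set G) ≠ ⊤ := hNT G p a Q y hB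
  have hQN : Q ≤ normalizer (Q : Set G) := Subgroup.le_normalizer
  have hxN : x ∈ normalizer (Q : Set G) := Subgroup.centralizer_le_normalizer _ hxC
  have hyN : y ∈ normalizer (Q : Set G) := hB.hyQ
  have h2aN : 2 ^ a ∣ Nat.card ↥(normalizer (Q : Set G)) := by
    have h1 : Nat.card Q ∣ Nat.card ↥(normalizer (Q : Set G)) := Subgroup.card_dvd_of_le hQN
    rwa [hB.hQ] at h1
  have h2N : 2 ∣ Nat.card ↥(normalizer (Q : Set G)) :=
    dvd_trans (dvd_pow_self 2 (by have := hB.ha; omega)) h2aN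
  have hPQ : PQNum p 2 (Nat.card ↥(normalizer (Q : Set G))) := hB.hE _ hNtop h2N
  obtain ⟨m', hm'⟩ := h2aN
  have hNpos : 0 < Nat.card ↥(normalizer (Q : Set G)) := Nat.card_pos
  have hm'0 : m' ≠ 0 := by
    rintro rfl
    rw [mul_zero] at hm'
    omega
  have hm'p : ∀ {d : ℕ}, d.Prime → d ∣ m' → d = p := by
    intro d hd hdm
    rcases hPQ d hd (hm' ▸ Dvd.dvd.mul_left hdm _) with h | h
    · exact h
    · exfalso
      subst h
      have h1 : 2 ^ (a + 1) ∣ Nat.card ↥(normalizer (Q : Set G)) := by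
        rw [hm', pow_succ]; exact Nat.mul_dvd_mul_left _ hdm
      have h2 : 2 ^ (a + 1) ∣ Nat.card G :=
        dvd_trans h1 (Subgroup.card_subgroup_dvd_card _)
      have h3 := (Nat.Prime.pow_dvd_iff_le_factorization Nat.prime_two Nat.card_pos.ne').1 h2
      rw [hB.hfac] at h3
      omega
  obtain ⟨k, hk⟩ : ∃ k, m' = p ^ k := ⟨_, Nat.eq_prime_pow_of_unique_prime_dvd hm'0 hm'p⟩
  subst hk
  -- a Sylow `p`-subgroup of `N` containing `y`
  have hy'p : IsPGroup p (zpowers (⟨y, hyN⟩ : ↥(normalizer (Q : Set G)))) := by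
    obtain ⟨j, hj⟩ := hB.hy
    apply IsPGroup.of_card (n := j)
    rw [Nat.card_zpowers, ← hj]
    exact Subgroup.orderOf_mk y hyN
  obtain ⟨P, hP⟩ := hy'p.exists_le_sylow
  have hy'P : (⟨y, hyN⟩ : ↥(normalizer (Q : Set G))) ∈ P := hP (mem_zpowers _)
  have hcardP : Nat.card P = p ^ k := by
    obtain ⟨j, hj⟩ := (IsPGroup.iff_card.mp P.isPGroup')
    have hidx : ¬ p ∣ (P : Subgroup ↥(normalizer (Q : Set G))).index := P.not_dvd_index
    have hmul : Nat.card P * (P : Subgroup ↥(normalizer (Q : Set G))).index = 2 ^ a * p ^ k := by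
      rw [← hm']
      exact Subgroup.card_mul_index _
    rw [hj] at hmul ⊢
    have hcop1 : Nat.Coprime (p ^ k) ((P : Subgroup ↥(normalizer (Q : Set G))).index) :=
      Nat.Coprime.pow_left _ ((Nat.Prime.coprime_iff_not_dvd hp).2 hidx)
    have hcop2 : Nat.Coprime (p ^ j) (2 ^ a) :=
      Nat.Coprime.pow _ _ ((Nat.coprime_primes hp Nat.prime_two).2 hp2)
    have hd1 : p ^ k ∣ p ^ j := hcop1.dvd_of_dvd_mul_right (hmul ▸ dvd_mul_left _ _)
    have hd2 : p ^ j ∣ p ^ k := hcop2.dvd_of_dvd_mul_left (hmul ▸ dvd_mul_right _ _)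
    exact Nat.dvd_antisymm hd2 hd1
  have hcardQ' : Nat.card ↥(Q.subgroupOf (normalizer (Q : Set G))) = 2 ^ a := by
    rw [← hB.hQ]
    exact Nat.card_congr (Subgroup.subgroupOfEquivOfLe hQN).toEquiv
  have hcompl : IsComplement' (Q.subgroupOf (normalizer (Q : Set G)))
      (P : Subgroup ↥(normalizer (Q : Set G))) := by
    apply isComplement'_of_coprime
    · rw [hcardQ', hm']
      congr 1
    · rw [hcardQ']
      have h1 : Nat.card ↥(P : Subgroup ↥(normalizer (Q : Set G))) = p ^ k := hcardP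
      rw [h1]
      exact Nat.Coprime.pow _ _ ((Nat.coprime_primes Nat.prime_two hp).2 (Ne.symm hp2))
  obtain ⟨⟨q, w⟩, hqw, -⟩ := hcompl.existsUnique (⟨x, hxN⟩ : ↥(normalizer (Q : Set G)))
  have hqQ : ((q : ↥(normalizer (Q : Set G))) : G) ∈ Q := Subgroup.mem_subgroupOf.mp q.2
  have hqx : ((q : ↥(normalizer (Q : Set G))) : G) * x = x * ((q : ↥(normalizer (Q : Set G))) : G) :=
    Subgroup.mem_centralizer_iff.mp hxC _ hqQ
  have hqwG : ((q : ↥(normalizer (Q : Set G))) : G) * ((w : ↥(normalizer (Q : Set G))) : G) = x :=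
    congrArg Subtype.val hqw
  have hw1 : ((w : ↥(normalizer (Q : Set G))) : G) ^ (p ^ k) = 1 := by
    have h1 : w ^ Nat.card ↥(P : Subgroup ↥(normalizer (Q : Set G))) = 1 := pow_card_eq_one'
    have h1' : Nat.card ↥(P : Subgroup ↥(normalizer (Q : Set G))) = p ^ k := hcardP
    rw [h1'] at h1
    have h2 := congrArg (fun z : ↥(P : Subgroup ↥(normalizer (Q : Set G))) =>
      ((z : ↥(normalizer (Q : Set G))) : G)) h1
    simpa using h2
  obtain ⟨i, hi⟩ := hxp
  have hx1 : x ^ (p ^ i) = 1 := by rw [← hi]; exact pow_orderOf_eq_one x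
  have hq1 : ((q : ↥(normalizer (Q : Set G))) : G) ^ (p ^ (i + k)) = 1 := by
    have hqe : ((q : ↥(normalizer (Q : Set G))) : G) =
        x * ((w : ↥(normalizer (Q : Set G))) : G)⁻¹ := by rw [← hqwG]; group
    have hwe : ((w : ↥(normalizer (Q : Set G))) : G) =
        ((q : ↥(normalizer (Q : Set G))) : G)⁻¹ * x := by rw [← hqwG]; group
    have hc0 : Commute x ((q : ↥(normalizer (Q : Set G))) : G) := hqx.symm
    have hc1 : Commute x (((w : ↥(normalizer (Q : Set G))) : G)⁻¹) := by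
      rw [hwe]
      exact ((hc0.inv_right).mul_right (Commute.refl x)).inv_right
    rw [hqe, hc1.mul_pow, pow_add, pow_mul, hx1, one_pow, inv_pow, pow_mul', hw1, one_pow]
    simp
  have hq_one : ((q : ↥(normalizer (Q : Set G))) : G) = 1 := by
    have h1 : orderOf ((q : ↥(normalizer (Q : Set G))) : G) ∣ p ^ (i + k) :=
      orderOf_dvd_of_pow_eq_one hq1
    have h2 : orderOf ((q : ↥(normalizer (Q : Set G))) : G) ∣ 2 ^ a := by
      have := Subgroup.orderOf_dvd_natCard Q hqQ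
      rwa [hB.hQ] at this
    have hcop : Nat.Coprime (p ^ (i + k)) (2 ^ a) :=
      Nat.Coprime.pow _ _ ((Nat.coprime_primes hp Nat.prime_two).2 hp2)
    have h3 : orderOf ((q : ↥(normalizer (Q : Set G))) : G) ∣ 1 := by
      have := Nat.dvd_gcd h1 h2
      rwa [hcop.gcd_eq_one] at this
    exact orderOf_eq_one_iff.1 (Nat.dvd_one.1 h3)
  have hxw : x = ((w : ↥(normalizer (Q : Set G))) : G) := by
    rw [← hqwG, hq_one, one_mul]
  have hx'P : (⟨x, hxN⟩ : ↥(normalizer (Q : Set G))) ∈ P := by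
    have h1 : (⟨x, hxN⟩ : ↥(normalizer (Q : Set G))) = (w : ↥(normalizer (Q : Set G))) :=
      Subtype.ext hxw
    rw [h1]
    exact w.2
  -- an abelian Sylow `p`-subgroup of `G` containing the image of `P`
  have hmapP : IsPGroup p ((P : Subgroup ↥(normalizer (Q : Set G))).map
      (normalizer (Q : Set G)).subtype) := P.isPGroup'.map _
  obtain ⟨S, hS⟩ := hmapP.exists_le_sylow
  have hxS : x ∈ S := hS (Subgroup.mem_map.mpr ⟨⟨x, hxN⟩, hx'P, rfl⟩)
  have hyS : y ∈ S := hS (Subgroup.mem_map.mpr ⟨⟨y, hyN⟩, hy'P, rfl⟩)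
  have hcomm := (hB.hab S).is_comm.comm (⟨x, hxS⟩ : S) (⟨y, hyS⟩ : S)
  exact congrArg Subtype.val hcomm

end Cfsg.Agent.Lib.Helper7.MixCQY
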