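import Mathlib
import Cfsg.Agent.Lib.Helper68.MixStmt

set_option autoImplicit false

/-! S4017 piece TRANS (second seat): every `n ∈ N \ C` is transitive on `Q#` (from NCENT).

The permutation `σ` induced by `n` on `Q#` (a set with `p` elements) has the property that a
power with a fixed point is trivial (NCENT); a power `τ` of prime order `ℓ` has no fixed point,
so `ℓ ∣ p`, `ℓ = p`, and `τ` is a `p`-cycle. -/

namespace Cfsg.Agent.Lib.Helper7.MixTRANS

open Subgroup Cfsg.Agent.Lib.Helper68.MixStmt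

universe u

theorem card_nonone {G : Type u} [Group G] [Finite G] (C : Subgroup G) :
    Nat.card ↥({s : G | s ∈ C ∧ s ≠ 1} : Set G) = Nat.card ↥C - 1 := by
  have h1 : ({s : G | s ∈ C ∧ s ≠ 1} : Set G) = (C : Set G) \ {1} := by
    ext s; simp
  rw [Nat.card_coe_set_eq, h1, Set.ncard_sdiff_singleton_of_mem (C.one_mem)]
  rfl

theorem main (hNC : NCENT.{u}) : TRANS.{u} := by
  classical
  intro G _ _ p a Q y hB n hn hnC s hs hs1 t ht ht1
  have hconj : ∀ (k : ℕ) (x : G), x ∈ Q → n ^ k * x * (n ^ k)⁻¹ ∈ Q := by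
    intro k x hx
    exact (Subgroup.mem_normalizer_iff.mp (pow_mem hn k) x).mp hx
  have hconj1 : ∀ x : G, x ∈ Q → n * x * n⁻¹ ∈ Q := by
    intro x hx
    exact (Subgroup.mem_normalizer_iff.mp hn x).mp hx
  have hconj1' : ∀ x : G, x ∈ Q → n⁻¹ * x * n ∈ Q := by
    intro x hx
    have h := (Subgroup.mem_normalizer_iff.mp (inv_mem hn) x).mp hx
    simpa using h
  let X : Type u := ↥({x : G | x ∈ Q ∧ x ≠ 1} : Set G)
  letI : Fintype X := Fintype.ofFinite X
  have hcardX : Fintype.card X = p := by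
    rw [← Nat.card_eq_fintype_card]
    have h1 := card_nonone Q
    have h2 := hB.hQ
    have h3 := hB.hpa
    show Nat.card ↥({x : G | x ∈ Q ∧ x ≠ 1} : Set G) = p
    rw [h1, h2]
    omega
  let σ : Equiv.Perm X :=
    { toFun := fun x => ⟨n * x.1 * n⁻¹, hconj1 x.1 x.2.1, fun h => x.2.2 (by
        have h' : x.1 = n⁻¹ * (n * x.1 * n⁻¹) * n := by group
        rw [h', h]; group)⟩
      invFun := fun x => ⟨n⁻¹ * x.1 * n, hconj1' x.1 x.2.1, fun h => x.2.2 (by
        have h' : x.1 = n * (n⁻¹ * x.1 * n) * n⁻¹ := by group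
        rw [h', h]; group)⟩
      left_inv := fun x => Subtype.ext (by
        show n⁻¹ * (n * x.1 * n⁻¹) * n = x.1
        group)
      right_inv := fun x => Subtype.ext (by
        show n * (n⁻¹ * x.1 * n) * n⁻¹ = x.1
        group) }
  have hσ1 : ∀ x : X, ((σ x : X) : G) = n * x.1 * n⁻¹ := fun x => rfl
  have hpow : ∀ (k : ℕ) (x : X), (((σ ^ k) x : X) : G) = n ^ k * x.1 * (n ^ k)⁻¹ := by
    intro k
    induction k with
    | zero => intro x; simp
    | succ k ih =>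
      intro x
      rw [pow_succ', Equiv.Perm.mul_apply, hσ1, ih x, pow_succ']
      group
  -- a power with a fixed point is trivial
  have hfix : ∀ k : ℕ, (∃ x : X, (σ ^ k) x = x) → σ ^ k = 1 := by
    intro k ⟨x, hx⟩
    have h1 : n ^ k * x.1 * (n ^ k)⁻¹ = x.1 := by
      rw [← hpow k x, hx]
    have h2 : n ^ k * x.1 = x.1 * n ^ k := by
      have h3 : n ^ k * x.1 = (n ^ k * x.1 * (n ^ k)⁻¹) * n ^ k := by group
      rw [h3, h1]
    have h4 : n ^ k ∈ centralizer (Q : Set G) :=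
      hNC G p a Q y hB (n ^ k) (pow_mem hn k) x.1 x.2.1 x.2.2 h2
    ext z
    rw [hpow k z, Equiv.Perm.one_apply]
    have h5 : z.1 * n ^ k = n ^ k * z.1 := Subgroup.mem_centralizer_iff.mp h4 z.1 z.2.1
    rw [← h5]
    group
  -- `σ ≠ 1`
  have hσne : σ ≠ 1 := by
    intro h
    apply hnC
    rw [Subgroup.mem_centralizer_iff]
    intro x hx
    by_cases hx1 : x = 1
    · rw [hx1]; simp
    · have h1 : σ ⟨x, hx, hx1⟩ = ⟨x, hx, hx1⟩ := by rw [h]; rfl
      have h2 : n * x * n⁻¹ = x := congrArg Subtype.val h1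
      have h3 : n * x = (n * x * n⁻¹) * n := by group
      rw [h3, h2]
  have hd1 : orderOf σ ≠ 1 := fun h => hσne (orderOf_eq_one_iff.mp h)
  have hd0 : orderOf σ ≠ 0 := (orderOf_pos σ).ne'
  set ℓ := (orderOf σ).minFac with hℓ
  have hℓp : ℓ.Prime := Nat.minFac_prime hd1
  have hℓd : ℓ ∣ orderOf σ := Nat.minFac_dvd _
  set j := orderOf σ / ℓ with hj
  have hτord : orderOf (σ ^ j) = ℓ := orderOf_pow_orderOf_div hd0 hℓd
  have hτne : σ ^ j ≠ 1 := by
    intro h
    rw [h, orderOf_one] at hτord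
    exact hℓp.one_lt.ne hτord
  have hnofix : ∀ x : X, (σ ^ j) x ≠ x := fun x hx => hτne (hfix j ⟨x, hx⟩)
  haveI : Fact ℓ.Prime := ⟨hℓp⟩
  have hℓdvd : ℓ ∣ Fintype.card X := by
    by_contra hnd
    have hpw : (σ ^ j) ^ ℓ ^ 1 = 1 := by
      rw [pow_one, ← hτord, pow_orderOf_eq_one]
    obtain ⟨x, hx⟩ := Equiv.Perm.exists_fixed_point_of_prime hnd hpw
    exact hnofix x hx
  have hℓeq : ℓ = p := by
    rw [hcardX] at hℓdvd
    exact (Nat.prime_dvd_prime_iff_eq hℓp hB.hp).1 hℓdvd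
  have hcyc : (σ ^ j).IsCycle := by
    apply Equiv.Perm.isCycle_of_prime_order''
    · rw [hcardX]; exact hB.hp
    · rw [hτord, hℓeq, hcardX]
  obtain ⟨i, hi⟩ := hcyc.exists_pow_eq (hnofix ⟨s, hs, hs1⟩) (hnofix ⟨t, ht, ht1⟩)
  refine ⟨j * i, ?_⟩
  have h1 : (((σ ^ (j * i)) ⟨s, hs, hs1⟩ : X) : G) = t := by
    rw [pow_mul, hi]
  rw [hpow (j * i) ⟨s, hs, hs1⟩] at h1
  exact h1

end Cfsg.Agent.Lib.Helper7.MixTRANS
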