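import Mathlib
import Cfsg.Agent.Lib.Helper18.ReeMultStmt

set_option autoImplicit false

/-! S2113 piece LMAP (second seat): `lft s₁ u v` is a lift of `x 0 u v`. -/

namespace Cfsg.Agent.Lib.Helper7.ReeMultLMAP

open Cfsg.Agent.Lib.Helper18.ReeMultStmt
open scoped commutatorElement

universe u v w

theorem main : LMAP.{u, v, w} := by
  intro Γ _ G _ K _ _ m φ x e σ E s₁ hs0 hs3 u v
  have hP := E.par
  unfold lft
  rw [map_cm]
  have hψ1 : φ s₁ ^ 3 / s₁ - 1 ≠ 0 := by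
    intro h
    have h1 : φ s₁ ^ 3 = s₁ := by
      have h0 : φ s₁ ^ 3 / s₁ = 1 := sub_eq_zero.mp h
      exact (div_eq_one_iff_eq hs0).mp h0
    apply hs3
    have h2 := hP.phi3 s₁
    calc s₁ ^ 3 = (φ (φ s₁) ^ 3) ^ 3 := by rw [h2]
      _ = φ (φ s₁ ^ 3) ^ 3 := by rw [map_pow]
      _ = s₁ := by rw [h1]; exact h1
  have hs1 : s₁ - 1 ≠ 0 := by
    intro h
    have h0 : s₁ = 1 := sub_eq_zero.mp h
    apply hs3
    rw [h0]; norm_num
  have hconj : ∀ a b : K, e s₁ * x 0 a b * (e s₁)⁻¹ = x 0 (φ s₁ ^ 3 / s₁ * a) (s₁ * b) := by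
    intro a b
    have h := hP.e_x s₁ hs0 0 a b
    rw [mul_zero] at h
    rw [h]; group
  have hmul : ∀ a b c d : K, x 0 a b * x 0 c d = x 0 (a + c) (b + d) := by
    intro a b c d
    rw [hP.x_mul]
    congr 1 <;> ring
  have hcomm : ∀ a b : K, ⁅e s₁, x 0 a b⁆ =
      x 0 ((φ s₁ ^ 3 / s₁ - 1) * a) ((s₁ - 1) * b) := by
    intro a b
    rw [commutatorElement_def, hconj]
    have h1 : x 0 (φ s₁ ^ 3 / s₁ * a) (s₁ * b) =
        x 0 ((φ s₁ ^ 3 / s₁ - 1) * a) ((s₁ - 1) * b) * x 0 a b := by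
      rw [hmul]
      congr 1 <;> ring
    rw [h1]; group
  rw [hcomm]
  congr 1
  · rw [← mul_div_assoc]
    exact mul_div_cancel_left₀ u hψ1
  · rw [← mul_div_assoc]
    exact mul_div_cancel_left₀ v hs1

end Cfsg.Agent.Lib.Helper7.ReeMultLMAP
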