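import Mathlib
import Cfsg.Agent.Lib.Helper18.ReeMultStmt

set_option autoImplicit false

/-! S2113 piece ZU0 (second seat): lifts of `x 0 0 v` and `x 0 u 0` commute.

`B v u := cm (x 0 0 v) (x 0 u 0)` is additive in `v` and invariant under `e(-1)`, which sends
`(v, u)` to `(-v, u)`; so `B² = 1`, and `B³ = B(3v, u) = 1`. -/

namespace Cfsg.Agent.Lib.Helper7.ReeMultZU0

open Cfsg.Agent.Lib.Helper18.ReeMultStmt
open scoped commutatorElement

universe u v w

theorem main : ZU0.{u, v, w} := by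
  intro Γ _ G _ K _ _ m φ x e σ E v u
  have hP := E.par
  have hs := E.surj
  have hc := E.cen
  have hadd : ∀ a b : K, x 0 0 a * x 0 0 b = x 0 0 (a + b) := by
    intro a b
    rw [hP.x_mul]
    congr 1 <;> ring
  have hcomm : ∀ a b : K, x 0 0 a * x 0 b 0 = x 0 b 0 * x 0 0 a := by
    intro a b
    rw [hP.x_mul, hP.x_mul]
    congr 1 <;> ring
  -- additivity in the first argument
  have hBadd : ∀ a b : K, cm σ hs (x 0 0 (a + b)) (x 0 u 0) =
      cm σ hs (x 0 0 a) (x 0 u 0) * cm σ hs (x 0 0 b) (x 0 u 0) := by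
    intro a b
    rw [← hadd a b]
    exact cm_mul_left_c σ hs hc (hcomm b u)
  have hB0 : cm σ hs (x 0 0 0) (x 0 u 0) = 1 := by
    have h1 := hBadd 0 0
    rw [add_zero] at h1
    have h2 : cm σ hs (x 0 0 0) (x 0 u 0) * cm σ hs (x 0 0 0) (x 0 u 0) =
        cm σ hs (x 0 0 0) (x 0 u 0) * 1 := by rw [mul_one]; exact h1.symm
    exact mul_left_cancel h2
  -- invariance under `e (-1)`
  have hm1 : (-1 : K) ≠ 0 := neg_ne_zero.mpr one_ne_zero
  have hφm1 : φ (-1 : K) = -1 := by rw [map_neg, map_one]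
  have hinv : ∀ a : K, cm σ hs (x 0 0 a) (x 0 u 0) = cm σ hs (x 0 0 (-a)) (x 0 u 0) := by
    intro a
    have h1 := conj_cm σ hs hc (sec σ hs (e (-1))) (x 0 0 a) (x 0 u 0)
    rw [sec_spec] at h1
    have h2 : sec σ hs (e (-1)) * cm σ hs (x 0 0 a) (x 0 u 0) * (sec σ hs (e (-1)))⁻¹ =
        cm σ hs (x 0 0 a) (x 0 u 0) := by
      rw [cm_central σ hs hc (hcomm a u)]
      group
    rw [h2] at h1
    have h3 : e (-1) * x 0 0 a * (e (-1))⁻¹ = x 0 0 (-a) := by
      have h := hP.e_x (-1) hm1 0 0 a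
      rw [mul_zero, mul_zero, neg_one_mul] at h
      rw [h]; group
    have h4 : e (-1) * x 0 u 0 * (e (-1))⁻¹ = x 0 u 0 := by
      have h := hP.e_x (-1) hm1 0 u 0
      rw [mul_zero, mul_zero, hφm1] at h
      have h5 : ((-1 : K)) ^ 3 / (-1) * u = u := by
        have h6 : ((-1 : K)) ^ 3 / (-1) = 1 := by
          rw [show ((-1 : K)) ^ 3 = -1 by ring]
          exact div_self hm1
        rw [h6, one_mul]
      rw [h5] at h
      rw [h]; group
    rw [h3, h4] at h1
    exact h1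
  have hB2 : cm σ hs (x 0 0 v) (x 0 u 0) * cm σ hs (x 0 0 v) (x 0 u 0) = 1 := by
    have h1 := hBadd (-v) v
    rw [neg_add_cancel, hB0, ← hinv v] at h1
    exact h1.symm
  have hB3 : cm σ hs (x 0 0 v) (x 0 u 0) * cm σ hs (x 0 0 v) (x 0 u 0) *
      cm σ hs (x 0 0 v) (x 0 u 0) = 1 := by
    have h1 := hBadd (v + v) v
    rw [hBadd v v] at h1
    have h2 : v + v + v = 0 := by
      have h3 : v + v + v = 3 * v := by ring
      rw [h3, hP.char3, zero_mul]
    rw [h2, hB0] at h1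
    exact h1.symm
  rw [hB2, one_mul] at hB3
  exact hB3

end Cfsg.Agent.Lib.Helper7.ReeMultZU0
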