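import Mathlib
import Cfsg.Prelude.Def_Spor_Ru

/-!
Data for the Rudvalis lattice `Cfsg.Spor.ruLattice` (scaled lattice 2Λ inside ℤ[i]²⁸):
a pair of 28 × 28 Gaussian matrices `gTab`, `gpTab` that are dual to each other modulo 4
(`Σ_k conj(G_k(q)) G'_k(p) ≡ δ_pq`), and exponents `mTab` such that the lattice is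
`{x | ∀ k, (1+i)^(m_k) ∣ Σ_p x_p conj(G_k(p))}`; plus the supports of the minimal words
of the two smallest residue codes.
-/

namespace Cfsg.Agent.Lib.Helper7.RuData

open Cfsg Cfsg.Spor

/-- exponents of the elementary divisors, sorted. -/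
def mTab : List ℕ := [0, 0, 0, 0, 0, 0, 0, 0, 0, 1, 2, 2, 2, 2, 2, 2, 2, 2, 3, 4, 4, 4, 4, 4, 4, 4, 4, 4]

/-- the check vectors `G_k` (rows). -/
def gTab : List (List GaussianInt) := [
  [⟨1, 0⟩, ⟨0, 0⟩, ⟨0, 0⟩, ⟨0, 0⟩, ⟨0, 0⟩, ⟨0, 0⟩, ⟨0, 0⟩, ⟨0, 0⟩, ⟨0, 0⟩, ⟨0, 0⟩, ⟨0, 0⟩, ⟨0, 0⟩, ⟨0, 0⟩, ⟨0, 0⟩, ⟨0, 0⟩, ⟨0, 0⟩, ⟨0, 0⟩, ⟨0, 0⟩, ⟨0, 0⟩, ⟨0, 0⟩, ⟨0, 0⟩, ⟨0, 0⟩, ⟨0, 0⟩, ⟨0, 0⟩, ⟨0, 0⟩, ⟨0, 0⟩, ⟨0, 0⟩, ⟨0, 0⟩],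
  [⟨0, 1⟩, ⟨1, 0⟩, ⟨0, 0⟩, ⟨0, 0⟩, ⟨0, 0⟩, ⟨0, 0⟩, ⟨0, 0⟩, ⟨0, 0⟩, ⟨0, 0⟩, ⟨0, 0⟩, ⟨0, 0⟩, ⟨0, 0⟩, ⟨0, 0⟩, ⟨0, 0⟩, ⟨0, 0⟩, ⟨0, 0⟩, ⟨0, 0⟩, ⟨0, 0⟩, ⟨0, 0⟩, ⟨0, 0⟩, ⟨0, 0⟩, ⟨0, 0⟩, ⟨0, 0⟩, ⟨0, 0⟩, ⟨0, 0⟩, ⟨0, 0⟩, ⟨0, 0⟩, ⟨0, 0⟩],
  [⟨0, 0⟩, ⟨-1, 0⟩, ⟨1, 0⟩, ⟨0, 0⟩, ⟨0, 0⟩, ⟨0, 0⟩, ⟨0, 0⟩, ⟨0, 0⟩, ⟨0, 0⟩, ⟨0, 0⟩, ⟨0, 0⟩, ⟨0, 0⟩, ⟨0, 0⟩, ⟨0, 0⟩, ⟨0, 0⟩, ⟨0, 0⟩, ⟨0, 0⟩, ⟨0, 0⟩, ⟨0, 0⟩, ⟨0, 0⟩, ⟨0, 0⟩, ⟨0, 0⟩, ⟨0, 0⟩, ⟨0, 0⟩, ⟨0, 0⟩, ⟨0, 0⟩, ⟨0, 0⟩, ⟨0, 0⟩],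
  [⟨-2, 0⟩, ⟨-2, 0⟩, ⟨-2, -2⟩, ⟨0, 0⟩, ⟨0, 0⟩, ⟨0, 0⟩, ⟨0, 0⟩, ⟨0, 0⟩, ⟨0, 0⟩, ⟨0, 0⟩, ⟨1, 0⟩, ⟨0, 0⟩, ⟨0, 0⟩, ⟨0, 0⟩, ⟨0, 0⟩, ⟨0, 0⟩, ⟨0, 0⟩, ⟨0, 0⟩, ⟨0, 0⟩, ⟨0, 0⟩, ⟨0, 0⟩, ⟨0, 0⟩, ⟨0, 0⟩, ⟨0, 0⟩, ⟨0, 0⟩, ⟨0, 0⟩, ⟨0, 0⟩, ⟨0, 0⟩],
  [⟨-2, -2⟩, ⟨-2, -1⟩, ⟨0, -1⟩, ⟨0, 0⟩, ⟨0, 0⟩, ⟨0, 0⟩, ⟨1, 0⟩, ⟨0, 0⟩, ⟨0, 0⟩, ⟨0, 0⟩, ⟨1, -1⟩, ⟨0, 0⟩, ⟨0, 0⟩, ⟨0, 0⟩, ⟨0, 0⟩, ⟨0, 0⟩, ⟨0, 0⟩, ⟨0, 0⟩, ⟨0, 0⟩, ⟨0, 0⟩, ⟨0, 0⟩, ⟨0, 0⟩, ⟨0, 0⟩, ⟨0, 0⟩, ⟨0, 0⟩, ⟨0, 0⟩, ⟨0, 0⟩, ⟨0, 0⟩],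
  [⟨-2, -2⟩, ⟨-2, 0⟩, ⟨-1, -2⟩, ⟨0, 0⟩, ⟨0, 0⟩, ⟨0, 0⟩, ⟨1, -2⟩, ⟨0, 0⟩, ⟨0, 0⟩, ⟨0, 0⟩, ⟨1, -1⟩, ⟨0, 0⟩, ⟨0, 0⟩, ⟨0, 0⟩, ⟨0, 0⟩, ⟨0, 0⟩, ⟨0, 0⟩, ⟨0, 0⟩, ⟨0, 0⟩, ⟨0, 0⟩, ⟨0, 0⟩, ⟨0, 0⟩, ⟨0, 0⟩, ⟨0, 0⟩, ⟨1, 0⟩, ⟨0, 0⟩, ⟨0, 0⟩, ⟨0, 0⟩],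
  [⟨-2, -1⟩, ⟨1, 1⟩, ⟨0, 1⟩, ⟨-2, 1⟩, ⟨0, 0⟩, ⟨0, 0⟩, ⟨-2, -1⟩, ⟨1, 0⟩, ⟨0, 0⟩, ⟨0, 0⟩, ⟨0, -1⟩, ⟨0, 0⟩, ⟨0, 0⟩, ⟨0, 0⟩, ⟨0, 0⟩, ⟨0, 0⟩, ⟨0, 0⟩, ⟨0, 0⟩, ⟨0, 0⟩, ⟨0, 0⟩, ⟨0, 0⟩, ⟨0, 0⟩, ⟨0, 0⟩, ⟨0, 0⟩, ⟨0, -1⟩, ⟨0, 0⟩, ⟨0, 0⟩, ⟨0, 0⟩],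
  [⟨-2, 1⟩, ⟨-1, 1⟩, ⟨-1, -2⟩, ⟨0, 1⟩, ⟨0, 0⟩, ⟨0, 0⟩, ⟨-2, -1⟩, ⟨-2, -1⟩, ⟨0, 0⟩, ⟨0, 0⟩, ⟨-2, -2⟩, ⟨0, 0⟩, ⟨0, 0⟩, ⟨0, 0⟩, ⟨0, 0⟩, ⟨0, 0⟩, ⟨0, 0⟩, ⟨1, 0⟩, ⟨0, 0⟩, ⟨0, 0⟩, ⟨0, 0⟩, ⟨0, 0⟩, ⟨0, 0⟩, ⟨0, 0⟩, ⟨-1, -2⟩, ⟨0, 0⟩, ⟨0, 0⟩, ⟨0, 0⟩],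
  [⟨-1, 0⟩, ⟨-2, -1⟩, ⟨-1, 0⟩, ⟨1, 1⟩, ⟨0, 0⟩, ⟨1, 1⟩, ⟨-2, 1⟩, ⟨-1, 1⟩, ⟨0, 0⟩, ⟨0, 0⟩, ⟨-1, -1⟩, ⟨0, 0⟩, ⟨1, 0⟩, ⟨0, 0⟩, ⟨0, 0⟩, ⟨0, 0⟩, ⟨0, 0⟩, ⟨-2, -2⟩, ⟨0, 0⟩, ⟨0, 0⟩, ⟨0, 0⟩, ⟨0, 0⟩, ⟨0, 0⟩, ⟨0, 0⟩, ⟨1, 1⟩, ⟨0, 0⟩, ⟨0, 0⟩, ⟨0, 0⟩],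
  [⟨-2, 1⟩, ⟨1, 1⟩, ⟨1, -2⟩, ⟨1, -2⟩, ⟨0, 0⟩, ⟨1, 1⟩, ⟨0, 0⟩, ⟨0, 1⟩, ⟨-1, 1⟩, ⟨0, 0⟩, ⟨-1, 0⟩, ⟨0, 0⟩, ⟨-1, 0⟩, ⟨0, 0⟩, ⟨0, 0⟩, ⟨0, 0⟩, ⟨0, 0⟩, ⟨-2, 1⟩, ⟨0, 0⟩, ⟨0, 0⟩, ⟨1, 0⟩, ⟨0, 0⟩, ⟨0, 0⟩, ⟨0, 0⟩, ⟨-2, 1⟩, ⟨0, 0⟩, ⟨0, 0⟩, ⟨0, 0⟩],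
  [⟨0, -2⟩, ⟨0, -2⟩, ⟨-2, -2⟩, ⟨-2, -2⟩, ⟨0, 0⟩, ⟨1, 0⟩, ⟨0, -2⟩, ⟨-2, -1⟩, ⟨-1, -1⟩, ⟨1, 0⟩, ⟨-2, 1⟩, ⟨0, 0⟩, ⟨0, 0⟩, ⟨0, 0⟩, ⟨0, 0⟩, ⟨0, 0⟩, ⟨0, 0⟩, ⟨1, -1⟩, ⟨0, 0⟩, ⟨0, 0⟩, ⟨0, 0⟩, ⟨0, 0⟩, ⟨0, 0⟩, ⟨0, 0⟩, ⟨-2, -2⟩, ⟨0, 0⟩, ⟨0, 0⟩, ⟨0, 0⟩],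
  [⟨1, 1⟩, ⟨-2, 0⟩, ⟨0, -2⟩, ⟨-1, 1⟩, ⟨-1, -1⟩, ⟨1, -2⟩, ⟨0, 0⟩, ⟨0, 1⟩, ⟨1, -1⟩, ⟨-1, 1⟩, ⟨-1, 1⟩, ⟨0, 0⟩, ⟨0, 0⟩, ⟨0, 0⟩, ⟨0, 0⟩, ⟨0, 0⟩, ⟨1, 0⟩, ⟨1, -2⟩, ⟨0, 0⟩, ⟨0, 0⟩, ⟨0, 0⟩, ⟨0, 0⟩, ⟨0, 0⟩, ⟨0, 0⟩, ⟨0, 0⟩, ⟨0, 0⟩, ⟨0, 0⟩, ⟨0, 0⟩],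
  [⟨1, 0⟩, ⟨-2, -2⟩, ⟨-2, 0⟩, ⟨1, 0⟩, ⟨1, 1⟩, ⟨0, -1⟩, ⟨1, 1⟩, ⟨-1, -2⟩, ⟨0, 1⟩, ⟨0, 0⟩, ⟨1, 0⟩, ⟨0, 0⟩, ⟨0, 0⟩, ⟨0, 0⟩, ⟨0, 0⟩, ⟨0, 0⟩, ⟨0, 0⟩, ⟨-1, 1⟩, ⟨0, 0⟩, ⟨0, 0⟩, ⟨0, 0⟩, ⟨0, 0⟩, ⟨0, 0⟩, ⟨0, 0⟩, ⟨-1, 1⟩, ⟨0, 0⟩, ⟨0, 0⟩, ⟨0, 0⟩],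
  [⟨-1, -1⟩, ⟨1, -1⟩, ⟨-2, -2⟩, ⟨-2, 0⟩, ⟨0, 1⟩, ⟨1, 1⟩, ⟨0, -2⟩, ⟨-1, -2⟩, ⟨0, -1⟩, ⟨1, 0⟩, ⟨-1, 1⟩, ⟨0, 0⟩, ⟨0, 0⟩, ⟨0, 0⟩, ⟨0, 0⟩, ⟨0, 0⟩, ⟨-1, 0⟩, ⟨0, -2⟩, ⟨1, 0⟩, ⟨0, 0⟩, ⟨0, 0⟩, ⟨0, 0⟩, ⟨0, 0⟩, ⟨0, 0⟩, ⟨-2, 0⟩, ⟨0, 0⟩, ⟨0, 0⟩, ⟨0, 0⟩],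
  [⟨-1, 1⟩, ⟨0, -2⟩, ⟨-1, 1⟩, ⟨-1, -1⟩, ⟨-2, 0⟩, ⟨-1, -2⟩, ⟨-2, 1⟩, ⟨1, -1⟩, ⟨0, 0⟩, ⟨-1, 0⟩, ⟨-2, -1⟩, ⟨0, 0⟩, ⟨1, 0⟩, ⟨0, 0⟩, ⟨0, 0⟩, ⟨1, 0⟩, ⟨0, 1⟩, ⟨-1, -1⟩, ⟨0, -1⟩, ⟨0, 0⟩, ⟨-2, 0⟩, ⟨0, 0⟩, ⟨0, 0⟩, ⟨0, 0⟩, ⟨1, -1⟩, ⟨0, 0⟩, ⟨0, 0⟩, ⟨0, 0⟩],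
  [⟨1, -1⟩, ⟨-2, -2⟩, ⟨-2, -1⟩, ⟨1, -2⟩, ⟨-1, 0⟩, ⟨0, 1⟩, ⟨-1, 0⟩, ⟨0, 1⟩, ⟨-2, -1⟩, ⟨-2, 0⟩, ⟨-1, -2⟩, ⟨0, 0⟩, ⟨1, -2⟩, ⟨0, 0⟩, ⟨0, 0⟩, ⟨-1, 0⟩, ⟨1, 1⟩, ⟨1, 0⟩, ⟨-1, -1⟩, ⟨0, 1⟩, ⟨1, -1⟩, ⟨0, 0⟩, ⟨0, 0⟩, ⟨0, 0⟩, ⟨-1, -1⟩, ⟨0, 0⟩, ⟨0, 0⟩, ⟨0, 0⟩],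
  [⟨1, -1⟩, ⟨0, 0⟩, ⟨-1, -2⟩, ⟨1, -2⟩, ⟨-2, -1⟩, ⟨-1, -2⟩, ⟨1, 0⟩, ⟨-2, -1⟩, ⟨1, -2⟩, ⟨-1, -1⟩, ⟨-1, 0⟩, ⟨0, 0⟩, ⟨1, -2⟩, ⟨0, 0⟩, ⟨0, 0⟩, ⟨-1, 0⟩, ⟨0, 1⟩, ⟨-1, -2⟩, ⟨0, -1⟩, ⟨-2, 1⟩, ⟨-1, -2⟩, ⟨0, 0⟩, ⟨0, 0⟩, ⟨1, 0⟩, ⟨1, -1⟩, ⟨0, 0⟩, ⟨0, 0⟩, ⟨0, 0⟩],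
  [⟨-2, -1⟩, ⟨0, -1⟩, ⟨-2, 0⟩, ⟨-2, 0⟩, ⟨-2, 1⟩, ⟨-1, 0⟩, ⟨-2, 0⟩, ⟨0, 0⟩, ⟨-1, -1⟩, ⟨-1, 0⟩, ⟨0, 1⟩, ⟨0, 0⟩, ⟨-2, 1⟩, ⟨0, 0⟩, ⟨0, 0⟩, ⟨-1, 0⟩, ⟨-1, 0⟩, ⟨1, 0⟩, ⟨1, 0⟩, ⟨-1, 0⟩, ⟨1, -2⟩, ⟨0, 0⟩, ⟨0, 0⟩, ⟨1, 0⟩, ⟨-1, 0⟩, ⟨1, 0⟩, ⟨0, 0⟩, ⟨0, 0⟩],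
  [⟨0, 1⟩, ⟨0, 1⟩, ⟨-2, 1⟩, ⟨-2, -1⟩, ⟨-2, -2⟩, ⟨-1, -1⟩, ⟨1, -1⟩, ⟨-1, 1⟩, ⟨-1, -1⟩, ⟨-2, 0⟩, ⟨-2, 0⟩, ⟨0, 0⟩, ⟨-2, -2⟩, ⟨0, 0⟩, ⟨0, 0⟩, ⟨1, -1⟩, ⟨1, 1⟩, ⟨-2, -2⟩, ⟨-1, -1⟩, ⟨-1, -1⟩, ⟨-2, 0⟩, ⟨0, 0⟩, ⟨0, 0⟩, ⟨1, 1⟩, ⟨1, 1⟩, ⟨1, 1⟩, ⟨1, -1⟩, ⟨0, 0⟩],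
  [⟨-2, -2⟩, ⟨0, -2⟩, ⟨-1, -1⟩, ⟨1, 1⟩, ⟨-1, 0⟩, ⟨0, 1⟩, ⟨1, -2⟩, ⟨1, 0⟩, ⟨-2, -2⟩, ⟨0, -2⟩, ⟨0, 0⟩, ⟨0, 0⟩, ⟨-2, -2⟩, ⟨0, 0⟩, ⟨0, 0⟩, ⟨0, -2⟩, ⟨1, 1⟩, ⟨0, 0⟩, ⟨-1, -1⟩, ⟨-2, 0⟩, ⟨0, -2⟩, ⟨0, 0⟩, ⟨0, 0⟩, ⟨0, -2⟩, ⟨-1, 0⟩, ⟨1, 0⟩, ⟨-2, 1⟩, ⟨1, 0⟩],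
  [⟨-1, -2⟩, ⟨-1, 1⟩, ⟨-1, 1⟩, ⟨-2, 1⟩, ⟨-2, -2⟩, ⟨-2, 1⟩, ⟨-2, 0⟩, ⟨0, 1⟩, ⟨0, 0⟩, ⟨-2, 0⟩, ⟨1, 1⟩, ⟨0, 0⟩, ⟨1, 0⟩, ⟨0, 0⟩, ⟨0, 0⟩, ⟨1, -2⟩, ⟨-2, 0⟩, ⟨-1, 1⟩, ⟨0, -1⟩, ⟨-2, -1⟩, ⟨1, 0⟩, ⟨1, 0⟩, ⟨0, 0⟩, ⟨-1, 1⟩, ⟨1, 0⟩, ⟨-1, -1⟩, ⟨0, -1⟩, ⟨0, 0⟩],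
  [⟨-1, -2⟩, ⟨-2, 1⟩, ⟨-1, 0⟩, ⟨-1, -2⟩, ⟨-2, 1⟩, ⟨-2, -1⟩, ⟨-2, -1⟩, ⟨-1, -2⟩, ⟨0, -2⟩, ⟨-2, 0⟩, ⟨-2, 0⟩, ⟨0, 0⟩, ⟨-2, 0⟩, ⟨0, 0⟩, ⟨0, 0⟩, ⟨-2, 0⟩, ⟨1, -1⟩, ⟨-2, 0⟩, ⟨0, -2⟩, ⟨-1, 1⟩, ⟨-2, 0⟩, ⟨0, 0⟩, ⟨0, 0⟩, ⟨0, 0⟩, ⟨-1, -1⟩, ⟨1, 1⟩, ⟨-2, 0⟩, ⟨0, 0⟩],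
  [⟨0, -2⟩, ⟨-1, 1⟩, ⟨-1, -1⟩, ⟨-1, -1⟩, ⟨-2, -1⟩, ⟨0, -2⟩, ⟨0, 0⟩, ⟨-2, 1⟩, ⟨1, 1⟩, ⟨-2, 0⟩, ⟨1, -2⟩, ⟨-1, 0⟩, ⟨1, 0⟩, ⟨1, 0⟩, ⟨0, 0⟩, ⟨1, -1⟩, ⟨1, -1⟩, ⟨-2, 1⟩, ⟨-2, -2⟩, ⟨-2, -1⟩, ⟨0, -1⟩, ⟨0, 0⟩, ⟨0, 0⟩, ⟨1, 0⟩, ⟨1, -2⟩, ⟨0, 0⟩, ⟨-2, -1⟩, ⟨0, 0⟩],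
  [⟨-1, -2⟩, ⟨-1, 0⟩, ⟨1, -2⟩, ⟨-2, 1⟩, ⟨0, -2⟩, ⟨0, 0⟩, ⟨0, -2⟩, ⟨0, 0⟩, ⟨-1, -2⟩, ⟨1, 0⟩, ⟨-2, 1⟩, ⟨1, -2⟩, ⟨1, -1⟩, ⟨0, -2⟩, ⟨-2, -2⟩, ⟨1, -1⟩, ⟨-1, -2⟩, ⟨-2, -1⟩, ⟨1, 0⟩, ⟨1, -2⟩, ⟨0, -1⟩, ⟨0, -1⟩, ⟨1, 0⟩, ⟨-2, 1⟩, ⟨1, -1⟩, ⟨-1, -1⟩, ⟨0, -2⟩, ⟨0, 0⟩],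
  [⟨1, 1⟩, ⟨0, 0⟩, ⟨-1, 1⟩, ⟨0, -2⟩, ⟨-1, 1⟩, ⟨0, 0⟩, ⟨1, 1⟩, ⟨-2, -2⟩, ⟨0, 1⟩, ⟨0, -1⟩, ⟨1, -2⟩, ⟨0, -1⟩, ⟨-2, 1⟩, ⟨0, -1⟩, ⟨-2, 1⟩, ⟨1, -2⟩, ⟨-2, -1⟩, ⟨1, 0⟩, ⟨-1, 0⟩, ⟨1, -2⟩, ⟨-2, 1⟩, ⟨1, 0⟩, ⟨0, 1⟩, ⟨0, -1⟩, ⟨-2, -2⟩, ⟨-2, -2⟩, ⟨-2, -2⟩, ⟨0, 0⟩],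
  [⟨0, 0⟩, ⟨-1, 1⟩, ⟨1, 0⟩, ⟨-2, 1⟩, ⟨-1, -1⟩, ⟨-1, -2⟩, ⟨-1, -1⟩, ⟨-2, -1⟩, ⟨-2, -2⟩, ⟨0, -1⟩, ⟨-1, 0⟩, ⟨1, -1⟩, ⟨0, 1⟩, ⟨-2, 0⟩, ⟨0, 1⟩, ⟨1, -1⟩, ⟨-1, 1⟩, ⟨0, -2⟩, ⟨-2, 0⟩, ⟨-2, -2⟩, ⟨-2, 0⟩, ⟨-2, 1⟩, ⟨-1, -2⟩, ⟨0, -2⟩, ⟨-2, 1⟩, ⟨0, -1⟩, ⟨-2, 0⟩, ⟨0, 0⟩],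
  [⟨-2, -1⟩, ⟨1, 0⟩, ⟨0, -1⟩, ⟨1, -2⟩, ⟨-1, 1⟩, ⟨-2, -1⟩, ⟨-1, -2⟩, ⟨-1, -1⟩, ⟨-2, 1⟩, ⟨-2, -1⟩, ⟨-2, 0⟩, ⟨0, -2⟩, ⟨0, 1⟩, ⟨1, -2⟩, ⟨0, 0⟩, ⟨-2, 0⟩, ⟨-2, -1⟩, ⟨1, -1⟩, ⟨-2, -1⟩, ⟨1, 1⟩, ⟨-2, -1⟩, ⟨-1, 1⟩, ⟨-1, -1⟩, ⟨1, -2⟩, ⟨-1, -2⟩, ⟨-2, -2⟩, ⟨0, -1⟩, ⟨0, 0⟩],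
  [⟨0, -2⟩, ⟨-2, -2⟩, ⟨-1, 0⟩, ⟨-1, 0⟩, ⟨-1, -2⟩, ⟨-2, -2⟩, ⟨1, -2⟩, ⟨-2, -2⟩, ⟨-2, -2⟩, ⟨1, -2⟩, ⟨1, 0⟩, ⟨-2, -2⟩, ⟨-2, 0⟩, ⟨-1, 0⟩, ⟨0, 0⟩, ⟨-1, 0⟩, ⟨-1, 0⟩, ⟨1, 0⟩, ⟨1, 0⟩, ⟨-1, 0⟩, ⟨1, -2⟩, ⟨0, 0⟩, ⟨0, 0⟩, ⟨1, 0⟩, ⟨-1, 0⟩, ⟨1, 0⟩, ⟨0, 0⟩, ⟨0, 0⟩]]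

/-- the dual vectors `G'_k` (rows). -/
def gpTab : List (List GaussianInt) := [
  [⟨1, 0⟩, ⟨0, 1⟩, ⟨0, 1⟩, ⟨0, 1⟩, ⟨0, 0⟩, ⟨0, 0⟩, ⟨0, 0⟩, ⟨0, 0⟩, ⟨0, 0⟩, ⟨0, 0⟩, ⟨0, 0⟩, ⟨0, 0⟩, ⟨0, 1⟩, ⟨0, 1⟩, ⟨-1, 0⟩, ⟨0, -1⟩, ⟨0, 0⟩, ⟨0, 0⟩, ⟨0, 0⟩, ⟨0, 0⟩, ⟨0, 1⟩, ⟨-1, 0⟩, ⟨0, -1⟩, ⟨0, 1⟩, ⟨0, 1⟩, ⟨0, -1⟩, ⟨0, 1⟩, ⟨-1, 0⟩],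
  [⟨0, 0⟩, ⟨1, 0⟩, ⟨1, 0⟩, ⟨1, -1⟩, ⟨0, 1⟩, ⟨0, -1⟩, ⟨0, 0⟩, ⟨0, 0⟩, ⟨1, 0⟩, ⟨1, 0⟩, ⟨0, -2⟩, ⟨1, 1⟩, ⟨1, 1⟩, ⟨1, 0⟩, ⟨0, 0⟩, ⟨-1, 0⟩, ⟨1, 0⟩, ⟨0, -2⟩, ⟨-1, 1⟩, ⟨-1, 0⟩, ⟨-2, 0⟩, ⟨1, -2⟩, ⟨-2, 0⟩, ⟨1, 0⟩, ⟨1, 0⟩, ⟨-2, 1⟩, ⟨-2, 1⟩, ⟨-1, -2⟩],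
  [⟨0, 0⟩, ⟨0, 0⟩, ⟨1, 0⟩, ⟨0, -1⟩, ⟨0, 0⟩, ⟨-1, 1⟩, ⟨0, -1⟩, ⟨1, 0⟩, ⟨-1, -1⟩, ⟨1, 0⟩, ⟨-2, -2⟩, ⟨1, 0⟩, ⟨-2, -2⟩, ⟨0, 1⟩, ⟨-1, 0⟩, ⟨1, -1⟩, ⟨1, -2⟩, ⟨0, 0⟩, ⟨-2, 1⟩, ⟨-2, -2⟩, ⟨0, 1⟩, ⟨0, 1⟩, ⟨0, 1⟩, ⟨-2, -1⟩, ⟨-1, -1⟩, ⟨1, -2⟩, ⟨1, 0⟩, ⟨0, 0⟩],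
  [⟨0, 0⟩, ⟨0, 0⟩, ⟨0, 0⟩, ⟨1, 1⟩, ⟨0, 1⟩, ⟨-1, 1⟩, ⟨-1, -1⟩, ⟨0, -1⟩, ⟨1, -1⟩, ⟨-1, 1⟩, ⟨1, 0⟩, ⟨0, 1⟩, ⟨1, -1⟩, ⟨-2, -2⟩, ⟨1, -2⟩, ⟨0, -1⟩, ⟨-1, 1⟩, ⟨-1, -2⟩, ⟨1, -1⟩, ⟨-2, 1⟩, ⟨0, -1⟩, ⟨1, -1⟩, ⟨0, -2⟩, ⟨0, 1⟩, ⟨-2, -2⟩, ⟨1, 0⟩, ⟨-1, -1⟩, ⟨0, -1⟩],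
  [⟨0, 0⟩, ⟨0, 0⟩, ⟨0, 0⟩, ⟨-1, -1⟩, ⟨1, -1⟩, ⟨-2, -1⟩, ⟨1, 0⟩, ⟨-1, 1⟩, ⟨0, 1⟩, ⟨0, -1⟩, ⟨0, 0⟩, ⟨0, -2⟩, ⟨0, 1⟩, ⟨-2, 1⟩, ⟨-2, -2⟩, ⟨1, 1⟩, ⟨-2, -1⟩, ⟨1, 1⟩, ⟨-2, 1⟩, ⟨-1, -1⟩, ⟨1, 1⟩, ⟨-2, 1⟩, ⟨1, -2⟩, ⟨0, -2⟩, ⟨-1, -2⟩, ⟨0, 0⟩, ⟨1, 0⟩, ⟨-1, 1⟩],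
  [⟨0, 0⟩, ⟨0, 0⟩, ⟨0, 0⟩, ⟨1, 1⟩, ⟨-1, -2⟩, ⟨-2, -2⟩, ⟨0, 0⟩, ⟨1, -2⟩, ⟨-1, 0⟩, ⟨1, -2⟩, ⟨0, 0⟩, ⟨-2, -2⟩, ⟨0, 0⟩, ⟨1, 1⟩, ⟨0, 1⟩, ⟨1, 0⟩, ⟨1, -2⟩, ⟨0, -2⟩, ⟨-1, -2⟩, ⟨-2, 0⟩, ⟨-2, -2⟩, ⟨-1, 0⟩, ⟨0, 1⟩, ⟨1, 1⟩, ⟨1, 0⟩, ⟨-1, 1⟩, ⟨1, 0⟩, ⟨0, 0⟩],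
  [⟨0, 0⟩, ⟨0, 0⟩, ⟨0, 0⟩, ⟨-1, 1⟩, ⟨-2, -1⟩, ⟨-2, -2⟩, ⟨0, 0⟩, ⟨-2, 1⟩, ⟨0, -1⟩, ⟨1, -2⟩, ⟨0, 0⟩, ⟨-1, -1⟩, ⟨-1, -1⟩, ⟨0, 0⟩, ⟨-2, 1⟩, ⟨-1, 0⟩, ⟨0, -2⟩, ⟨0, -1⟩, ⟨-1, 1⟩, ⟨0, -1⟩, ⟨-1, -1⟩, ⟨1, -2⟩, ⟨-1, -2⟩, ⟨-1, -1⟩, ⟨0, 0⟩, ⟨0, -1⟩, ⟨0, 0⟩, ⟨-2, -1⟩],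
  [⟨0, 0⟩, ⟨0, 0⟩, ⟨0, 0⟩, ⟨-2, -2⟩, ⟨-2, 0⟩, ⟨0, 0⟩, ⟨0, 0⟩, ⟨-2, -2⟩, ⟨1, -1⟩, ⟨1, -1⟩, ⟨0, 0⟩, ⟨0, 0⟩, ⟨-2, -2⟩, ⟨-2, 0⟩, ⟨-2, -2⟩, ⟨-2, -2⟩, ⟨-1, -2⟩, ⟨1, 0⟩, ⟨-1, 0⟩, ⟨0, -1⟩, ⟨-2, -1⟩, ⟨-1, 0⟩, ⟨1, 0⟩, ⟨1, -2⟩, ⟨0, 0⟩, ⟨-1, -1⟩, ⟨-2, 0⟩, ⟨-1, 1⟩],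
  [⟨0, 0⟩, ⟨0, 0⟩, ⟨0, 0⟩, ⟨0, 0⟩, ⟨1, -1⟩, ⟨-1, 1⟩, ⟨0, 0⟩, ⟨0, 0⟩, ⟨1, 1⟩, ⟨-1, -1⟩, ⟨0, 0⟩, ⟨0, 0⟩, ⟨1, -2⟩, ⟨-1, 0⟩, ⟨1, 0⟩, ⟨-2, -1⟩, ⟨-1, -1⟩, ⟨0, 0⟩, ⟨-2, -2⟩, ⟨-1, 1⟩, ⟨1, -2⟩, ⟨-1, -2⟩, ⟨0, -1⟩, ⟨-1, -2⟩, ⟨0, 0⟩, ⟨1, -1⟩, ⟨0, -2⟩, ⟨-1, 1⟩],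
  [⟨0, 0⟩, ⟨0, 0⟩, ⟨0, 0⟩, ⟨1, -1⟩, ⟨1, 1⟩, ⟨1, -1⟩, ⟨0, 0⟩, ⟨-1, -1⟩, ⟨1, -1⟩, ⟨-2, 0⟩, ⟨0, 0⟩, ⟨-2, 0⟩, ⟨0, -2⟩, ⟨-2, 0⟩, ⟨-1, 1⟩, ⟨0, 0⟩, ⟨0, 0⟩, ⟨-2, 0⟩, ⟨-1, 1⟩, ⟨0, -2⟩, ⟨1, 0⟩, ⟨-1, 0⟩, ⟨1, 0⟩, ⟨1, -2⟩, ⟨0, 0⟩, ⟨1, -1⟩, ⟨-1, 1⟩, ⟨-1, 1⟩],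
  [⟨0, 0⟩, ⟨0, 0⟩, ⟨0, 0⟩, ⟨1, -1⟩, ⟨-2, -1⟩, ⟨-2, -1⟩, ⟨0, 0⟩, ⟨-1, -1⟩, ⟨-1, 0⟩, ⟨1, -1⟩, ⟨0, 0⟩, ⟨1, -2⟩, ⟨-1, -1⟩, ⟨-2, 1⟩, ⟨1, 1⟩, ⟨0, -1⟩, ⟨1, -2⟩, ⟨-2, 0⟩, ⟨-1, 0⟩, ⟨0, 0⟩, ⟨-1, 1⟩, ⟨-2, -2⟩, ⟨1, 1⟩, ⟨-2, 0⟩, ⟨0, 0⟩, ⟨1, 0⟩, ⟨1, -2⟩, ⟨-1, -1⟩],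
  [⟨0, 0⟩, ⟨0, 0⟩, ⟨0, 0⟩, ⟨0, -2⟩, ⟨-1, 1⟩, ⟨0, -2⟩, ⟨0, 0⟩, ⟨-2, 0⟩, ⟨0, 0⟩, ⟨0, 0⟩, ⟨0, 0⟩, ⟨-1, 1⟩, ⟨-2, -2⟩, ⟨-2, 0⟩, ⟨-2, -2⟩, ⟨1, -1⟩, ⟨1, -2⟩, ⟨-2, -2⟩, ⟨0, -1⟩, ⟨-2, -2⟩, ⟨-2, -2⟩, ⟨0, 1⟩, ⟨0, -1⟩, ⟨1, 1⟩, ⟨0, 0⟩, ⟨-2, 0⟩, ⟨-2, -2⟩, ⟨1, -1⟩],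
  [⟨0, 0⟩, ⟨0, 0⟩, ⟨0, 0⟩, ⟨1, -1⟩, ⟨-1, 0⟩, ⟨-1, 0⟩, ⟨0, 0⟩, ⟨-1, -1⟩, ⟨0, 0⟩, ⟨0, 1⟩, ⟨0, 0⟩, ⟨-1, 0⟩, ⟨1, -1⟩, ⟨-2, -1⟩, ⟨1, 0⟩, ⟨-2, -2⟩, ⟨0, -1⟩, ⟨-2, 0⟩, ⟨0, -1⟩, ⟨-2, 0⟩, ⟨0, -2⟩, ⟨-2, -1⟩, ⟨1, -2⟩, ⟨1, -1⟩, ⟨0, 0⟩, ⟨-1, -2⟩, ⟨0, 1⟩, ⟨0, 0⟩],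
  [⟨0, 0⟩, ⟨0, 0⟩, ⟨0, 0⟩, ⟨0, -2⟩, ⟨1, 1⟩, ⟨0, 0⟩, ⟨0, 0⟩, ⟨-2, 0⟩, ⟨-2, 0⟩, ⟨-2, 0⟩, ⟨0, 0⟩, ⟨-2, -2⟩, ⟨0, 0⟩, ⟨0, 0⟩, ⟨-2, 1⟩, ⟨-1, -2⟩, ⟨-2, -2⟩, ⟨-2, -2⟩, ⟨-2, 1⟩, ⟨-2, 1⟩, ⟨0, 0⟩, ⟨1, 0⟩, ⟨-2, -2⟩, ⟨-2, -1⟩, ⟨0, 0⟩, ⟨-2, 0⟩, ⟨-1, -1⟩, ⟨-1, -1⟩],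
  [⟨0, 0⟩, ⟨0, 0⟩, ⟨0, 0⟩, ⟨1, -1⟩, ⟨-1, -2⟩, ⟨-1, 0⟩, ⟨0, 0⟩, ⟨-1, -1⟩, ⟨-2, 1⟩, ⟨-1, 0⟩, ⟨0, 0⟩, ⟨-2, -2⟩, ⟨1, -1⟩, ⟨-1, 0⟩, ⟨-1, 0⟩, ⟨-1, -1⟩, ⟨1, 0⟩, ⟨-2, 0⟩, ⟨1, -1⟩, ⟨-2, 1⟩, ⟨1, 1⟩, ⟨0, -2⟩, ⟨-1, 0⟩, ⟨-1, -2⟩, ⟨0, 0⟩, ⟨-1, -1⟩, ⟨-2, -2⟩, ⟨0, -2⟩],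
  [⟨0, 0⟩, ⟨0, 0⟩, ⟨0, 0⟩, ⟨0, -2⟩, ⟨-2, 1⟩, ⟨0, -1⟩, ⟨0, 0⟩, ⟨-2, 0⟩, ⟨1, -2⟩, ⟨-1, 0⟩, ⟨0, 0⟩, ⟨1, 1⟩, ⟨1, 1⟩, ⟨-1, 0⟩, ⟨-2, 0⟩, ⟨0, 1⟩, ⟨1, -2⟩, ⟨-2, -2⟩, ⟨-2, 0⟩, ⟨1, 0⟩, ⟨-1, -1⟩, ⟨0, -2⟩, ⟨0, 0⟩, ⟨1, 1⟩, ⟨0, 0⟩, ⟨-2, -2⟩, ⟨-2, -1⟩, ⟨-1, -2⟩],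
  [⟨0, 0⟩, ⟨0, 0⟩, ⟨0, 0⟩, ⟨-1, -1⟩, ⟨-2, 0⟩, ⟨1, -1⟩, ⟨0, 0⟩, ⟨-1, 1⟩, ⟨1, 1⟩, ⟨-2, -2⟩, ⟨0, 0⟩, ⟨0, 0⟩, ⟨0, -2⟩, ⟨-2, 0⟩, ⟨0, -2⟩, ⟨1, 1⟩, ⟨-2, -2⟩, ⟨0, -2⟩, ⟨0, 0⟩, ⟨-1, 1⟩, ⟨0, 0⟩, ⟨-2, 1⟩, ⟨1, -1⟩, ⟨-1, -2⟩, ⟨0, 0⟩, ⟨0, 1⟩, ⟨0, 1⟩, ⟨1, -1⟩],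
  [⟨0, 0⟩, ⟨0, 0⟩, ⟨0, 0⟩, ⟨-2, -2⟩, ⟨0, -2⟩, ⟨1, -1⟩, ⟨0, 0⟩, ⟨-2, -2⟩, ⟨-1, 1⟩, ⟨1, 1⟩, ⟨0, 0⟩, ⟨-1, -1⟩, ⟨0, -2⟩, ⟨0, 1⟩, ⟨-1, 0⟩, ⟨0, 0⟩, ⟨-1, 1⟩, ⟨0, 0⟩, ⟨-1, 1⟩, ⟨0, 0⟩, ⟨-2, 0⟩, ⟨0, -1⟩, ⟨1, 0⟩, ⟨0, 0⟩, ⟨0, 0⟩, ⟨1, -2⟩, ⟨0, -1⟩, ⟨1, -1⟩],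
  [⟨0, 0⟩, ⟨0, 0⟩, ⟨0, 0⟩, ⟨-1, 0⟩, ⟨1, 1⟩, ⟨-1, -1⟩, ⟨0, 0⟩, ⟨-2, -1⟩, ⟨-2, -2⟩, ⟨-2, 1⟩, ⟨0, 0⟩, ⟨-2, -2⟩, ⟨-2, 0⟩, ⟨0, 1⟩, ⟨1, -2⟩, ⟨-2, 1⟩, ⟨1, -2⟩, ⟨-1, -1⟩, ⟨-2, 1⟩, ⟨-2, -1⟩, ⟨1, 1⟩, ⟨-1, -1⟩, ⟨1, -2⟩, ⟨1, 1⟩, ⟨0, 0⟩, ⟨0, -1⟩, ⟨0, -1⟩, ⟨-2, -1⟩],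
  [⟨0, 0⟩, ⟨0, 0⟩, ⟨0, 0⟩, ⟨0, 0⟩, ⟨0, 0⟩, ⟨0, 0⟩, ⟨0, 0⟩, ⟨0, 0⟩, ⟨0, 0⟩, ⟨0, 0⟩, ⟨0, 0⟩, ⟨0, 0⟩, ⟨0, 0⟩, ⟨0, 0⟩, ⟨0, 0⟩, ⟨0, 0⟩, ⟨0, 0⟩, ⟨0, 0⟩, ⟨0, 0⟩, ⟨0, 0⟩, ⟨0, 0⟩, ⟨0, 0⟩, ⟨0, 0⟩, ⟨0, 0⟩, ⟨0, 0⟩, ⟨0, 0⟩, ⟨0, 0⟩, ⟨1, 0⟩],
  [⟨0, 0⟩, ⟨0, 0⟩, ⟨0, 0⟩, ⟨0, 0⟩, ⟨0, 0⟩, ⟨0, 0⟩, ⟨0, 0⟩, ⟨0, 0⟩, ⟨0, 0⟩, ⟨0, 0⟩, ⟨0, 0⟩, ⟨0, 0⟩, ⟨0, 0⟩, ⟨0, 0⟩, ⟨0, 0⟩, ⟨0, 0⟩, ⟨0, 0⟩, ⟨0, 0⟩, ⟨0, 0⟩, ⟨0, 0⟩, ⟨0, 0⟩, ⟨1, 0⟩, ⟨0, -1⟩, ⟨0, 0⟩, ⟨0, 0⟩, ⟨0, 0⟩, ⟨0, 0⟩, ⟨0, 0⟩],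
  [⟨0, 0⟩, ⟨0, 0⟩, ⟨0, 0⟩, ⟨0, 0⟩, ⟨0, 0⟩, ⟨1, 0⟩, ⟨0, 0⟩, ⟨0, 0⟩, ⟨1, 0⟩, ⟨0, -1⟩, ⟨0, 0⟩, ⟨-1, 0⟩, ⟨-1, 1⟩, ⟨1, -2⟩, ⟨-2, -1⟩, ⟨1, -1⟩, ⟨-1, 0⟩, ⟨0, 0⟩, ⟨-2, 1⟩, ⟨-2, -2⟩, ⟨-1, -1⟩, ⟨1, 1⟩, ⟨-2, -1⟩, ⟨-1, -1⟩, ⟨0, 0⟩, ⟨-1, -1⟩, ⟨-1, 1⟩, ⟨0, 1⟩],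
  [⟨0, 0⟩, ⟨0, 0⟩, ⟨0, 0⟩, ⟨1, -1⟩, ⟨0, -1⟩, ⟨-1, 0⟩, ⟨0, 0⟩, ⟨-1, -1⟩, ⟨-2, -1⟩, ⟨1, -2⟩, ⟨0, 0⟩, ⟨1, 1⟩, ⟨1, -1⟩, ⟨-1, -2⟩, ⟨0, -2⟩, ⟨1, 0⟩, ⟨1, -2⟩, ⟨-2, 0⟩, ⟨0, 0⟩, ⟨0, 0⟩, ⟨-1, -1⟩, ⟨-2, -2⟩, ⟨1, 1⟩, ⟨-2, 1⟩, ⟨0, 0⟩, ⟨0, -2⟩, ⟨0, -2⟩, ⟨-2, -2⟩],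
  [⟨0, 0⟩, ⟨0, 0⟩, ⟨0, 0⟩, ⟨-2, 0⟩, ⟨0, 0⟩, ⟨-2, -2⟩, ⟨0, 0⟩, ⟨0, -2⟩, ⟨0, 0⟩, ⟨0, -2⟩, ⟨0, 0⟩, ⟨-1, -1⟩, ⟨0, 0⟩, ⟨0, -2⟩, ⟨-1, 0⟩, ⟨-2, 0⟩, ⟨-2, 0⟩, ⟨-2, -2⟩, ⟨-2, 0⟩, ⟨0, -2⟩, ⟨-2, -2⟩, ⟨1, 1⟩, ⟨1, 0⟩, ⟨0, 0⟩, ⟨0, 0⟩, ⟨0, -2⟩, ⟨1, 1⟩, ⟨1, -1⟩],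
  [⟨0, 0⟩, ⟨0, 0⟩, ⟨0, 0⟩, ⟨1, 1⟩, ⟨-2, 1⟩, ⟨-1, 0⟩, ⟨0, 0⟩, ⟨1, -1⟩, ⟨0, 1⟩, ⟨1, 0⟩, ⟨0, 0⟩, ⟨1, -2⟩, ⟨1, -1⟩, ⟨1, -2⟩, ⟨0, -1⟩, ⟨-1, 0⟩, ⟨-1, -2⟩, ⟨0, -2⟩, ⟨0, -2⟩, ⟨-2, 0⟩, ⟨1, 1⟩, ⟨-1, 1⟩, ⟨0, -1⟩, ⟨0, -1⟩, ⟨0, 0⟩, ⟨-2, -2⟩, ⟨1, 1⟩, ⟨1, 1⟩],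
  [⟨0, 0⟩, ⟨0, 0⟩, ⟨0, 0⟩, ⟨1, 1⟩, ⟨0, -1⟩, ⟨1, -2⟩, ⟨0, 0⟩, ⟨1, -1⟩, ⟨-2, -1⟩, ⟨-1, -2⟩, ⟨0, 0⟩, ⟨-1, 0⟩, ⟨1, -1⟩, ⟨-1, 0⟩, ⟨0, 0⟩, ⟨1, -2⟩, ⟨1, 0⟩, ⟨0, -2⟩, ⟨0, -2⟩, ⟨-2, 0⟩, ⟨1, 1⟩, ⟨-1, 1⟩, ⟨0, -1⟩, ⟨-2, 1⟩, ⟨0, 0⟩, ⟨-2, -2⟩, ⟨1, 1⟩, ⟨1, 1⟩],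
  [⟨0, 0⟩, ⟨0, 0⟩, ⟨0, 0⟩, ⟨0, 0⟩, ⟨0, -1⟩, ⟨1, 0⟩, ⟨0, 0⟩, ⟨0, 0⟩, ⟨0, 1⟩, ⟨0, 1⟩, ⟨0, 0⟩, ⟨1, 1⟩, ⟨-1, 1⟩, ⟨-2, 1⟩, ⟨-1, -1⟩, ⟨0, 1⟩, ⟨-2, 1⟩, ⟨0, 0⟩, ⟨-1, 1⟩, ⟨-1, -1⟩, ⟨1, -1⟩, ⟨1, 0⟩, ⟨-2, -1⟩, ⟨0, -1⟩, ⟨0, 0⟩, ⟨-1, 1⟩, ⟨-1, 0⟩, ⟨0, -1⟩],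
  [⟨0, 0⟩, ⟨0, 0⟩, ⟨0, 0⟩, ⟨-2, -2⟩, ⟨1, -2⟩, ⟨-2, 1⟩, ⟨0, 0⟩, ⟨-2, -2⟩, ⟨-1, -2⟩, ⟨1, 0⟩, ⟨0, 0⟩, ⟨-2, -1⟩, ⟨1, 1⟩, ⟨-2, 0⟩, ⟨-2, 1⟩, ⟨1, 0⟩, ⟨1, -2⟩, ⟨0, 0⟩, ⟨-1, -1⟩, ⟨1, -1⟩, ⟨-1, -1⟩, ⟨-2, -1⟩, ⟨-2, 0⟩, ⟨1, -2⟩, ⟨0, 0⟩, ⟨-1, -1⟩, ⟨-2, 1⟩, ⟨-1, -2⟩]]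

/-- supports of the 21 words of weight 8 of the first residue code. -/
def sup8 : List (List RuIdx) := [
  [(3, 0), (3, 1), (3, 2), (3, 3), (5, 0), (5, 1), (5, 2), (5, 3)],
  [(4, 0), (4, 1), (4, 2), (4, 3), (5, 0), (5, 1), (5, 2), (5, 3)],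
  [(3, 0), (3, 1), (3, 2), (3, 3), (4, 0), (4, 1), (4, 2), (4, 3)],
  [(4, 0), (4, 1), (4, 2), (4, 3), (6, 0), (6, 1), (6, 2), (6, 3)],
  [(5, 0), (5, 1), (5, 2), (5, 3), (6, 0), (6, 1), (6, 2), (6, 3)],
  [(3, 0), (3, 1), (3, 2), (3, 3), (6, 0), (6, 1), (6, 2), (6, 3)],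
  [(1, 0), (1, 1), (1, 2), (1, 3), (6, 0), (6, 1), (6, 2), (6, 3)],
  [(1, 0), (1, 1), (1, 2), (1, 3), (3, 0), (3, 1), (3, 2), (3, 3)],
  [(1, 0), (1, 1), (1, 2), (1, 3), (5, 0), (5, 1), (5, 2), (5, 3)],
  [(1, 0), (1, 1), (1, 2), (1, 3), (4, 0), (4, 1), (4, 2), (4, 3)],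
  [(2, 0), (2, 1), (2, 2), (2, 3), (5, 0), (5, 1), (5, 2), (5, 3)],
  [(2, 0), (2, 1), (2, 2), (2, 3), (3, 0), (3, 1), (3, 2), (3, 3)],
  [(2, 0), (2, 1), (2, 2), (2, 3), (4, 0), (4, 1), (4, 2), (4, 3)],
  [(2, 0), (2, 1), (2, 2), (2, 3), (6, 0), (6, 1), (6, 2), (6, 3)],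
  [(1, 0), (1, 1), (1, 2), (1, 3), (2, 0), (2, 1), (2, 2), (2, 3)],
  [(0, 0), (0, 1), (0, 2), (0, 3), (6, 0), (6, 1), (6, 2), (6, 3)],
  [(0, 0), (0, 1), (0, 2), (0, 3), (4, 0), (4, 1), (4, 2), (4, 3)],
  [(0, 0), (0, 1), (0, 2), (0, 3), (3, 0), (3, 1), (3, 2), (3, 3)],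
  [(0, 0), (0, 1), (0, 2), (0, 3), (5, 0), (5, 1), (5, 2), (5, 3)],
  [(0, 0), (0, 1), (0, 2), (0, 3), (1, 0), (1, 1), (1, 2), (1, 3)],
  [(0, 0), (0, 1), (0, 2), (0, 3), (2, 0), (2, 1), (2, 2), (2, 3)]]

/-- supports of the 7 words of weight 4 of the second residue code. -/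
def sup4 : List (List RuIdx) := [
  [(5, 0), (5, 1), (5, 2), (5, 3)],
  [(3, 0), (3, 1), (3, 2), (3, 3)],
  [(4, 0), (4, 1), (4, 2), (4, 3)],
  [(6, 0), (6, 1), (6, 2), (6, 3)],
  [(1, 0), (1, 1), (1, 2), (1, 3)],
  [(2, 0), (2, 1), (2, 2), (2, 3)],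
  [(0, 0), (0, 1), (0, 2), (0, 3)]]

end Cfsg.Agent.Lib.Helper7.RuData
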