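import Mathlib
import Cfsg.Prelude.Def_Spor_Ru
import Cfsg.Agent.Lib.Helper7.RuData

/-!
Basic algebra for the Rudvalis lattice: the Hermitian pairing `herm`, the residue map `par`
(reduction modulo `θ = 1 + i`), Boolean tests for divisibility by powers of `θ`, and the
linearity of the four monomial maps.
-/

namespace Cfsg.Agent.Lib.Helper7.RuBase

open Cfsg Cfsg.Spor Cfsg.Agent.Lib.Helper7.RuData

/-- `θ = 1 + i`. -/
def th : GaussianInt := ⟨1, 1⟩

/-- position of a coordinate in the flat list of 28 coordinates. -/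
def idx (p : RuIdx) : ℕ := 4 * p.1.val + p.2.val

/-- the 28 coordinates, in order. -/
def idxL : List RuIdx :=
  [(0,0),(0,1),(0,2),(0,3),(1,0),(1,1),(1,2),(1,3),(2,0),(2,1),(2,2),(2,3),(3,0),(3,1),(3,2),(3,3),
   (4,0),(4,1),(4,2),(4,3),(5,0),(5,1),(5,2),(5,3),(6,0),(6,1),(6,2),(6,3)]

theorem idxL_nodup : idxL.Nodup := by decide

theorem mem_idxL : ∀ p : RuIdx, p ∈ idxL := by decide

theorem univ_eq : (Finset.univ : Finset RuIdx) = idxL.toFinset := by
  ext p; simp [mem_idxL p]

theorem sum_eq {M : Type*} [AddCommMonoid M] (f : RuIdx → M) : ∑ p, f p = (idxL.map f).sum := by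
  rw [univ_eq, List.sum_toFinset _ idxL_nodup]

/-- a vector from a flat list. -/
def ofL (l : List GaussianInt) : RuVec := fun p => l.getD (idx p) 0

/-- the exponents. -/
def m (k : Fin 28) : ℕ := mTab.getD k.val 0

/-- the check vectors. -/
def G (k : Fin 28) : RuVec := ofL (gTab.getD k.val [])

/-- the dual vectors. -/
def Gp (k : Fin 28) : RuVec := ofL (gpTab.getD k.val [])

/-- the Hermitian pairing `Σ_p x_p conj(c_p)`. -/
def herm (x c : RuVec) : GaussianInt := ∑ p, x p * star (c p)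

/-- list form of `herm`, for computation. -/
def hermC (x c : RuVec) : GaussianInt := (idxL.map fun p => x p * star (c p)).sum

theorem herm_eq (x c : RuVec) : herm x c = hermC x c := sum_eq _

theorem herm_add (x y c : RuVec) : herm (x + y) c = herm x c + herm y c := by
  simp [herm, add_mul, Finset.sum_add_distrib]

theorem herm_smul (a : GaussianInt) (x c : RuVec) : herm (a • x) c = a * herm x c := by
  simp [herm, Finset.mul_sum, mul_assoc]

theorem herm_zero (c : RuVec) : herm 0 c = 0 := by simp [herm]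

theorem herm_neg (x c : RuVec) : herm (-x) c = -herm x c := by
  simp [herm, Finset.sum_neg_distrib]

theorem herm_sum {ι : Type*} (s : Finset ι) (f : ι → RuVec) (c : RuVec) :
    herm (∑ i ∈ s, f i) c = ∑ i ∈ s, herm (f i) c := by
  simp only [herm, Finset.sum_apply, Finset.sum_mul]
  exact Finset.sum_comm

theorem herm_add_right (x y z : RuVec) : herm x (y + z) = herm x y + herm x z := by
  simp [herm, mul_add, Finset.sum_add_distrib]

theorem herm_smul_right (a : GaussianInt) (x y : RuVec) : herm x (a • y) = star a * herm x y := by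
  simp [herm, Finset.mul_sum, mul_left_comm]

theorem herm_zero_right (x : RuVec) : herm x 0 = 0 := by simp [herm]

theorem herm_star (x y : RuVec) : star (herm x y) = herm y x := by
  simp [herm, star_sum, mul_comm]

/-! ### the monomial maps are linear -/

theorem rj_add (x y : RuVec) : ruRj (x + y) = ruRj x + ruRj y := by
  funext ⟨n, t⟩
  fin_cases t <;> simp [ruRj, mul_add, add_comm]

theorem rj_smul (a : GaussianInt) (x : RuVec) : ruRj (a • x) = a • ruRj x := by
  funext ⟨n, t⟩
  fin_cases t <;> simp [ruRj, mul_left_comm]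

theorem rk_add (x y : RuVec) : ruRk (x + y) = ruRk x + ruRk y := by
  funext ⟨n, t⟩
  fin_cases t <;> simp [ruRk, mul_add, add_comm]

theorem rk_smul (a : GaussianInt) (x : RuVec) : ruRk (a • x) = a • ruRk x := by
  funext ⟨n, t⟩
  fin_cases t <;> simp [ruRk, mul_left_comm]

theorem sign_add (x y : RuVec) : ruSign (x + y) = ruSign x + ruSign y := by
  funext p
  simp only [ruSign, Pi.add_apply]
  split_ifs <;> ring

theorem sign_smul (a : GaussianInt) (x : RuVec) : ruSign (a • x) = a • ruSign x := by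
  funext p
  simp only [ruSign, Pi.smul_apply, smul_eq_mul]
  split_ifs <;> ring

theorem shift_add (x y : RuVec) : ruShift (x + y) = ruShift x + ruShift y := rfl

theorem shift_smul (a : GaussianInt) (x : RuVec) : ruShift (a • x) = a • ruShift x := rfl

/-- the four monomial maps as linear maps. -/
def rjL : RuVec →ₗ[GaussianInt] RuVec := ⟨⟨ruRj, rj_add⟩, rj_smul⟩
def rkL : RuVec →ₗ[GaussianInt] RuVec := ⟨⟨ruRk, rk_add⟩, rk_smul⟩
def signL : RuVec →ₗ[GaussianInt] RuVec := ⟨⟨ruSign, sign_add⟩, sign_smul⟩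
def shiftL : RuVec →ₗ[GaussianInt] RuVec := ⟨⟨ruShift, shift_add⟩, shift_smul⟩

/-! ### divisibility by powers of θ -/

/-- Boolean test for `θ^m ∣ z` (`m ≤ 4`). -/
def dvdB (m : ℕ) (z : GaussianInt) : Bool :=
  match m with
  | 0 => true
  | 1 => (z.re + z.im) % 2 == 0
  | 2 => z.re % 2 == 0 && z.im % 2 == 0
  | 3 => z.re % 2 == 0 && z.im % 2 == 0 && (z.re + z.im) % 4 == 0
  | _ => z.re % 4 == 0 && z.im % 4 == 0

theorem th_pow2 : th ^ 2 = ⟨0, 2⟩ := by decide
theorem th_pow3 : th ^ 3 = ⟨-2, 2⟩ := by decide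
theorem th_pow4 : th ^ 4 = ⟨-4, 0⟩ := by decide

theorem dvdB_dvd (m : ℕ) (hm : m ≤ 4) (z : GaussianInt) (h : dvdB m z = true) : th ^ m ∣ z := by
  interval_cases m
  · simp
  · simp only [dvdB, beq_iff_eq] at h
    obtain ⟨c, hc⟩ : (2 : ℤ) ∣ z.re + z.im := Int.dvd_of_emod_eq_zero h
    refine ⟨⟨c, c - z.re⟩, ?_⟩
    rw [pow_one]
    ext <;> simp [th] <;> omega
  · simp only [dvdB, Bool.and_eq_true, beq_iff_eq] at h
    obtain ⟨a, ha⟩ : (2 : ℤ) ∣ z.re := Int.dvd_of_emod_eq_zero h.1
    obtain ⟨b, hb⟩ : (2 : ℤ) ∣ z.im := Int.dvd_of_emod_eq_zero h.2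
    refine ⟨⟨b, -a⟩, ?_⟩
    rw [th_pow2]
    ext <;> simp <;> omega
  · simp only [dvdB, Bool.and_eq_true, beq_iff_eq] at h
    obtain ⟨a, ha⟩ : (2 : ℤ) ∣ z.re := Int.dvd_of_emod_eq_zero h.1.1
    obtain ⟨b, hb⟩ : (2 : ℤ) ∣ z.im := Int.dvd_of_emod_eq_zero h.1.2
    obtain ⟨c, hc⟩ : (4 : ℤ) ∣ z.re + z.im := Int.dvd_of_emod_eq_zero h.2
    refine ⟨⟨b - c, -c⟩, ?_⟩
    rw [th_pow3]
    ext <;> simp <;> omega
  · simp only [dvdB, Bool.and_eq_true, beq_iff_eq] at h
    obtain ⟨a, ha⟩ : (4 : ℤ) ∣ z.re := Int.dvd_of_emod_eq_zero h.1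
    obtain ⟨b, hb⟩ : (4 : ℤ) ∣ z.im := Int.dvd_of_emod_eq_zero h.2
    refine ⟨⟨-a, -b⟩, ?_⟩
    rw [th_pow4]
    ext <;> simp <;> omega

theorem dvd_dvdB2 (z : GaussianInt) (h : th ^ 2 ∣ z) : dvdB 2 z = true := by
  obtain ⟨w, rfl⟩ := h
  rw [th_pow2]
  simp [dvdB]

theorem th_ne_zero : th ≠ 0 := by decide

/-! ### the residue map -/

/-- reduction modulo `θ`, as a ring homomorphism to the Boolean ring `Bool`. -/
def par : GaussianInt →+* Bool where
  toFun z := Int.bodd (z.re + z.im)
  map_one' := by decide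
  map_zero' := by decide
  map_mul' z w := by
    simp only [Zsqrtd.re_mul, Zsqrtd.im_mul, Int.bodd_add, Int.bodd_mul, Int.bodd_neg]
    generalize Int.bodd z.re = a
    generalize Int.bodd z.im = b
    generalize Int.bodd w.re = c
    generalize Int.bodd w.im = d
    revert a b c d
    decide
  map_add' z w := by
    simp only [Zsqrtd.re_add, Zsqrtd.im_add, Int.bodd_add]
    generalize Int.bodd z.re = a
    generalize Int.bodd z.im = b
    generalize Int.bodd w.re = c
    generalize Int.bodd w.im = d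
    revert a b c d
    decide

theorem par_apply (z : GaussianInt) : par z = Int.bodd (z.re + z.im) := rfl

theorem par_th_mul (w : GaussianInt) : par (th * w) = false := by
  rw [par_apply]
  simp [th, Int.bodd_add]

theorem par_star (w : GaussianInt) : par (star w) = par w := by
  rw [par_apply, par_apply]
  simp [Int.bodd_add, Int.bodd_neg]

theorem th_dvd_of_par (z : GaussianInt) (h : par z = false) : th ∣ z := by
  rw [par_apply] at h
  have h2 := Int.bodd_add_div2 (z.re + z.im)
  rw [h] at h2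
  refine ⟨⟨Int.div2 (z.re + z.im), Int.div2 (z.re + z.im) - z.re⟩, ?_⟩
  ext <;> simp [th] <;> simp at h2 <;> omega

theorem norm_pos_of_par (z : GaussianInt) (h : par z = true) : 1 ≤ z.norm := by
  have h0 : 0 ≤ z.norm := Zsqrtd.norm_nonneg (by norm_num) z
  have h1 : z.norm ≠ 0 := by
    intro h2
    rw [Zsqrtd.norm_eq_zero_iff (by norm_num)] at h2
    subst h2
    simp at h
  omega

theorem norm_th_mul (z : GaussianInt) : (th * z).norm = 2 * z.norm := by
  rw [Zsqrtd.norm_mul]
  rfl

theorem ruNorm_th_smul (y : RuVec) : ruNorm (th • y) = 2 * ruNorm y := by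
  simp only [ruNorm, Pi.smul_apply, smul_eq_mul, norm_th_mul, Finset.mul_sum]

theorem ruNorm_eq (x : RuVec) : ruNorm x = (idxL.map fun p => (x p).norm).sum := sum_eq _

end Cfsg.Agent.Lib.Helper7.RuBase
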