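import Mathlib
import Cfsg.Prelude.Def_Spor_Ru
import Cfsg.Agent.Lib.Helper7.RuData
import Cfsg.Agent.Lib.Helper7.RuBase

/-!
The Rudvalis lattice is contained in the explicit lattice
`S = {x | ∀ k, θ^(m k) ∣ herm x (G k)}`.
-/

namespace Cfsg.Agent.Lib.Helper7.RuClosed

open Cfsg Cfsg.Spor Cfsg.Agent.Lib.Helper7.RuData Cfsg.Agent.Lib.Helper7.RuBase

/-- the divisibility conditions at level `t`. -/
def InS (t : ℕ) (y : RuVec) : Prop := ∀ k : Fin 28, th ^ (m k - t) ∣ herm y (G k)

theorem m_le : ∀ k : Fin 28, m k ≤ 4 := by decide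

/-- `G` and `Gp` are dual modulo 4. -/
theorem dual_tab : ∀ p ∈ idxL, ∀ q ∈ idxL,
    dvdB 4 ((if p = q then 1 else 0)
      - ((List.finRange 28).map fun k => star (G k q) * Gp k p).sum) = true := by
  decide +kernel

theorem recon_dvd (x : RuVec) (p : RuIdx) : th ^ 4 ∣ x p - ∑ k, herm x (G k) * Gp k p := by
  have h1 : ∑ k, herm x (G k) * Gp k p = ∑ q, x q * ∑ k, star (G k q) * Gp k p := by
    simp only [herm, Finset.sum_mul, Finset.mul_sum]
    rw [Finset.sum_comm]
    exact Finset.sum_congr rfl fun q _ => Finset.sum_congr rfl fun k _ => by ring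
  have h3 : x p - ∑ k, herm x (G k) * Gp k p
      = ∑ q, x q * ((if p = q then 1 else 0) - ∑ k, star (G k q) * Gp k p) := by
    rw [h1]
    simp only [mul_sub, Finset.sum_sub_distrib]
    congr 1
    simp
  rw [h3]
  refine Finset.dvd_sum fun q _ => dvd_mul_of_dvd_right ?_ _
  have := dual_tab p (mem_idxL p) q (mem_idxL q)
  rw [Fin.sum_univ_def]
  exact dvdB_dvd 4 le_rfl _ this

/-- reconstruction of a vector from its coordinates `herm x (G k)`, modulo 4. -/
theorem recon (x : RuVec) : ∃ v : RuVec, x = (∑ k, herm x (G k) • Gp k) + th ^ 4 • v := by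
  choose v hv using fun p => recon_dvd x p
  refine ⟨v, ?_⟩
  funext p
  simp only [Pi.add_apply, Finset.sum_apply, Pi.smul_apply, smul_eq_mul]
  rw [← hv p]; ring

theorem closed_of_tab (f : RuVec →ₗ[GaussianInt] RuVec)
    (hf : ∀ j k : Fin 28, dvdB (m k - m j) (hermC (f (Gp j)) (G k)) = true)
    (x : RuVec) (hx : InS 0 x) : InS 0 (f x) := by
  intro k
  obtain ⟨v, hv⟩ := recon x
  have hfx : f x = ∑ j, herm x (G j) • f (Gp j) + th ^ 4 • f v := by
    conv_lhs => rw [hv]
    simp only [map_add, map_sum, map_smul]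
  rw [hfx, herm_add, herm_sum]
  simp only [herm_smul]
  refine dvd_add (Finset.dvd_sum fun j _ => ?_) ?_
  · have h1 : th ^ (m j - 0) ∣ herm x (G j) := hx j
    have h2 : th ^ (m k - m j) ∣ herm (f (Gp j)) (G k) := by
      rw [herm_eq]; exact dvdB_dvd _ (by have := m_le k; omega) _ (hf j k)
    have h3 : th ^ (m k - 0) ∣ th ^ ((m j - 0) + (m k - m j)) := pow_dvd_pow _ (by omega)
    exact h3.trans (by rw [pow_add]; exact mul_dvd_mul h1 h2)
  · exact dvd_mul_of_dvd_left (pow_dvd_pow _ (by have := m_le k; omega)) _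

/-- the explicit lattice. -/
def S : AddSubgroup RuVec where
  carrier := {x | InS 0 x}
  add_mem' := by
    intro a b ha hb k
    rw [herm_add]; exact dvd_add (ha k) (hb k)
  zero_mem' := by intro k; rw [herm_zero]; exact dvd_zero _
  neg_mem' := by
    intro a ha k
    rw [herm_neg]; exact (dvd_neg).mpr (ha k)

theorem mem_S {x : RuVec} : x ∈ S ↔ InS 0 x := Iff.rfl

set_option maxRecDepth 100000 in
theorem tab_table : ∀ v ∈ ruTable, ∀ k : Fin 28, dvdB (m k) (hermC v (G k)) = true := by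
  decide +kernel

theorem tab_rj : ∀ j k : Fin 28, dvdB (m k - m j) (hermC (ruRj (Gp j)) (G k)) = true := by
  decide +kernel

theorem tab_rk : ∀ j k : Fin 28, dvdB (m k - m j) (hermC (ruRk (Gp j)) (G k)) = true := by
  decide +kernel

theorem tab_sign : ∀ j k : Fin 28, dvdB (m k - m j) (hermC (ruSign (Gp j)) (G k)) = true := by
  decide +kernel

theorem tab_shift : ∀ j k : Fin 28, dvdB (m k - m j) (hermC (ruShift (Gp j)) (G k)) = true := by
  decide +kernel

theorem S_closed : S ∈ ruClosed := by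
  refine ⟨fun v hv => ?_, fun v hv => ⟨?_, ?_, ?_, ?_, ?_⟩⟩
  · intro k
    rw [herm_eq]
    exact dvdB_dvd _ (m_le k) _ (tab_table v hv k)
  · intro k
    rw [herm_smul]
    exact dvd_mul_of_dvd_right (hv k) _
  · exact closed_of_tab rjL tab_rj v hv
  · exact closed_of_tab rkL tab_rk v hv
  · exact closed_of_tab signL tab_sign v hv
  · exact closed_of_tab shiftL tab_shift v hv

theorem lattice_le : ruLattice ≤ S := sInf_le S_closed

theorem inS_of_mem {x : RuVec} (hx : x ∈ ruLattice) : InS 0 x := lattice_le hx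

end Cfsg.Agent.Lib.Helper7.RuClosed
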