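import Mathlib

/-!
Residues modulo `1 + i` of the dual vectors of the Rudvalis lattice data, by coordinate.
-/

namespace Cfsg.Agent.Lib.Helper7.RuData2

/-- for each coordinate, the residues of the first 9 dual vectors. -/
def col1T : List (List Bool) := [
  [true, false, false, false, false, false, false, false, false],
  [true, true, false, false, false, false, false, false, false],
  [true, true, true, false, false, false, false, false, false],
  [true, false, true, false, false, false, false, false, false],
  [false, true, false, true, false, true, true, false, false],
  [false, true, false, false, true, false, false, false, false],
  [false, false, true, false, true, false, false, false, false],
  [false, false, true, true, false, true, true, false, false],
  [false, true, false, false, true, true, true, false, false],
  [false, true, true, false, true, true, true, false, false],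
  [false, false, false, true, false, false, false, false, false],
  [false, false, true, true, false, false, false, false, false],
  [true, false, false, false, true, false, false, false, true],
  [true, true, true, false, true, false, false, false, true],
  [true, false, true, true, false, true, true, false, true],
  [true, true, false, true, false, true, true, false, true],
  [false, true, true, false, true, true, false, true, false],
  [false, false, false, true, false, false, true, true, false],
  [false, false, true, false, true, true, false, true, false],
  [false, true, false, true, false, false, true, true, false],
  [true, false, true, true, false, false, false, true, true],
  [true, true, true, false, true, true, true, true, true],
  [true, false, true, false, true, true, true, true, true],
  [true, true, true, true, false, false, false, true, true],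
  [true, true, false, false, true, true, false, false, false],
  [true, true, true, true, false, false, true, false, false],
  [true, true, true, false, true, true, false, false, false],
  [true, true, false, true, false, false, true, false, false]]

/-- for each coordinate, the residues of the first 10 dual vectors. -/
def col2T : List (List Bool) := [
  [true, false, false, false, false, false, false, false, false, false],
  [true, true, false, false, false, false, false, false, false, false],
  [true, true, true, false, false, false, false, false, false, false],
  [true, false, true, false, false, false, false, false, false, false],
  [false, true, false, true, false, true, true, false, false, false],
  [false, true, false, false, true, false, false, false, false, false],
  [false, false, true, false, true, false, false, false, false, false],
  [false, false, true, true, false, true, true, false, false, false],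
  [false, true, false, false, true, true, true, false, false, false],
  [false, true, true, false, true, true, true, false, false, false],
  [false, false, false, true, false, false, false, false, false, false],
  [false, false, true, true, false, false, false, false, false, false],
  [true, false, false, false, true, false, false, false, true, false],
  [true, true, true, false, true, false, false, false, true, false],
  [true, false, true, true, false, true, true, false, true, false],
  [true, true, false, true, false, true, true, false, true, false],
  [false, true, true, false, true, true, false, true, false, false],
  [false, false, false, true, false, false, true, true, false, false],
  [false, false, true, false, true, true, false, true, false, false],
  [false, true, false, true, false, false, true, true, false, false],
  [true, false, true, true, false, false, false, true, true, true],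
  [true, true, true, false, true, true, true, true, true, true],
  [true, false, true, false, true, true, true, true, true, true],
  [true, true, true, true, false, false, false, true, true, true],
  [true, true, false, false, true, true, false, false, false, false],
  [true, true, true, true, false, false, true, false, false, false],
  [true, true, true, false, true, true, false, false, false, false],
  [true, true, false, true, false, false, true, false, false, false]]

end Cfsg.Agent.Lib.Helper7.RuData2
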