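import Mathlib
import Cfsg.Prelude.Def_Spor_Ru
import Cfsg.Agent.Lib.Helper7.RuData
import Cfsg.Agent.Lib.Helper7.RuBase
import Cfsg.Agent.Lib.Helper7.RuClosed

/-!
The Rudvalis lattice is even: `8 ∣ ruNorm x` (in the scaled coordinates) for every lattice vector.
-/

namespace Cfsg.Agent.Lib.Helper7.RuEven

open Cfsg Cfsg.Spor Cfsg.Agent.Lib.Helper7.RuData Cfsg.Agent.Lib.Helper7.RuBase
  Cfsg.Agent.Lib.Helper7.RuClosed

/-- basis vectors of the lattice modulo 4. -/
def B (k : Fin 28) : RuVec := th ^ (m k) • Gp k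

theorem gram_tab : ∀ j k : Fin 28, dvdB 4 (hermC (B j) (B k)) = true := by decide +kernel

theorem diag_tab : ∀ j : Fin 28,
    (hermC (B j) (B j)).re % 8 = 0 ∧ (hermC (B j) (B j)).im % 8 = 0 := by decide +kernel

theorem spanB_herm_B (x : RuVec) (hx : x ∈ Submodule.span GaussianInt (Set.range B))
    (k : Fin 28) : th ^ 4 ∣ herm x (B k) := by
  induction hx using Submodule.span_induction with
  | mem x hx =>
    obtain ⟨j, rfl⟩ := hx
    rw [herm_eq]; exact dvdB_dvd 4 le_rfl _ (gram_tab j k)
  | zero => rw [herm_zero]; exact dvd_zero _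
  | add x y _ _ hx hy => rw [herm_add]; exact dvd_add hx hy
  | smul a x _ hx => rw [herm_smul]; exact dvd_mul_of_dvd_right hx _

theorem spanB_herm (x y : RuVec) (hx : x ∈ Submodule.span GaussianInt (Set.range B))
    (hy : y ∈ Submodule.span GaussianInt (Set.range B)) : th ^ 4 ∣ herm x y := by
  induction hy using Submodule.span_induction with
  | mem y hy =>
    obtain ⟨j, rfl⟩ := hy
    exact spanB_herm_B x hx j
  | zero => rw [herm_zero_right]; exact dvd_zero _
  | add y z _ _ hy hz => rw [herm_add_right]; exact dvd_add hy hz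
  | smul a y _ hy => rw [herm_smul_right]; exact dvd_mul_of_dvd_right hy _

theorem add_star (z : GaussianInt) : z + star z = ((2 * z.re : ℤ) : GaussianInt) := by
  ext <;> simp [two_mul]

theorem th_pow4' : th ^ 4 = ((-4 : ℤ) : GaussianInt) := by
  rw [th_pow4]; ext <;> simp

theorem eight_dvd_add_star (z : GaussianInt) (h : th ^ 4 ∣ z) :
    ((8 : ℤ) : GaussianInt) ∣ z + star z := by
  obtain ⟨w, rfl⟩ := h
  rw [add_star, th_pow4]
  refine (Zsqrtd.intCast_dvd_intCast _ _).mpr ⟨-w.re, ?_⟩
  simp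
  ring

theorem spanB_even (x : RuVec) (hx : x ∈ Submodule.span GaussianInt (Set.range B)) :
    ((8 : ℤ) : GaussianInt) ∣ herm x x := by
  induction hx using Submodule.span_induction with
  | mem x hx =>
    obtain ⟨j, rfl⟩ := hx
    rw [herm_eq, Zsqrtd.intCast_dvd]
    exact ⟨Int.dvd_of_emod_eq_zero (diag_tab j).1, Int.dvd_of_emod_eq_zero (diag_tab j).2⟩
  | zero => rw [herm_zero]; exact dvd_zero _
  | add x y hx hy ihx ihy =>
    have h : herm (x + y) (x + y) = herm x x + herm y y + (herm x y + star (herm x y)) := by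
      rw [herm_star, herm_add, herm_add_right, herm_add_right]; ring
    rw [h]
    exact dvd_add (dvd_add ihx ihy) (eight_dvd_add_star _ (spanB_herm x y hx hy))
  | smul a x _ ih =>
    rw [herm_smul, herm_smul_right]
    exact dvd_mul_of_dvd_right (dvd_mul_of_dvd_right ih _) _

theorem ruNorm_cast (x : RuVec) : ((ruNorm x : ℤ) : GaussianInt) = herm x x := by
  simp only [ruNorm, herm, Int.cast_sum, Zsqrtd.norm_eq_mul_conj]

theorem even_of_inS (x : RuVec) (hx : InS 0 x) : (8 : ℤ) ∣ ruNorm x := by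
  obtain ⟨v, hv⟩ := recon x
  choose c hc using hx
  have hmem : (∑ k, c k • B k) ∈ Submodule.span GaussianInt (Set.range B) :=
    Submodule.sum_mem _ fun k _ => Submodule.smul_mem _ _ (Submodule.subset_span ⟨k, rfl⟩)
  have e : ∑ k, herm x (G k) • Gp k = ∑ k, c k • B k :=
    Finset.sum_congr rfl fun k _ => by
      rw [hc k, Nat.sub_zero, mul_comm, mul_smul]; rfl
  rw [e] at hv
  generalize (∑ k, c k • B k) = x' at hv hmem
  have h8 := spanB_even x' hmem
  rw [← Zsqrtd.intCast_dvd_intCast (d := -1), ruNorm_cast, hv]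
  have h : herm (x' + th ^ 4 • v) (x' + th ^ 4 • v)
      = herm x' x' + ((-4 : ℤ) : GaussianInt) * (herm x' v + star (herm x' v))
        + ((8 : ℤ) : GaussianInt) * (2 * herm v v) := by
    rw [herm_star, herm_add, herm_add_right, herm_add_right, herm_smul, herm_smul, herm_smul_right,
      herm_smul_right, th_pow4']
    simp only [star_intCast]
    push_cast
    ring
  rw [h, add_star]
  refine dvd_add (dvd_add h8 ?_) (dvd_mul_right _ _)
  rw [← Int.cast_mul]
  exact (Zsqrtd.intCast_dvd_intCast _ _).mpr ⟨-(herm x' v).re, by ring⟩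

end Cfsg.Agent.Lib.Helper7.RuEven
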