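import Mathlib
import Cfsg.Prelude.Def_Spor_Ru
import Cfsg.Agent.Lib.Helper7.RuData
import Cfsg.Agent.Lib.Helper7.RuData2
import Cfsg.Agent.Lib.Helper7.RuBase
import Cfsg.Agent.Lib.Helper7.RuClosed

/-!
The Rudvalis lattice has no vector of (scaled) norm 8: a descent along the powers of `θ = 1 + i`,
using the residue codes of the lattice.
-/

namespace Cfsg.Agent.Lib.Helper7.RuMin

open Cfsg Cfsg.Spor Cfsg.Agent.Lib.Helper7.RuData Cfsg.Agent.Lib.Helper7.RuData2
  Cfsg.Agent.Lib.Helper7.RuBase Cfsg.Agent.Lib.Helper7.RuClosed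

/-! ### Boolean lists -/

/-- all Boolean lists of a given length. -/
def allBools : ℕ → List (List Bool)
  | 0 => [[]]
  | n + 1 => (allBools n).flatMap fun l => [false :: l, true :: l]

theorem mem_allBools : ∀ l : List Bool, l ∈ allBools l.length
  | [] => by simp [allBools]
  | b :: l => by
    simp only [List.length_cons, allBools, List.mem_flatMap]
    refine ⟨l, mem_allBools l, ?_⟩
    cases b <;> simp

/-- dot product of two Boolean lists. -/
def dotB : List Bool → List Bool → Bool
  | a :: as, c :: cs => xor (a && c) (dotB as cs)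
  | _, _ => false

theorem sum_dotB : ∀ (n : ℕ) (a c : Fin n → Bool),
    ∑ i, a i * c i = dotB (List.ofFn a) (List.ofFn c)
  | 0, a, c => by simp [dotB]; rfl
  | n + 1, a, c => by
    rw [Fin.sum_univ_succ, List.ofFn_succ, List.ofFn_succ, dotB, sum_dotB n]
    rfl

theorem split_sum (a b : ℕ) (f g : Fin (a + b) → Bool)
    (hz : ∀ i : Fin b, f (Fin.natAdd a i) = 0) :
    ∑ k, f k * g k = dotB (List.ofFn fun i : Fin a => f (Fin.castAdd b i))
      (List.ofFn fun i : Fin a => g (Fin.castAdd b i)) := by
  rw [Fin.sum_univ_add, sum_dotB]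
  have : ∑ i : Fin b, f (Fin.natAdd a i) * g (Fin.natAdd a i) = 0 :=
    Finset.sum_eq_zero fun i _ => by rw [hz i, zero_mul]
  rw [this, add_zero]

/-- evaluate a Boolean before passing it on. -/
def forceB {α : Type} (b : Bool) (k : Bool → α) : α :=
  match b with
  | true => k true
  | false => k false

theorem forceB_eq {α : Type} (b : Bool) (k : Bool → α) : forceB b k = k b := by
  cases b <;> rfl

/-- evaluate a Boolean list before passing it on. -/
def forceBL {α : Type} : List Bool → (List Bool → α) → α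
  | [], k => k []
  | x :: xs, k => forceB x fun x' => forceBL xs fun xs' => k (x' :: xs')

theorem forceBL_eq {α : Type} (l : List Bool) (k : List Bool → α) : forceBL l k = k l := by
  induction l generalizing k with
  | nil => rfl
  | cons x xs ih => simp [forceBL, forceB_eq, ih]

/-- indicator list of a set of coordinates. -/
def indL (s : List RuIdx) : List Bool := idxL.map fun p => decide (p ∈ s)

/-! ### residues -/

theorem par_recon (y : RuVec) (p : RuIdx) :
    par (y p) = ∑ k, par (herm y (G k)) * par (Gp k p) := by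
  obtain ⟨v, hv⟩ := recon y
  have h0 : par (th ^ 4) = 0 := by decide
  have h1 : y p = ∑ k, herm y (G k) * Gp k p + th ^ 4 * v p := by
    conv_lhs => rw [hv]
    simp only [Pi.add_apply, Finset.sum_apply, Pi.smul_apply, smul_eq_mul]
  rw [h1, map_add, map_sum, map_mul, h0, zero_mul, add_zero]
  simp only [map_mul]

theorem par_zero_of_lt (y : RuVec) (t : ℕ) (hy : InS t y) (k : Fin 28) (hk : t < m k) :
    par (herm y (G k)) = 0 := by
  have h1 : th ∣ herm y (G k) := (dvd_pow_self th (by omega : m k - t ≠ 0)).trans (hy k)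
  obtain ⟨w, hw⟩ := h1
  rw [hw]
  exact par_th_mul w

theorem par_herm (y : RuVec) (k : Fin 28) :
    par (herm y (G k)) = ∑ p, par (y p) * par (G k p) := by
  simp only [herm, map_sum, map_mul, par_star]

theorem exists_th_smul (y : RuVec) (h : ∀ p, par (y p) = false) : ∃ y', y = th • y' := by
  choose y' hy' using fun p => th_dvd_of_par (y p) (h p)
  exact ⟨y', funext fun p => by rw [Pi.smul_apply, smul_eq_mul]; exact hy' p⟩

theorem inS_succ (t : ℕ) (y : RuVec) (h : InS t (th • y)) : InS (t + 1) y := by
  intro k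
  have hk := h k
  rw [herm_smul] at hk
  by_cases hlt : t < m k
  · have e : m k - t = (m k - (t + 1)) + 1 := by omega
    rw [e, pow_succ'] at hk
    exact (mul_dvd_mul_iff_left th_ne_zero).mp hk
  · have e : m k - (t + 1) = 0 := by omega
    rw [e, pow_zero]; exact one_dvd _

theorem count_le_aux (y : RuVec) : ∀ l : List RuIdx,
    (((l.map fun p => par (y p)).count true : ℕ) : ℤ) ≤ (l.map fun p => (y p).norm).sum
  | [] => by simp
  | p :: l => by
    have ih := count_le_aux y l
    simp only [List.map_cons, List.count_cons, List.sum_cons]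
    by_cases hp : par (y p) = true
    · have := norm_pos_of_par (y p) hp
      simp only [hp, beq_self_eq_true, if_true]
      push_cast
      linarith
    · have := Zsqrtd.norm_nonneg (by norm_num : (-1 : ℤ) ≤ 0) (y p)
      have hp' : par (y p) = false := by simpa using hp
      simp only [hp']
      simp only [Bool.false_eq_true, if_false, add_zero, beq_iff_eq]
      linarith

theorem count_le (y : RuVec) :
    (((idxL.map fun p => par (y p)).count true : ℕ) : ℤ) ≤ ruNorm y := by
  rw [ruNorm_eq]; exact count_le_aux y idxL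

theorem zero_off (y : RuVec) (T : Finset RuIdx) (h : ruNorm y ≤ ∑ p ∈ T, (y p).norm) :
    ∀ p, p ∉ T → y p = 0 := by
  have hnn : ∀ p ∈ Tᶜ, 0 ≤ (y p).norm := fun p _ => Zsqrtd.norm_nonneg (by norm_num) _
  have hs : ∑ p ∈ T, (y p).norm + ∑ p ∈ Tᶜ, (y p).norm = ruNorm y := Finset.sum_add_sum_compl T _
  have h0 : ∑ p ∈ Tᶜ, (y p).norm = 0 := by
    have := Finset.sum_nonneg hnn
    linarith
  intro p hp
  have := (Finset.sum_eq_zero_iff_of_nonneg hnn).mp h0 p (Finset.mem_compl.mpr hp)
  exact (Zsqrtd.norm_eq_zero_iff (by norm_num) _).mp this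

/-! ### sparse vectors with unit entries -/

/-- the vector with entries `1` or `i` on the coordinates of `s` (according to `bs`). -/
def candV : List RuIdx → List Bool → RuVec
  | q :: s, b :: bs => fun p => if p = q then (if b then gI else 1) else candV s bs p
  | _, _ => fun _ => 0

theorem candV_map (a : RuIdx → Bool) : ∀ (s : List RuIdx) (p : RuIdx),
    candV s (s.map a) p = if p ∈ s then (if a p then gI else 1) else 0
  | [], p => by simp [candV]
  | q :: s, p => by
    simp only [List.map_cons, candV, List.mem_cons]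
    by_cases h : p = q
    · subst h; simp
    · simp [h, candV_map a s p]

theorem unit_mod2 (z : GaussianInt) (h : z.norm = 1) :
    ∃ w, z = (if Int.bodd z.im then gI else 1) + th ^ 2 * w := by
  obtain ⟨a, b⟩ := z
  simp only [Zsqrtd.norm_def] at h
  have ha1 : -1 ≤ a := by nlinarith [mul_self_nonneg b]
  have ha2 : a ≤ 1 := by nlinarith [mul_self_nonneg b]
  have hb1 : -1 ≤ b := by nlinarith [mul_self_nonneg a]
  have hb2 : b ≤ 1 := by nlinarith [mul_self_nonneg a]
  rw [th_pow2]
  interval_cases a <;> interval_cases b <;> simp at h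
  · exact ⟨⟨0, 1⟩, by decide⟩
  · exact ⟨⟨-1, 0⟩, by decide⟩
  · exact ⟨0, by decide⟩
  · exact ⟨0, by decide⟩

theorem norm_pattern (y : RuVec) (s : List RuIdx) (hpar : ∀ p, par (y p) = decide (p ∈ s))
    (hsum : ∑ p, (if p ∈ s then (1 : ℤ) else 0) = ruNorm y) :
    ∀ p, (y p).norm = if p ∈ s then 1 else 0 := by
  have hnn : ∀ p ∈ (Finset.univ : Finset RuIdx),
      0 ≤ (y p).norm - (if p ∈ s then (1 : ℤ) else 0) := by
    intro p _
    by_cases hp : p ∈ s
    · have := norm_pos_of_par (y p) (by rw [hpar p]; simp [hp])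
      rw [if_pos hp]; linarith
    · have := Zsqrtd.norm_nonneg (by norm_num : (-1 : ℤ) ≤ 0) (y p)
      rw [if_neg hp]; linarith
  have h0 : ∑ p, ((y p).norm - (if p ∈ s then (1 : ℤ) else 0)) = 0 := by
    rw [Finset.sum_sub_distrib, hsum]; simp [ruNorm]
  intro p
  have := (Finset.sum_eq_zero_iff_of_nonneg hnn).mp h0 p (Finset.mem_univ p)
  linarith

theorem subcase (t : ℕ) (y : RuVec) (hy : InS t y) (s : List RuIdx)
    (hpar : ∀ p, par (y p) = decide (p ∈ s))
    (hsum : ∑ p, (if p ∈ s then (1 : ℤ) else 0) = ruNorm y) :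
    ∃ bs ∈ allBools s.length, ∀ k : Fin 28, t + 2 ≤ m k →
      dvdB 2 (hermC (candV s bs) (G k)) = true := by
  have hn := norm_pattern y s hpar hsum
  have hw : ∀ p, ∃ w, y p
      = (if p ∈ s then (if Int.bodd (y p).im then gI else 1) else 0) + th ^ 2 * w := by
    intro p
    by_cases hp : p ∈ s
    · have h1 : (y p).norm = 1 := by rw [hn p, if_pos hp]
      obtain ⟨w, hw⟩ := unit_mod2 (y p) h1
      exact ⟨w, by rw [if_pos hp]; exact hw⟩
    · have h0 : (y p).norm = 0 := by rw [hn p, if_neg hp]
      rw [Zsqrtd.norm_eq_zero_iff (by norm_num)] at h0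
      exact ⟨0, by rw [if_neg hp, h0]; simp⟩
  choose w hw using hw
  refine ⟨s.map fun p => Int.bodd (y p).im, ?_, fun k hk => ?_⟩
  · have := mem_allBools (s.map fun p => Int.bodd (y p).im)
    rwa [List.length_map] at this
  · have hyv : y = candV s (s.map fun p => Int.bodd (y p).im) + th ^ 2 • w := by
      funext p
      rw [Pi.add_apply, candV_map (fun p => Int.bodd (y p).im) s p]
      exact hw p
    have h1 : th ^ 2 ∣ herm y (G k) := (pow_dvd_pow th (by omega)).trans (hy k)
    have h2 : th ^ 2 ∣ herm (candV s (s.map fun p => Int.bodd (y p).im) + th ^ 2 • w) (G k) := by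
      rw [← hyv]; exact h1
    rw [herm_add, herm_smul] at h2
    have h3 : th ^ 2 ∣ herm (candV s (s.map fun p => Int.bodd (y p).im)) (G k) :=
      (dvd_add_left (dvd_mul_right _ _)).mp h2
    rw [← herm_eq]; exact dvd_dvdB2 _ h3

/-! ### the tables -/

/-- residues of the first 9 dual vectors at a coordinate. -/
def col1 (p : RuIdx) : List Bool := List.ofFn fun i : Fin 9 => par (Gp (Fin.castAdd 19 i) p)

/-- residues of the first 10 dual vectors at a coordinate. -/
def col2 (p : RuIdx) : List Bool := List.ofFn fun i : Fin 10 => par (Gp (Fin.castAdd 18 i) p)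

theorem col1_eq : ∀ p ∈ idxL, col1 p = col1T.getD (idx p) [] := by decide +kernel

theorem col2_eq : ∀ p ∈ idxL, col2 p = col2T.getD (idx p) [] := by decide +kernel

theorem tabm1 : ∀ i : Fin 19, 0 < m (Fin.natAdd 9 i) := by decide

theorem tabm2 : ∀ i : Fin 18, 1 < m (Fin.natAdd 10 i) := by decide

/-- the check of a word of the first code. -/
def chk1 (w : List Bool) : Bool :=
  w == indL [] || decide (8 < w.count true) || sup8.any fun s => w == indL s

/-- the check of a word of the second code. -/
def chk2 (w : List Bool) : Bool :=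
  w == indL [] || decide (4 < w.count true) || sup4.any fun s => w == indL s

theorem tab1 : ∀ es ∈ allBools 9,
    forceBL (idxL.map fun p => dotB es (col1T.getD (idx p) [])) chk1 = true := by
  decide +kernel

theorem tab2 : ∀ es ∈ allBools 10,
    forceBL (idxL.map fun p => dotB es (col2T.getD (idx p) [])) chk2 = true := by
  decide +kernel

theorem tabsum8 : ∀ s ∈ sup8, (idxL.map fun p => if p ∈ s then (1 : ℤ) else 0).sum = 8 := by
  decide +kernel

theorem tabsum4 : ∀ s ∈ sup4, (idxL.map fun p => if p ∈ s then (1 : ℤ) else 0).sum = 4 := by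
  decide +kernel

theorem tabII : ∀ s ∈ sup4, ∀ bs ∈ allBools s.length,
    ∃ k : Fin 28, 1 + 2 ≤ m k ∧ dvdB 2 (hermC (candV s bs) (G k)) = false := by
  decide +kernel

theorem tab4 : ∀ a ∈ idxL, ∃ k : Fin 28, m k = 4 ∧ par (G k a) = true := by decide +kernel

theorem tab3 : ∀ a ∈ idxL, (∃ k : Fin 28, 3 ≤ m k ∧ par (G k a) = true) ∧
    ∀ b ∈ idxL, a ≠ b → ∃ k : Fin 28, 3 ≤ m k ∧ par (G k a) ≠ par (G k b) := by
  decide +kernel

end Cfsg.Agent.Lib.Helper7.RuMin
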