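import Mathlib
import Cfsg.Prelude.Def_Spor_Ru
import Cfsg.Agent.Lib.Helper7.RuData
import Cfsg.Agent.Lib.Helper7.RuData2
import Cfsg.Agent.Lib.Helper7.RuBase
import Cfsg.Agent.Lib.Helper7.RuClosed
import Cfsg.Agent.Lib.Helper7.RuMin

/-!
Kernel table for the Rudvalis lattice: no vector with eight unit entries on the support of a minimal word of the first residue code satisfies the lattice congruences modulo 2.
-/

namespace Cfsg.Agent.Lib.Helper7.RuTabI

open Cfsg Cfsg.Spor Cfsg.Agent.Lib.Helper7.RuData Cfsg.Agent.Lib.Helper7.RuData2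
  Cfsg.Agent.Lib.Helper7.RuBase Cfsg.Agent.Lib.Helper7.RuClosed Cfsg.Agent.Lib.Helper7.RuMin

theorem tabI : ∀ s ∈ sup8, ∀ bs ∈ allBools s.length,
    ∃ k : Fin 28, 0 + 2 ≤ m k ∧ dvdB 2 (hermC (candV s bs) (G k)) = false := by
  decide +kernel

end Cfsg.Agent.Lib.Helper7.RuTabI
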