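import Mathlib
import Cfsg.Prelude.Def_Spor_Ru
import Cfsg.Agent.Lib.Helper7.RuData
import Cfsg.Agent.Lib.Helper7.RuData2
import Cfsg.Agent.Lib.Helper7.RuBase
import Cfsg.Agent.Lib.Helper7.RuClosed
import Cfsg.Agent.Lib.Helper7.RuEven
import Cfsg.Agent.Lib.Helper7.RuMin
import Cfsg.Agent.Lib.Helper7.RuTabI

/-!
The Rudvalis lattice (in the scaled coordinates of `Cfsg.Spor.ruLattice`) is even, has no vector of
norm 8, and its nonzero vectors have norm at least 16.
-/

namespace Cfsg.Agent.Lib.Helper7.RuMain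

open Cfsg Cfsg.Spor Cfsg.Agent.Lib.Helper7.RuData Cfsg.Agent.Lib.Helper7.RuData2
  Cfsg.Agent.Lib.Helper7.RuBase Cfsg.Agent.Lib.Helper7.RuClosed Cfsg.Agent.Lib.Helper7.RuMin
  Cfsg.Agent.Lib.Helper7.RuTabI

theorem level4 (w : RuVec) (hw : InS 3 w) (hn : ruNorm w = 1) : False := by
  have hall : ∀ p, par (w p) = false := by
    by_contra hcon
    push_neg at hcon
    obtain ⟨a, ha⟩ := hcon
    have ha : par (w a) = true := by simpa using ha
    have h1 := norm_pos_of_par _ ha
    have hoff := zero_off w {a} (by rw [Finset.sum_singleton, hn]; exact h1)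
    obtain ⟨k, hk, hg⟩ := tab4 a (mem_idxL a)
    have hz := par_zero_of_lt w 3 hw k (by omega)
    rw [par_herm, Finset.sum_eq_single a
      (fun p _ hp => by rw [hoff p (by simpa using hp)]; simp)
      (fun h => absurd (Finset.mem_univ a) h), ha, hg] at hz
    exact absurd hz (by decide)
  obtain ⟨w', rfl⟩ := exists_th_smul w hall
  rw [ruNorm_th_smul] at hn
  omega

theorem level3 (z : RuVec) (hz : InS 2 z) (hn : ruNorm z = 2) : ∀ p, par (z p) = false := by
  by_contra hcon
  push_neg at hcon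
  obtain ⟨a, ha⟩ := hcon
  have ha : par (z a) = true := by simpa using ha
  obtain ⟨⟨k, hk, hg⟩, hdiff⟩ := tab3 a (mem_idxL a)
  have hz0 := par_zero_of_lt z 2 hz k (by omega)
  rw [par_herm] at hz0
  have hb : ∃ b, b ≠ a ∧ par (z b) = true := by
    by_contra hno
    push_neg at hno
    rw [Finset.sum_eq_single a
      (fun p _ hp => by
        have := hno p hp
        simp only [ne_eq, Bool.not_eq_true] at this
        rw [this]; exact zero_mul _)
      (fun h => absurd (Finset.mem_univ a) h), ha, hg] at hz0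
    exact absurd hz0 (by decide)
  obtain ⟨b, hba, hb⟩ := hb
  have hoff := zero_off z {a, b} (by
    rw [Finset.sum_pair hba.symm, hn]
    have := norm_pos_of_par _ ha
    have := norm_pos_of_par _ hb
    omega)
  obtain ⟨k', hk', hg'⟩ := hdiff b (mem_idxL b) hba.symm
  have hz1 := par_zero_of_lt z 2 hz k' (by omega)
  rw [par_herm, Fintype.sum_eq_add a b hba.symm
    (fun p hp => by rw [hoff p (by simp [hp.1, hp.2])]; simp), ha, hb] at hz1
  revert hg' hz1
  generalize par (G k' a) = u
  generalize par (G k' b) = v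
  revert u v
  decide

theorem level2 (y : RuVec) (hy : InS 1 y) (hn : ruNorm y = 4) : False := by
  have henc : ∃ es ∈ allBools 10, ∀ p, par (y p) = dotB es (col2 p) := by
    refine ⟨List.ofFn fun i : Fin 10 => par (herm y (G (Fin.castAdd 18 i))), ?_, fun p => ?_⟩
    · have := mem_allBools (List.ofFn fun i : Fin 10 => par (herm y (G (Fin.castAdd 18 i))))
      rwa [List.length_ofFn] at this
    · rw [par_recon]
      exact split_sum 10 18 (fun k => par (herm y (G k))) (fun k => par (Gp k p))
        (fun i => par_zero_of_lt y 1 hy _ (tabm2 i))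
  obtain ⟨es, hes, hpar⟩ := henc
  have hcnt := count_le y
  have hmap : (idxL.map fun p => par (y p)) = idxL.map fun p => dotB es (col2T.getD (idx p) []) :=
    List.map_congr_left fun p hp => by rw [hpar p, col2_eq p hp]
  have ht := tab2 es hes
  rw [forceBL_eq, ← hmap, chk2] at ht
  simp only [Bool.or_eq_true, beq_iff_eq, decide_eq_true_eq, List.any_eq_true] at ht
  rcases ht with (h | h) | ⟨s, hs, h⟩
  · have hall : ∀ p, par (y p) = false := fun p => by
      have := (List.map_inj_left.mp h) p (mem_idxL p)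
      simpa using this
    obtain ⟨z, rfl⟩ := exists_th_smul y hall
    have hz : InS 2 z := inS_succ 1 z hy
    have hnz : ruNorm z = 2 := by rw [ruNorm_th_smul] at hn; omega
    have hall3 := level3 z hz hnz
    obtain ⟨w, rfl⟩ := exists_th_smul z hall3
    exact level4 w (inS_succ 2 w hz) (by rw [ruNorm_th_smul] at hnz; omega)
  · rw [hn] at hcnt
    omega
  · have hps : ∀ p, par (y p) = decide (p ∈ s) := fun p =>
      (List.map_inj_left.mp h) p (mem_idxL p)
    obtain ⟨bs, hbs, hk⟩ := subcase 1 y hy s hps (by rw [hn, sum_eq]; exact tabsum4 s hs)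
    obtain ⟨k, hk2, hf⟩ := tabII s hs bs hbs
    rw [hk k hk2] at hf
    exact absurd hf (by decide)

/-- no lattice vector has (scaled) norm 8. -/
theorem no_norm8 (x : RuVec) (hx : InS 0 x) (hn : ruNorm x = 8) : False := by
  have henc : ∃ es ∈ allBools 9, ∀ p, par (x p) = dotB es (col1 p) := by
    refine ⟨List.ofFn fun i : Fin 9 => par (herm x (G (Fin.castAdd 19 i))), ?_, fun p => ?_⟩
    · have := mem_allBools (List.ofFn fun i : Fin 9 => par (herm x (G (Fin.castAdd 19 i))))
      rwa [List.length_ofFn] at this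
    · rw [par_recon]
      exact split_sum 9 19 (fun k => par (herm x (G k))) (fun k => par (Gp k p))
        (fun i => par_zero_of_lt x 0 hx _ (tabm1 i))
  obtain ⟨es, hes, hpar⟩ := henc
  have hcnt := count_le x
  have hmap : (idxL.map fun p => par (x p)) = idxL.map fun p => dotB es (col1T.getD (idx p) []) :=
    List.map_congr_left fun p hp => by rw [hpar p, col1_eq p hp]
  have ht := tab1 es hes
  rw [forceBL_eq, ← hmap, chk1] at ht
  simp only [Bool.or_eq_true, beq_iff_eq, decide_eq_true_eq, List.any_eq_true] at ht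
  rcases ht with (h | h) | ⟨s, hs, h⟩
  · have hall : ∀ p, par (x p) = false := fun p => by
      have := (List.map_inj_left.mp h) p (mem_idxL p)
      simpa using this
    obtain ⟨y, rfl⟩ := exists_th_smul x hall
    exact level2 y (inS_succ 0 y hx) (by rw [ruNorm_th_smul] at hn; omega)
  · rw [hn] at hcnt
    omega
  · have hps : ∀ p, par (x p) = decide (p ∈ s) := fun p =>
      (List.map_inj_left.mp h) p (mem_idxL p)
    obtain ⟨bs, hbs, hk⟩ := subcase 0 x hx s hps (by rw [hn, sum_eq]; exact tabsum8 s hs)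
    obtain ⟨k, hk2, hf⟩ := tabI s hs bs hbs
    rw [hk k hk2] at hf
    exact absurd hf (by decide)

/-- the main statement about the Rudvalis lattice. -/
theorem main : (∀ x ∈ ruLattice, (8 : ℤ) ∣ ruNorm x) ∧ (∀ x ∈ ruLattice, ruNorm x ≠ 8) ∧
    (∀ x ∈ ruLattice, x ≠ 0 → 16 ≤ ruNorm x) ∧ ∃ x ∈ ruLattice, ruNorm x = 16 := by
  have h1 : ∀ x ∈ ruLattice, (8 : ℤ) ∣ ruNorm x := fun x hx =>
    RuEven.even_of_inS x (inS_of_mem hx)
  have h2 : ∀ x ∈ ruLattice, ruNorm x ≠ 8 := fun x hx hn => no_norm8 x (inS_of_mem hx) hn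
  refine ⟨h1, h2, fun x hx hx0 => ?_, ?_⟩
  · obtain ⟨c, hc⟩ := h1 x hx
    have h8 := h2 x hx
    have hnn : 0 ≤ ruNorm x := Finset.sum_nonneg fun p _ => Zsqrtd.norm_nonneg (by norm_num) _
    have hne : ruNorm x ≠ 0 := by
      intro h0
      apply hx0
      funext p
      have := (Finset.sum_eq_zero_iff_of_nonneg
        (fun p _ => Zsqrtd.norm_nonneg (by norm_num : (-1 : ℤ) ≤ 0) (x p))).mp h0 p
        (Finset.mem_univ p)
      exact (Zsqrtd.norm_eq_zero_iff (by norm_num) _).mp this
    omega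
  · obtain ⟨v, hv⟩ : ∃ v, v ∈ ruTable ∧ ruNorm v = 16 := by
      refine ⟨ruTable.headI, ?_, ?_⟩
      · simp [ruTable]
      · rw [ruNorm_eq]; decide +kernel
    refine ⟨v, ?_, hv.2⟩
    rw [ruLattice, AddSubgroup.mem_sInf]
    exact fun L hL => hL.1 v hv.1

end Cfsg.Agent.Lib.Helper7.RuMain
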