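import Mathlib
import Cfsg.Agent.Lib.Helper63.S66Stmt

set_option autoImplicit false

/-!
# S1366 piece HALLKS (second seat): if all primes of `|K|` are in `σ(H)`, then `K*` is a Hall
`κ(H)`-subgroup of `H`.
-/

namespace Cfsg.Agent.Lib.Helper7.S66HALLKS

open Cfsg Cfsg.Agent.Lib.Helper9.S51IStmt Cfsg.Agent.Lib.Helper63.S66Stmt

universe u

/-- if `B` centralizes `A`, every element of `A ⊔ B` is a product `a * b`. -/
theorem mem_sup_of_centralizes {G : Type u} [Group G] (A B : Subgroup G)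
    (hc : ∀ a ∈ A, ∀ b ∈ B, a * b = b * a) {g : G} (hg : g ∈ A ⊔ B) :
    ∃ a ∈ A, ∃ b ∈ B, g = a * b := by
  let T : Subgroup G :=
    { carrier := {g | ∃ a ∈ A, ∃ b ∈ B, g = a * b}
      one_mem' := ⟨1, A.one_mem, 1, B.one_mem, by simp⟩
      mul_mem' := by
        rintro _ _ ⟨a, ha, b, hb, rfl⟩ ⟨a', ha', b', hb', rfl⟩
        refine ⟨a * a', A.mul_mem ha ha', b * b', B.mul_mem hb hb', ?_⟩
        have h1 : a' * b = b * a' := hc a' ha' b hb
        calc a * b * (a' * b') = a * (b * a') * b' := by simp only [mul_assoc]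
          _ = a * (a' * b) * b' := by rw [h1]
          _ = a * a' * (b * b') := by simp only [mul_assoc]
      inv_mem' := by
        rintro _ ⟨a, ha, b, hb, rfl⟩
        refine ⟨a⁻¹, A.inv_mem ha, b⁻¹, B.inv_mem hb, ?_⟩
        have h1 : a * b = b * a := hc a ha b hb
        rw [h1, mul_inv_rev] }
  have hA : A ≤ T := fun a ha => ⟨a, ha, 1, B.one_mem, by simp⟩
  have hB : B ≤ T := fun b hb => ⟨1, A.one_mem, b, hb, by simp⟩
  exact (sup_le hA hB) hg

theorem main : KCyc.{u} → HallGe.{u} → KsKap.{u} → HallZ.{u} → ZLe.{u} → HallKs.{u} := by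
  intro hKCyc hHallGe hKsKap hHallZ hZLe G _ _ hG M K U H x p cfg hsig
  have hZ := hZLe hG M K U H x p cfg
  have hKsH : Ks M K ≤ H := le_trans le_sup_right hZ.1
  have hkap := hKsKap hG M K U H x p cfg
  obtain ⟨K₁, hK₁, hle⟩ := hHallGe hG H (Ks M K) cfg.hH hKsH hkap
  have hcyc : IsCyclic K₁ := hKCyc hG H cfg.hH K₁ hK₁
  have hK₁Z := (hHallZ hG M K U H x p cfg K₁ hK₁ hcyc hle).1
  have hcomm : ∀ a ∈ K, ∀ b ∈ Ks M K, a * b = b * a := by
    intro a ha b hb
    have hb' : b ∈ Subgroup.centralizer (K : Set G) := hb.2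
    exact (Subgroup.mem_centralizer_iff.mp hb') a ha
  have hK₁Ks : K₁ ≤ Ks M K := by
    intro k₁ hk₁
    obtain ⟨k, hk, c, hc, rfl⟩ := mem_sup_of_centralizes K (Ks M K) hcomm (hK₁Z hk₁)
    have hcK₁ : c ∈ K₁ := hle hc
    have hkK₁ : k ∈ K₁ := by
      have := K₁.mul_mem hk₁ (K₁.inv_mem hcK₁)
      simpa using this
    have hk1 : k = 1 := by
      by_contra hne
      have hord : orderOf k ≠ 1 := fun h => hne (orderOf_eq_one_iff.mp h)
      obtain ⟨q, hq, hqd⟩ := Nat.exists_prime_and_dvd hord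
      have h1 : orderOf k ∣ Nat.card K := by
        have := Subgroup.orderOf_dvd_natCard K hk
        exact this
      have h2 : orderOf k ∣ Nat.card K₁ := Subgroup.orderOf_dvd_natCard K₁ hkK₁
      have hqs : q ∈ Cfsg.sigma H := hsig q hq (dvd_trans hqd h1)
      have hqk : q ∈ Cfsg.kappa H := hK₁.2.1 q hq (dvd_trans hqd h2)
      exact hqk.2.2.1 hqs
    rw [hk1, one_mul]
    exact hc
  have heq : K₁ = Ks M K := le_antisymm hK₁Ks hle
  rw [← heq]
  exact hK₁

end Cfsg.Agent.Lib.Helper7.S66HALLKS
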