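import Mathlib
import Cfsg.Agent.Lib.Helper40.SFStmt

set_option autoImplicit false

/-!
# S5664 piece START (second seat): a non-spread-preserving `g` gives data of rank between
`1` and `r - 1`.
-/

namespace Cfsg.Agent.Lib.Helper7.SFSTART

open Cfsg.Agent.Lib.Helper40.SFStmt

universe u

theorem main (h : Sep.{u}) : Start.{u} := by
  intro F L _ _ _ _ n g hg
  have hg' : ∃ (x : W n L) (a : L), ∀ a' : L, g (a • x) ≠ a' • g x := by
    by_contra hcon
    apply hg
    intro x a
    by_contra hcon2
    exact hcon ⟨x, a, fun a' ha' => hcon2 ⟨a', ha'⟩⟩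
  obtain ⟨x, a, hxa⟩ := hg'
  obtain ⟨u, hu0, hu1⟩ := h L n (g x) (g (a • x)) hxa
  refine ⟨x, u, ?_, ?_⟩
  · -- the range is nonzero
    have hmem : theta g x u a ∈ LinearMap.range (theta g x u) := LinearMap.mem_range_self _ a
    have hne : (⟨theta g x u a, hmem⟩ : LinearMap.range (theta g x u)) ≠ 0 := by
      intro h0
      apply hu1
      have := congrArg Subtype.val h0
      simpa [theta_apply] using this
    have hpos : 0 < Module.finrank F (LinearMap.range (theta g x u)) :=
      Module.finrank_pos_iff_exists_ne_zero.mpr ⟨_, hne⟩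
    exact hpos
  · have hker : (1 : L) ∈ LinearMap.ker (theta g x u) := by
      rw [LinearMap.mem_ker, theta_apply, one_smul]
      exact hu0
    have hne : (⟨1, hker⟩ : LinearMap.ker (theta g x u)) ≠ 0 := by
      intro h0
      have := congrArg Subtype.val h0
      exact one_ne_zero this
    have hpos : 0 < Module.finrank F (LinearMap.ker (theta g x u)) :=
      Module.finrank_pos_iff_exists_ne_zero.mpr ⟨_, hne⟩
    have hrn := LinearMap.finrank_range_add_finrank_ker (theta g x u)
    unfold rk
    omega

end Cfsg.Agent.Lib.Helper7.SFSTART
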